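import Mathlib
import Cfsg.Agent.H1.CyclicMax

set_option autoImplicit false

namespace Cfsg.H1

open Subgroup
open scoped commutatorElement

/-- geometric sums of a number `≡ 1 (mod p)`, `p` odd: same `p`-adic valuation as the length -/
theorem geomSum_dvd_iff {p : ℕ} [hp : Fact p.Prime] (h2 : p ≠ 2) {ρ : ℕ} (hρ : ρ ≡ 1 [MOD p])
    (k j : ℕ) : p ^ j ∣ ∑ i ∈ Finset.range k, ρ ^ i ↔ p ^ j ∣ k := by
  rcases Nat.eq_zero_or_pos k with rfl | hk
  · simp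
  have hodd : Odd p := hp.out.odd_of_ne_two h2
  rcases Nat.lt_or_ge ρ 2 with h | h
  · interval_cases ρ
    · exfalso
      have := (Nat.modEq_zero_iff_dvd.1 hρ.symm)
      exact hp.out.one_lt.ne' (Nat.dvd_one.1 this)
    · simp
  have h1 : (∑ i ∈ Finset.range k, ρ ^ i) * (ρ - 1) = ρ ^ k - 1 :=
    geom_sum_mul_of_one_le (by omega) k
  have hd : p ∣ ρ - 1 := (Nat.modEq_iff_dvd' (by omega)).1 hρ.symm
  have hnd : ¬ p ∣ ρ := by
    intro hh
    have h3 : p ∣ 1 := by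
      have := Nat.dvd_sub hh hd
      have h4 : ρ - (ρ - 1) = 1 := by omega
      rwa [h4] at this
    exact hp.out.one_lt.ne' (Nat.dvd_one.1 h3)
  have h3 := padicValNat.pow_sub_pow (p := p) hodd (x := ρ) (y := 1) (by omega) hd hnd hk.ne'
  rw [one_pow, ← h1] at h3
  have hS : (∑ i ∈ Finset.range k, ρ ^ i) ≠ 0 := by
    intro h0
    rw [h0, zero_mul] at h1
    have : 1 < ρ ^ k := Nat.one_lt_pow hk.ne' (by omega)
    omega
  rw [padicValNat.mul hS (by omega)] at h3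
  rw [padicValNat_dvd_iff_le hS, padicValNat_dvd_iff_le hk.ne']
  omega

theorem conj_pow_of_conj {R : Type*} [Group R] {x c : R} {ρ : ℕ} (h : x * c * x⁻¹ = c ^ ρ) (m : ℕ) :
    x * c ^ m * x⁻¹ = c ^ (ρ * m) := by
  rw [← conj_pow, h, pow_mul]

/-- iterating conjugation: `x^k g x^{-k} = c^{1+ρ+…+ρ^{k-1}} g` -/
theorem conj_pow_eq_geomSum {R : Type*} [Group R] {x g c : R} {ρ : ℕ} (hg : x * g * x⁻¹ = c * g)
    (hc : x * c * x⁻¹ = c ^ ρ) (k : ℕ) :
    x ^ k * g * (x ^ k)⁻¹ = c ^ (∑ i ∈ Finset.range k, ρ ^ i) * g := by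
  induction k with
  | zero => simp
  | succ k ih =>
    calc x ^ (k + 1) * g * (x ^ (k + 1))⁻¹ = x * (x ^ k * g * (x ^ k)⁻¹) * x⁻¹ := by
          rw [pow_succ']; group
      _ = (x * c ^ (∑ i ∈ Finset.range k, ρ ^ i) * x⁻¹) * (x * g * x⁻¹) := by rw [ih]; group
      _ = c ^ (ρ * ∑ i ∈ Finset.range k, ρ ^ i) * (c * g) := by rw [conj_pow_of_conj hc, hg]
      _ = c ^ (∑ i ∈ Finset.range (k + 1), ρ ^ i) * g := by
          rw [← mul_assoc, ← pow_succ, Finset.sum_range_succ', Finset.mul_sum]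
          congr 2
          simp only [pow_zero, add_left_inj]
          apply Finset.sum_congr rfl
          intro i _
          rw [pow_succ']

/-- a `p`-element normalising `⟨c⟩` acts on it by a power `≡ 1 (mod p)` -/
theorem exists_conj_eq_pow_modEq_one {R : Type*} [Group R] {p : ℕ} [hp : Fact p.Prime]
    (hR : IsPGroup p R) {x c : R} (h : x * c * x⁻¹ ∈ zpowers c) :
    ∃ ρ : ℕ, ρ ≡ 1 [MOD p] ∧ x * c * x⁻¹ = c ^ ρ := by
  by_cases hc1 : c = 1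
  · subst hc1
    exact ⟨1, rfl, by simp⟩
  obtain ⟨m, hm⟩ := hR c
  have hfin : IsOfFinOrder c := isOfFinOrder_iff_pow_eq_one.2 ⟨p ^ m, pow_pos hp.out.pos _, hm⟩
  obtain ⟨ρ, hρ⟩ := (IsOfFinOrder.mem_powers_iff_mem_zpowers hfin).2 h
  refine ⟨ρ, ?_, hρ.symm⟩
  obtain ⟨N, hN⟩ := hR x
  have h1 := conj_pow_eq_pow_pow hρ.symm (p ^ N)
  rw [hN] at h1
  simp only [one_mul, inv_one, mul_one] at h1
  have h2 : c ^ (ρ ^ p ^ N) = c ^ 1 := by rw [← h1, pow_one]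
  rw [pow_eq_pow_iff_modEq] at h2
  have hpd : p ∣ orderOf c := by
    obtain ⟨j, -, hj⟩ := (Nat.dvd_prime_pow hp.out).1 (orderOf_dvd_of_pow_eq_one hm)
    rcases j with _ | j
    · rw [pow_zero, orderOf_eq_one_iff] at hj
      exact absurd hj hc1
    · rw [hj]; exact dvd_pow_self p (by omega)
  have h3 : ρ ^ p ^ N ≡ 1 [MOD p] := h2.of_dvd hpd
  rw [← ZMod.natCast_eq_natCast_iff] at h3 ⊢
  push_cast at h3 ⊢
  rwa [ZMod.pow_card_pow] at h3

/-- **Master lemma**: in a `p`-group, `p` odd, if `x` normalises `⟨[x,g]⟩` then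
`x^k` commutes with `g` iff the order of `[x,g]` divides `k`. -/
theorem pow_commute_iff {R : Type*} [Group R] {p : ℕ} [hp : Fact p.Prime] (h2 : p ≠ 2)
    (hR : IsPGroup p R) {x g : R} (h : x * ⁅x, g⁆ * x⁻¹ ∈ zpowers ⁅x, g⁆) (k : ℕ) :
    Commute (x ^ k) g ↔ orderOf ⁅x, g⁆ ∣ k := by
  obtain ⟨ρ, hρ1, hρ⟩ := exists_conj_eq_pow_modEq_one hR h
  have hg : x * g * x⁻¹ = ⁅x, g⁆ * g := by rw [commutatorElement_def]; group
  have h1 := conj_pow_eq_geomSum hg hρ k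
  obtain ⟨j, hj⟩ := (IsPGroup.iff_orderOf.1 hR) ⁅x, g⁆
  rw [hj, ← geomSum_dvd_iff h2 hρ1 k j, ← hj, orderOf_dvd_iff_pow_eq_one]
  constructor
  · intro hc
    have h3 : x ^ k * g * (x ^ k)⁻¹ = g := by rw [hc.eq]; group
    rw [h3] at h1
    exact (mul_eq_right.1 h1.symm)
  · intro hc
    rw [hc, one_mul] at h1
    exact mul_inv_eq_iff_eq_mul.1 h1

end Cfsg.H1
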