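import Mathlib
import Cfsg.Agent.H1.Meta1
import Cfsg.Prelude.Def_OddOrderLocal

set_option autoImplicit false

namespace Cfsg.H1

open Subgroup
open scoped commutatorElement

/-- a generating pair of a metacyclic group -/
structure MCGen {G : Type*} [Group G] (a b : G) : Prop where
  normal : (zpowers a).Normal
  gen : closure {a, b} = ⊤

variable {G : Type*} [Group G]

theorem exists_mcGen (h : Cfsg.IsMetacyclic G) : ∃ a b : G, MCGen a b := by
  obtain ⟨N, hN, hc, hq⟩ := h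
  obtain ⟨a, ha⟩ := hc.exists_generator
  obtain ⟨β, hβ⟩ := hq.exists_generator
  obtain ⟨b, rfl⟩ := QuotientGroup.mk_surjective β
  have hNa : zpowers (a : G) = N := by
    ext x
    constructor
    · rintro ⟨k, rfl⟩
      exact N.zpow_mem a.2 k
    · intro hx
      obtain ⟨k, hk⟩ := ha ⟨x, hx⟩
      exact ⟨k, by simpa using congrArg Subtype.val hk⟩
  refine ⟨a, b, by rw [hNa]; exact hN, ?_⟩
  rw [eq_top_iff]
  intro g _
  obtain ⟨k, hk⟩ := hβ (g : G ⧸ N)
  have h1 : (b ^ k)⁻¹ * g ∈ N := by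
    rw [← QuotientGroup.eq]
    simpa using hk
  rw [← hNa] at h1
  have h2 : g = b ^ k * ((b ^ k)⁻¹ * g) := by group
  rw [h2]
  exact mul_mem (zpow_mem (subset_closure (by simp)) k)
    ((zpowers_le.2 (subset_closure (by simp))) h1)

theorem MCGen.conj_mem {a b : G} (h : MCGen a b) {c : G} (hc : c ∈ zpowers a) (x : G) :
    x * c * x⁻¹ ∈ zpowers c := by
  obtain ⟨j, rfl⟩ := hc
  obtain ⟨i, hi⟩ := h.normal.conj_mem a (mem_zpowers a) x
  refine ⟨i, ?_⟩
  simp only at hi ⊢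
  rw [← conj_zpow, ← hi, ← zpow_mul, ← zpow_mul, mul_comm]

theorem MCGen.normal_zpowers {a b : G} (h : MCGen a b) {c : G} (hc : c ∈ zpowers a) :
    (zpowers c).Normal := by
  refine ⟨fun n hn g => ?_⟩
  obtain ⟨j, rfl⟩ := hn
  simp only
  rw [← conj_zpow]
  exact zpow_mem (h.conj_mem hc g) j

theorem commutator_le_of_gen {N : Subgroup G} [N.Normal] {a b : G} (hgen : closure {a, b} = ⊤)
    (h : ⁅a, b⁆ ∈ N) : commutator G ≤ N := by
  rw [← Subgroup.Normal.quotient_commutative_iff_commutator_le]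
  have hab : (a : G ⧸ N) * (b : G ⧸ N) = (b : G ⧸ N) * (a : G ⧸ N) := by
    rw [← QuotientGroup.mk_mul, ← QuotientGroup.mk_mul, QuotientGroup.eq]
    have : (a * b)⁻¹ * (b * a) = b⁻¹ * (a⁻¹ * ⁅a, b⁆⁻¹ * a⁻¹⁻¹) * b⁻¹⁻¹ := by
      rw [commutatorElement_def]; group
    rw [this]
    exact ‹N.Normal›.conj_mem _ (‹N.Normal›.conj_mem _ (N.inv_mem h) _) _
  have h1 : closure ({(a : G ⧸ N), (b : G ⧸ N)} : Set (G ⧸ N)) = ⊤ := by
    have := congrArg (Subgroup.map (QuotientGroup.mk' N)) hgen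
    rw [MonoidHom.map_closure, Subgroup.map_top_of_surjective _ (QuotientGroup.mk'_surjective N),
      Set.image_pair] at this
    exact this
  have h2 : IsMulCommutative (closure ({(a : G ⧸ N), (b : G ⧸ N)} : Set (G ⧸ N))) := by
    apply isMulCommutative_closure
    rintro x (rfl | rfl) y (rfl | rfl)
    · rfl
    · exact hab
    · exact hab.symm
    · rfl
  refine ⟨⟨fun x y => ?_⟩⟩
  have hx : x ∈ closure ({(a : G ⧸ N), (b : G ⧸ N)} : Set (G ⧸ N)) := by rw [h1]; trivial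
  have hy : y ∈ closure ({(a : G ⧸ N), (b : G ⧸ N)} : Set (G ⧸ N)) := by rw [h1]; trivial
  have := h2.is_comm.comm ⟨x, hx⟩ ⟨y, hy⟩
  exact congrArg Subtype.val this

theorem MCGen.comm_mem {a b : G} (h : MCGen a b) : ⁅b, a⁆ ∈ zpowers a := by
  rw [commutatorElement_def]
  exact mul_mem (h.normal.conj_mem a (mem_zpowers a) b) (inv_mem (mem_zpowers a))

theorem MCGen.commutator_eq {a b : G} (h : MCGen a b) : commutator G = zpowers ⁅b, a⁆ := by
  apply le_antisymm
  · haveI := h.normal_zpowers h.comm_mem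
    apply commutator_le_of_gen h.gen
    rw [← commutatorElement_inv b a]
    exact inv_mem (mem_zpowers _)
  · rw [zpowers_le, _root_.commutator_def]
    exact commutator_mem_commutator (mem_top b) (mem_top a)

theorem MCGen.commutator_le {a b : G} (h : MCGen a b) : commutator G ≤ zpowers a := by
  rw [h.commutator_eq, zpowers_le]
  exact h.comm_mem

theorem MCGen.comm_mem' {a b : G} (h : MCGen a b) (x g : G) : ⁅x, g⁆ ∈ zpowers a := by
  apply h.commutator_le
  rw [_root_.commutator_def]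
  exact commutator_mem_commutator (mem_top x) (mem_top g)

theorem comm_mem_commutator (x g : G) : ⁅x, g⁆ ∈ commutator G := by
  rw [_root_.commutator_def]
  exact commutator_mem_commutator (mem_top x) (mem_top g)

section pgroup

variable {p : ℕ} [hp : Fact p.Prime]

theorem MCGen.pow_commute_iff (h2 : p ≠ 2) (hG : IsPGroup p G) {a b : G} (h : MCGen a b)
    (x g : G) (k : ℕ) : Commute (x ^ k) g ↔ orderOf ⁅x, g⁆ ∣ k :=
  Cfsg.H1.pow_commute_iff h2 hG (h.conj_mem (h.comm_mem' x g) x) k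

theorem MCGen.pow_conj_eq_iff (h2 : p ≠ 2) (hG : IsPGroup p G) {a b : G} (h : MCGen a b)
    (x g : G) (k l : ℕ) :
    x ^ k * g * (x ^ k)⁻¹ = x ^ l * g * (x ^ l)⁻¹ ↔ k ≡ l [MOD orderOf ⁅x, g⁆] := by
  wlog hkl : k ≤ l generalizing k l
  · rw [eq_comm, this l k (by omega)]
    exact ⟨Nat.ModEq.symm, Nat.ModEq.symm⟩
  obtain ⟨d, rfl⟩ := Nat.exists_eq_add_of_le hkl
  rw [Nat.modEq_iff_dvd' hkl, Nat.add_sub_cancel_left, ← h.pow_commute_iff h2 hG x g d, pow_add]
  constructor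
  · intro e
    have h3 : g = x ^ d * g * (x ^ d)⁻¹ := by
      have := congrArg (fun t => (x ^ k)⁻¹ * t * x ^ k) e
      calc g = (x ^ k)⁻¹ * (x ^ k * g * (x ^ k)⁻¹) * x ^ k := by group
        _ = (x ^ k)⁻¹ * (x ^ k * x ^ d * g * (x ^ k * x ^ d)⁻¹) * x ^ k := this
        _ = x ^ d * g * (x ^ d)⁻¹ := by group
    exact (mul_inv_eq_iff_eq_mul.1 h3.symm)
  · intro e
    have h3 : x ^ d * g * (x ^ d)⁻¹ = g := by rw [e.eq]; group
    calc x ^ k * g * (x ^ k)⁻¹ = x ^ k * (x ^ d * g * (x ^ d)⁻¹) * (x ^ k)⁻¹ := by rw [h3]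
      _ = x ^ k * x ^ d * g * (x ^ k * x ^ d)⁻¹ := by group

end pgroup

/-- bounding an index from above by an "injective modulo `H`" map -/
theorem index_le_card_of_forall {H : Subgroup G} {X : Type*} [Finite X] (f : G → X)
    (hf : ∀ g g', f g = f g' → g⁻¹ * g' ∈ H) : H.index ≤ Nat.card X := by
  rw [Subgroup.index]
  apply Nat.card_le_card_of_injective (fun q : G ⧸ H => f q.out)
  intro q q' e
  have := hf _ _ e
  rw [← QuotientGroup.eq, QuotientGroup.out_eq', QuotientGroup.out_eq'] at this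
  exact this

/-- bounding an index from below -/
theorem card_le_index_of_forall [Finite G] {H : Subgroup G} {X : Type*} (f : X → G)
    (hf : ∀ x x', (f x)⁻¹ * f x' ∈ H → x = x') : Nat.card X ≤ H.index := by
  rw [Subgroup.index]
  apply Nat.card_le_card_of_injective (fun x : X => (f x : G ⧸ H))
  intro x x' e
  exact hf _ _ (QuotientGroup.eq.1 e)

theorem mem_center_of_gen {a b z : G} (hgen : closure {a, b} = ⊤) (ha : z * a = a * z)
    (hb : z * b = b * z) : z ∈ center G := by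
  have h1 : closure {a, b} ≤ centralizer {z} := by
    rw [closure_le]
    rintro y (rfl | rfl)
    · exact mem_centralizer_singleton_iff.2 ha.symm
    · exact mem_centralizer_singleton_iff.2 hb.symm
  rw [mem_center_iff]
  intro g
  have : g ∈ centralizer {z} := h1 (by rw [hgen]; trivial)
  exact (mem_centralizer_singleton_iff.1 this)

theorem eq_conj_of_comm_eq {g g' y : G} (e : ⁅g, y⁆ = ⁅g', y⁆) : (g⁻¹ * g') * y = y * (g⁻¹ * g') := by
  rw [commutatorElement_def, commutatorElement_def] at e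
  have h1 : g * y * g⁻¹ = g' * y * g'⁻¹ := mul_right_cancel e
  calc g⁻¹ * g' * y = g⁻¹ * (g' * y * g'⁻¹) * g' := by group
    _ = g⁻¹ * (g * y * g⁻¹) * g' := by rw [h1]
    _ = y * (g⁻¹ * g') := by group

section pgroup2

variable [Finite G] {p : ℕ} [hp : Fact p.Prime]

omit [Finite G] in
theorem MCGen.card_commutator {a b : G} (h : MCGen a b) :
    Nat.card (commutator G) = orderOf ⁅b, a⁆ := by
  rw [h.commutator_eq, Nat.card_zpowers]

theorem MCGen.index_center (h2 : p ≠ 2) (hG : IsPGroup p G) {a b : G} (h : MCGen a b) :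
    (center G).index = Nat.card (commutator G) ^ 2 := by
  apply le_antisymm
  · have := index_le_card_of_forall (H := center G) (X := commutator G × commutator G)
      (fun g => (⟨⁅g, a⁆, comm_mem_commutator g a⟩, ⟨⁅g, b⁆, comm_mem_commutator g b⟩))
      (by
        intro g g' e
        simp only [Prod.mk.injEq, Subtype.mk.injEq] at e
        exact mem_center_of_gen h.gen (eq_conj_of_comm_eq e.1) (eq_conj_of_comm_eq e.2))
    rwa [Nat.card_prod, ← sq] at this
  · set o := orderOf ⁅b, a⁆ with ho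
    have ho' : orderOf ⁅a, b⁆ = o := by rw [← commutatorElement_inv, orderOf_inv]
    have := card_le_index_of_forall (H := center G) (X := Fin o × Fin o)
      (fun x => b ^ (x.1 : ℕ) * a ^ (x.2 : ℕ))
      (by
        rintro ⟨i, j⟩ ⟨i', j'⟩ hz
        simp only at hz
        set z := (b ^ (i : ℕ) * a ^ (j : ℕ))⁻¹ * (b ^ (i' : ℕ) * a ^ (j' : ℕ)) with hzdef
        have e1 : b ^ (i' : ℕ) * a ^ (j' : ℕ) = b ^ (i : ℕ) * a ^ (j : ℕ) * z := by
          rw [hzdef]; group
        have hza : z * a * z⁻¹ = a := by rw [(mem_center_iff.1 hz a).symm]; group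
        have hzb : z * b * z⁻¹ = b := by rw [(mem_center_iff.1 hz b).symm]; group
        have haa : ∀ m : ℕ, a ^ m * a * (a ^ m)⁻¹ = a := by
          intro m
          rw [(Commute.pow_self a m).eq]; group
        have e2 : b ^ (i' : ℕ) * a * (b ^ (i' : ℕ))⁻¹ = b ^ (i : ℕ) * a * (b ^ (i : ℕ))⁻¹ := by
          calc b ^ (i' : ℕ) * a * (b ^ (i' : ℕ))⁻¹
              = b ^ (i' : ℕ) * (a ^ (j' : ℕ) * a * (a ^ (j' : ℕ))⁻¹) * (b ^ (i' : ℕ))⁻¹ := by
                rw [haa]
            _ = (b ^ (i' : ℕ) * a ^ (j' : ℕ)) * a * (b ^ (i' : ℕ) * a ^ (j' : ℕ))⁻¹ := by group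
            _ = (b ^ (i : ℕ) * a ^ (j : ℕ) * z) * a * (b ^ (i : ℕ) * a ^ (j : ℕ) * z)⁻¹ := by
                rw [e1]
            _ = b ^ (i : ℕ) * (a ^ (j : ℕ) * (z * a * z⁻¹) * (a ^ (j : ℕ))⁻¹) * (b ^ (i : ℕ))⁻¹ := by
                group
            _ = b ^ (i : ℕ) * a * (b ^ (i : ℕ))⁻¹ := by rw [hza, haa]
        have e3 := (h.pow_conj_eq_iff h2 hG b a i' i).1 e2
        have e4 : (i' : ℕ) = i := Nat.ModEq.eq_of_lt_of_lt e3 i'.2 i.2
        have e5 : a ^ (j' : ℕ) = a ^ (j : ℕ) * z := by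
          rw [e4, mul_assoc] at e1
          exact mul_left_cancel e1
        have e6 : a ^ (j' : ℕ) * b * (a ^ (j' : ℕ))⁻¹ = a ^ (j : ℕ) * b * (a ^ (j : ℕ))⁻¹ := by
          calc a ^ (j' : ℕ) * b * (a ^ (j' : ℕ))⁻¹
              = a ^ (j : ℕ) * (z * b * z⁻¹) * (a ^ (j : ℕ))⁻¹ := by rw [e5]; group
            _ = a ^ (j : ℕ) * b * (a ^ (j : ℕ))⁻¹ := by rw [hzb]
        have e7 := (h.pow_conj_eq_iff h2 hG a b j' j).1 e6
        rw [ho'] at e7
        have e8 : (j' : ℕ) = j := Nat.ModEq.eq_of_lt_of_lt e7 j'.2 j.2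
        exact Prod.ext (Fin.ext e4.symm) (Fin.ext e8.symm))
    rw [Nat.card_prod, Nat.card_fin, ← sq] at this
    rwa [h.card_commutator]

end pgroup2

end Cfsg.H1
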