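import Mathlib
import Cfsg.Agent.H1.Meta2

set_option autoImplicit false

namespace Cfsg.H1

open Subgroup
open scoped commutatorElement

variable {G : Type*} [Group G]

theorem MCGen.exists_eq_mul {a b : G} (h : MCGen a b) (g : G) :
    ∃ y ∈ zpowers b, ∃ x ∈ zpowers a, y * x = g := by
  haveI := h.normal
  have h1 : zpowers b ⊔ zpowers a = ⊤ := by
    rw [eq_top_iff, ← h.gen, closure_le]
    rintro y (rfl | rfl)
    · exact (le_sup_right : zpowers y ≤ zpowers b ⊔ zpowers y) (mem_zpowers _)
    · exact (le_sup_left : zpowers y ≤ zpowers y ⊔ zpowers a) (mem_zpowers _)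
  have : g ∈ zpowers b ⊔ zpowers a := by rw [h1]; trivial
  exact mem_sup_of_normal_right.1 this

theorem MCGen.card_le [Finite G] {a b : G} (h : MCGen a b) :
    Nat.card G ≤ orderOf b * orderOf a := by
  rw [← Nat.card_zpowers, ← Nat.card_zpowers, ← Nat.card_prod]
  apply Nat.card_le_card_of_surjective (fun x : zpowers b × zpowers a => (x.1 : G) * x.2)
  intro g
  obtain ⟨y, hy, x, hx, e⟩ := h.exists_eq_mul g
  exact ⟨(⟨y, hy⟩, ⟨x, hx⟩), e⟩

theorem MCGen.map {K : Type*} [Group K] (f : G →* K) (hf : Function.Surjective f) {a b : G}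
    (h : MCGen a b) : MCGen (f a) (f b) := by
  constructor
  · have := h.normal.map f hf
    rwa [MonoidHom.map_zpowers] at this
  · have := congrArg (Subgroup.map f) h.gen
    rwa [MonoidHom.map_closure, Subgroup.map_top_of_surjective _ hf, Set.image_pair] at this

theorem normal_closure_pow (m : ℕ) : (closure {x : G | ∃ y : G, y ^ m = x}).Normal := by
  refine ⟨fun n hn g => ?_⟩
  induction hn using closure_induction with
  | mem x hx =>
    obtain ⟨y, rfl⟩ := hx
    exact subset_closure ⟨g * y * g⁻¹, by rw [conj_pow]⟩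
  | one => simp
  | mul x y _ _ hx hy =>
    have : g * (x * y) * g⁻¹ = (g * x * g⁻¹) * (g * y * g⁻¹) := by group
    rw [this]; exact mul_mem hx hy
  | inv x _ hx =>
    have : g * x⁻¹ * g⁻¹ = (g * x * g⁻¹)⁻¹ := by group
    rw [this]; exact inv_mem hx

theorem MCGen.index_closure_pow_le [Finite G] {a b : G} (h : MCGen a b) (m : ℕ) (hm : 0 < m) :
    (closure {x : G | ∃ y : G, y ^ m = x}).index ≤ m ^ 2 := by
  haveI := normal_closure_pow (G := G) m
  set H := closure {x : G | ∃ y : G, y ^ m = x} with hH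
  have h1 := (h.map (QuotientGroup.mk' H) (QuotientGroup.mk'_surjective H)).card_le
  have h2 : ∀ y : G, orderOf (QuotientGroup.mk' H y) ≤ m := by
    intro y
    apply Nat.le_of_dvd hm
    apply orderOf_dvd_of_pow_eq_one
    rw [← map_pow, QuotientGroup.mk'_apply, QuotientGroup.eq_one_iff]
    exact subset_closure ⟨y, rfl⟩
  rw [Subgroup.index, sq]
  exact h1.trans (Nat.mul_le_mul (h2 b) (h2 a))

theorem eq_of_le_of_index_le [Finite G] {H K : Subgroup G} (hle : H ≤ K) (hi : H.index ≤ K.index) :
    H = K := by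
  apply eq_of_le_of_card_ge hle
  have h1 := H.card_mul_index
  have h2 := K.card_mul_index
  have h3 : 0 < H.index := Nat.pos_of_ne_zero H.index_ne_zero_of_finite
  by_contra hlt
  push Not at hlt
  have : Nat.card H * H.index < Nat.card K * K.index :=
    calc Nat.card H * H.index < Nat.card K * H.index := Nat.mul_lt_mul_of_pos_right hlt h3
      _ ≤ Nat.card K * K.index := Nat.mul_le_mul_left _ hi
  omega

theorem orderOf_comm_dvd [Finite G] (x g : G) : orderOf ⁅x, g⁆ ∣ Nat.card (commutator G) := by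
  have := orderOf_dvd_natCard (⟨⁅x, g⁆, comm_mem_commutator x g⟩ : commutator G)
  rwa [← Subgroup.orderOf_coe] at this

section pgroup

variable [Finite G] {p : ℕ} [hp : Fact p.Prime]

theorem MCGen.pow_mem_center (h2 : p ≠ 2) (hG : IsPGroup p G) {a b : G} (h : MCGen a b) (y : G) :
    y ^ Nat.card (commutator G) ∈ center G := by
  rw [mem_center_iff]
  intro g
  exact ((h.pow_commute_iff h2 hG y g _).2 (orderOf_comm_dvd y g)).eq.symm

theorem MCGen.closure_pow_eq_center (h2 : p ≠ 2) (hG : IsPGroup p G) {a b : G} (h : MCGen a b) :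
    closure {x : G | ∃ y : G, y ^ Nat.card (commutator G) = x} = center G := by
  apply eq_of_le_of_index_le
  · rw [closure_le]
    rintro x ⟨y, rfl⟩
    exact h.pow_mem_center h2 hG y
  · rw [h.index_center h2 hG]
    exact h.index_closure_pow_le _ Nat.card_pos

/-- class sizes in terms of orders of commutators -/
theorem MCGen.index_centralizer_le_iff (h2 : p ≠ 2) (hG : IsPGroup p G) {a b : G} (h : MCGen a b)
    (g : G) (j : ℕ) : (centralizer {g}).index ≤ p ^ j ↔ ∀ x : G, ⁅x, g⁆ ^ p ^ j = 1 := by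
  constructor
  · intro hi x
    have h1 : orderOf ⁅x, g⁆ ≤ (centralizer {g}).index := by
      have := card_le_index_of_forall (H := centralizer {g}) (X := Fin (orderOf ⁅x, g⁆))
        (fun k => x ^ (k : ℕ))
        (by
          intro k l hkl
          rw [mem_centralizer_singleton_iff] at hkl
          have e : x ^ (k : ℕ) * g * (x ^ (k : ℕ))⁻¹ = x ^ (l : ℕ) * g * (x ^ (l : ℕ))⁻¹ := by
            calc x ^ (k : ℕ) * g * (x ^ (k : ℕ))⁻¹
                = x ^ (k : ℕ) * (g * ((x ^ (k : ℕ))⁻¹ * x ^ (l : ℕ))) * (x ^ (l : ℕ))⁻¹ := by group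
              _ = x ^ (k : ℕ) * (((x ^ (k : ℕ))⁻¹ * x ^ (l : ℕ)) * g) * (x ^ (l : ℕ))⁻¹ := by
                  rw [hkl]
              _ = x ^ (l : ℕ) * g * (x ^ (l : ℕ))⁻¹ := by group
          exact Fin.ext (Nat.ModEq.eq_of_lt_of_lt ((h.pow_conj_eq_iff h2 hG x g k l).1 e) k.2 l.2))
      rwa [Nat.card_fin] at this
    obtain ⟨e, he⟩ := (IsPGroup.iff_orderOf.1 hG) ⁅x, g⁆
    apply orderOf_dvd_iff_pow_eq_one.1
    rw [he]
    apply pow_dvd_pow
    rw [he] at h1
    exact (Nat.pow_le_pow_iff_right hp.out.one_lt).1 (h1.trans hi)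
  · intro hx
    haveI : IsCyclic (commutator G) := by
      rw [h.commutator_eq]
      infer_instance
    classical
    haveI : Fintype (commutator G) := Fintype.ofFinite _
    have h1 : Nat.card {u : commutator G // u ^ p ^ j = 1} ≤ p ^ j := by
      rw [Nat.card_eq_fintype_card, Fintype.card_subtype]
      exact IsCyclic.card_pow_eq_one_le (pow_pos hp.out.pos j)
    refine le_trans ?_ h1
    apply index_le_card_of_forall
      (fun x => (⟨⟨⁅x, g⁆, comm_mem_commutator x g⟩, Subtype.ext (by simpa using hx x)⟩ :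
        {u : commutator G // u ^ p ^ j = 1}))
    intro x x' e
    simp only [Subtype.mk.injEq] at e
    rw [mem_centralizer_singleton_iff]
    exact (eq_conj_of_comm_eq e)

end pgroup

end Cfsg.H1
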