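import Mathlib
import Cfsg.Agent.H1.Meta3

set_option autoImplicit false

namespace Cfsg.H1

open Subgroup
open scoped commutatorElement

variable {G : Type*} [Group G]

theorem mem_zpowers_pow_iff {c u : G} {m l : ℕ} (hl : 0 < l) (hc : orderOf c = m * l)
    (hu : u ∈ zpowers c) : u ∈ zpowers (c ^ m) ↔ u ^ l = 1 := by
  constructor
  · rintro ⟨k, rfl⟩
    simp only
    rw [← zpow_natCast, ← zpow_natCast, ← zpow_mul, ← zpow_mul]
    apply orderOf_dvd_iff_zpow_eq_one.1
    rw [hc]
    exact ⟨k, by push_cast; ring⟩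
  · obtain ⟨k, rfl⟩ := hu
    intro h
    simp only at h
    rw [← zpow_natCast, ← zpow_mul] at h
    have h1 := orderOf_dvd_iff_zpow_eq_one.2 h
    rw [hc] at h1
    push_cast at h1
    have h2 : (m : ℤ) ∣ k := (mul_dvd_mul_iff_right (by exact_mod_cast hl.ne')).1 h1
    obtain ⟨j, rfl⟩ := h2
    exact ⟨j, by simp only; rw [← zpow_natCast, ← zpow_mul]⟩

theorem orderOf_mk_of_orderOf_eq_mul {c : G} {m l : ℕ} (hl : 0 < l) (hc : orderOf c = m * l)
    [(zpowers (c ^ m)).Normal] :
    orderOf (QuotientGroup.mk' (zpowers (c ^ m)) c) = m := by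
  apply Nat.dvd_antisymm
  · apply orderOf_dvd_of_pow_eq_one
    rw [← map_pow, QuotientGroup.mk'_apply, QuotientGroup.eq_one_iff]
    exact mem_zpowers _
  · have h1 := pow_orderOf_eq_one (QuotientGroup.mk' (zpowers (c ^ m)) c)
    rw [← map_pow, QuotientGroup.mk'_apply, QuotientGroup.eq_one_iff,
      mem_zpowers_pow_iff hl hc (pow_mem (mem_zpowers c) _), ← pow_mul] at h1
    have h2 := orderOf_dvd_of_pow_eq_one h1
    rw [hc] at h2
    exact (mul_dvd_mul_iff_right hl.ne').1 h2

theorem map_closure_pow {K : Type*} [Group K] (f : G →* K) (hf : Function.Surjective f) (m : ℕ) :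
    (closure {x : G | ∃ y : G, y ^ m = x}).map f = closure {x : K | ∃ y : K, y ^ m = x} := by
  rw [MonoidHom.map_closure]
  congr 1
  ext x
  constructor
  · rintro ⟨_, ⟨y, rfl⟩, rfl⟩
    exact ⟨f y, by rw [map_pow]⟩
  · rintro ⟨y, rfl⟩
    obtain ⟨z, rfl⟩ := hf y
    exact ⟨z ^ m, ⟨z, rfl⟩, by rw [map_pow]⟩

section pgroup

variable [Finite G] {p : ℕ} [hp : Fact p.Prime]

/-- the structure of the agemo subgroups of an odd metacyclic `p`-group -/
theorem MCGen.agemo (h2 : p ≠ 2) (hG : IsPGroup p G) {a b : G} (h : MCGen a b) {n : ℕ}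
    (hn : Nat.card (commutator G) = p ^ n) {s : ℕ} (hs : s ≤ n) :
    (∀ g : G, g ∈ closure {x : G | ∃ y : G, y ^ p ^ s = x} ↔ ∀ x : G, ⁅x, g⁆ ^ p ^ (n - s) = 1) ∧
      (closure {x : G | ∃ y : G, y ^ p ^ s = x}).index = p ^ (2 * s) := by
  set c := ⁅b, a⁆ with hc
  have hco : orderOf c = p ^ s * p ^ (n - s) := by
    rw [← pow_add, Nat.add_sub_cancel' hs, ← hn, h.card_commutator]
  have hl : 0 < p ^ (n - s) := pow_pos hp.out.pos _
  haveI hN : (zpowers (c ^ p ^ s)).Normal := h.normal_zpowers (pow_mem h.comm_mem _)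
  set N := zpowers (c ^ p ^ s) with hNdef
  set π := QuotientGroup.mk' N with hπ
  have hsurj : Function.Surjective π := QuotientGroup.mk'_surjective N
  have hQ : MCGen (π a) (π b) := h.map π hsurj
  have hpQ : IsPGroup p (G ⧸ N) := hG.to_quotient N
  have hcard : Nat.card (commutator (G ⧸ N)) = p ^ s := by
    rw [hQ.card_commutator, ← map_commutatorElement]
    exact orderOf_mk_of_orderOf_eq_mul hl hco
  have hcen := hQ.closure_pow_eq_center h2 hpQ
  rw [hcard, ← map_closure_pow π hsurj] at hcen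
  have hT : closure {x : G | ∃ y : G, y ^ p ^ s = x} = (center (G ⧸ N)).comap π := by
    rw [← hcen, comap_map_eq_self]
    rw [hπ, QuotientGroup.ker_mk', hNdef, zpowers_le]
    exact subset_closure ⟨c, rfl⟩
  constructor
  · intro g
    rw [hT, mem_comap, mem_center_iff]
    constructor
    · intro hg x
      rw [← mem_zpowers_pow_iff hl hco (by rw [hc, ← h.commutator_eq]; exact comm_mem_commutator x g)]
      rw [← hNdef, ← QuotientGroup.eq_one_iff, ← QuotientGroup.mk'_apply, ← hπ,
        map_commutatorElement, commutatorElement_eq_one_iff_mul_comm]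
      exact hg (π x)
    · intro hg y
      obtain ⟨x, rfl⟩ := hsurj y
      rw [← commutatorElement_eq_one_iff_mul_comm, ← map_commutatorElement, hπ,
        QuotientGroup.mk'_apply, QuotientGroup.eq_one_iff, hNdef,
        mem_zpowers_pow_iff hl hco (by rw [hc, ← h.commutator_eq]; exact comm_mem_commutator x g)]
      exact hg x
  · rw [hT, index_comap_of_surjective _ hsurj, hQ.index_center h2 hpQ, hcard, ← pow_mul, mul_comm]

theorem MCGen.mem_agemo_iff (h2 : p ≠ 2) (hG : IsPGroup p G) {a b : G} (h : MCGen a b) {n : ℕ}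
    (hn : Nat.card (commutator G) = p ^ n) {s : ℕ} (hs : s ≤ n) (g : G) :
    g ∈ closure {x : G | ∃ y : G, y ^ p ^ s = x} ↔ (centralizer {g}).index ≤ p ^ (n - s) := by
  rw [(h.agemo h2 hG hn hs).1 g, h.index_centralizer_le_iff h2 hG]

end pgroup

end Cfsg.H1
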