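import Mathlib
import Cfsg.Agent.H1.Meta4

set_option autoImplicit false

namespace Cfsg.H1

open Subgroup
open scoped commutatorElement

variable {G : Type*} [Group G]

section pgroup

variable [Finite G] {p : ℕ} [hp : Fact p.Prime]

theorem MCGen.card_agemo (h2 : p ≠ 2) (hG : IsPGroup p G) {a b : G} (h : MCGen a b) {n : ℕ}
    (hn : Nat.card (commutator G) = p ^ n) {s : ℕ} (hs : s ≤ n) :
    Nat.card (closure {x : G | ∃ y : G, y ^ p ^ s = x}) = Nat.card (center G) * p ^ (2 * (n - s)) := by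
  have h1 := (closure {x : G | ∃ y : G, y ^ p ^ s = x}).card_mul_index
  have h3 := (center G).card_mul_index
  rw [(h.agemo h2 hG hn hs).2] at h1
  rw [h.index_center h2 hG, hn] at h3
  have h5 : (p ^ n) ^ 2 = p ^ (2 * (n - s)) * p ^ (2 * s) := by
    rw [← pow_mul, ← pow_add]
    congr 1
    omega
  rw [h5, ← h1, ← mul_assoc] at h3
  exact (Nat.eq_of_mul_eq_mul_right (pow_pos hp.out.pos _) h3).symm

theorem card_sdiff_subgroup {T T' : Subgroup G} (hle : T' ≤ T) :
    Nat.card {g : G // g ∈ T ∧ g ∉ T'} = Nat.card T - Nat.card T' := by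
  have h1 : Nat.card {g : G // g ∈ T ∧ g ∉ T'} = ((T : Set G) \ (T' : Set G)).ncard := by
    rw [← Nat.card_coe_set_eq]
    rfl
  rw [h1, Set.ncard_sdiff (by exact_mod_cast hle) (Set.toFinite _), ← Nat.card_coe_set_eq,
    ← Nat.card_coe_set_eq]
  rfl

theorem MCGen.card_class_size (h2 : p ≠ 2) (hG : IsPGroup p G) {a b : G} (h : MCGen a b) {n : ℕ}
    (hn : Nat.card (commutator G) = p ^ n) {i : ℕ} (hi : 1 ≤ i) (hin : i ≤ n) :
    Nat.card {g : G // (centralizer ({g} : Set G)).index = p ^ i} =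
      Nat.card (center G) * (p ^ (2 * i) - p ^ (2 * i - 2)) := by
  have hs1 : n - i ≤ n := Nat.sub_le _ _
  have hs2 : n - i + 1 ≤ n := by omega
  have hle : closure {x : G | ∃ y : G, y ^ p ^ (n - i + 1) = x} ≤
      closure {x : G | ∃ y : G, y ^ p ^ (n - i) = x} := by
    rw [closure_le]
    rintro x ⟨y, rfl⟩
    exact subset_closure ⟨y ^ p, by rw [← pow_mul, pow_succ, mul_comm]⟩
  have key : ∀ g : G, (centralizer ({g} : Set G)).index = p ^ i ↔
      (g ∈ closure {x : G | ∃ y : G, y ^ p ^ (n - i) = x} ∧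
        g ∉ closure {x : G | ∃ y : G, y ^ p ^ (n - i + 1) = x}) := by
    intro g
    rw [h.mem_agemo_iff h2 hG hn hs1, h.mem_agemo_iff h2 hG hn hs2]
    obtain ⟨k, hk⟩ := hG.index (centralizer ({g} : Set G))
    rw [hk, Nat.pow_le_pow_iff_right hp.out.one_lt, Nat.pow_le_pow_iff_right hp.out.one_lt,
      Nat.pow_right_inj hp.out.two_le]
    omega
  rw [Nat.card_congr (Equiv.subtypeEquivRight key), card_sdiff_subgroup hle,
    h.card_agemo h2 hG hn hs1, h.card_agemo h2 hG hn hs2]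
  have e1 : 2 * (n - (n - i)) = 2 * i := by omega
  have e2 : 2 * (n - (n - i + 1)) = 2 * i - 2 := by omega
  rw [e1, e2, Nat.mul_sub]

end pgroup

end Cfsg.H1
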