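import Mathlib
import Cfsg.Agent.H1.Meta5
import Cfsg.Agent.H1.CyclicMax

set_option autoImplicit false

namespace Cfsg.H1

open Subgroup
open scoped commutatorElement

variable {G : Type*} [Group G]

theorem card_mul_relIndex_of_le {H K : Subgroup G} (h : H ≤ K) :
    Nat.card H * H.relIndex K = Nat.card K := by
  have := relIndex_mul_relIndex ⊥ H K bot_le h
  rwa [relIndex_bot_left, relIndex_bot_left] at this

/-- one step up in a chain of subgroups of a `p`-group -/
theorem exists_step_up [Finite G] {p : ℕ} [hp : Fact p.Prime] (hG : IsPGroup p G)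
    {R S : Subgroup G} (hlt : R < S) :
    ∃ (R₁ : Subgroup G) (x : G), R < R₁ ∧ R₁ ≤ S ∧ Nat.card R₁ = Nat.card R * p ∧ x ^ p ∈ R ∧
      R₁ = R ⊔ zpowers x := by
  obtain ⟨k, hk⟩ := (hG.to_subgroup R).exists_card_eq
  obtain ⟨m, hm⟩ := (hG.to_subgroup S).exists_card_eq
  have hkm : k < m := by
    have : Nat.card R < Nat.card S := by
      by_contra hcon
      push Not at hcon
      exact hlt.ne (eq_of_le_of_card_ge hlt.le hcon)
    rw [hk, hm] at this
    exact (Nat.pow_lt_pow_iff_right hp.out.one_lt).1 this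
  have hH : Nat.card (R.subgroupOf S) = p ^ k := by
    rw [← hk]
    exact Nat.card_congr (subgroupOfEquivOfLe hlt.le).toEquiv
  obtain ⟨K, hK, hle⟩ := Sylow.exists_subgroup_card_pow_succ (G := S) (p := p) (n := k)
    (by rw [hm]; exact pow_dvd_pow p hkm) hH
  set R₁ := K.map S.subtype with hR₁
  have hc1 : Nat.card R₁ = Nat.card R * p := by
    rw [hR₁, card_map_of_injective S.subtype_injective, hK, hk, pow_succ]
  have hRR₁ : R ≤ R₁ := by
    intro r hr
    exact ⟨⟨r, hlt.le hr⟩, hle (mem_subgroupOf.2 hr), rfl⟩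
  have hR₁S : R₁ ≤ S := by
    rintro _ ⟨y, _, rfl⟩
    exact y.2
  have hrel : R.relIndex R₁ = p := by
    have := card_mul_relIndex_of_le hRR₁
    rw [hc1] at this
    exact Nat.eq_of_mul_eq_mul_left Nat.card_pos this
  have hlt1 : R < R₁ := by
    refine lt_of_le_of_ne hRR₁ ?_
    intro e
    rw [← e, relIndex_self] at hrel
    exact hp.out.one_lt.ne hrel
  obtain ⟨x, hx1, hx2⟩ := SetLike.exists_of_lt hlt1
  haveI hnor : (R.subgroupOf R₁).Normal :=
    normal_of_index_prime_pgroup (hG.to_subgroup R₁) (R.subgroupOf R₁) hrel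
  have hxp : x ^ p ∈ R := by
    have := (R.subgroupOf R₁).pow_index_mem ⟨x, hx1⟩
    rw [mem_subgroupOf] at this
    have e : (R.subgroupOf R₁).index = p := hrel
    rw [e] at this
    simpa using this
  refine ⟨R₁, x, hlt1, hR₁S, hc1, hxp, ?_⟩
  have hle2 : R ⊔ zpowers x ≤ R₁ := sup_le hRR₁ (zpowers_le.2 hx1)
  apply le_antisymm _ hle2
  have h3 := relIndex_mul_relIndex R (R ⊔ zpowers x) R₁ le_sup_left hle2
  rw [hrel] at h3
  have h4 : R.relIndex (R ⊔ zpowers x) ≠ 1 := by
    rw [Ne, relIndex_eq_one]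
    intro h5
    exact hx2 (h5 ((le_sup_right : zpowers x ≤ R ⊔ zpowers x) (mem_zpowers x)))
  have h5 : R.relIndex (R ⊔ zpowers x) = p :=
    ((Nat.dvd_prime hp.out).1 ⟨_, h3.symm⟩).resolve_left h4
  rw [h5] at h3
  have h6 : (R ⊔ zpowers x).relIndex R₁ = 1 := by
    have : p * (R ⊔ zpowers x).relIndex R₁ = p * 1 := by rw [h3, mul_one]
    exact Nat.eq_of_mul_eq_mul_left hp.out.pos this
  exact relIndex_eq_one.1 h6

section pgroup

variable [Finite G] {p : ℕ} [hp : Fact p.Prime]

theorem MCGen.card_centralizer_step (h2 : p ≠ 2) (hG : IsPGroup p G) {a b : G} (h : MCGen a b)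
    (R : Subgroup G) {x : G} (hx : x ^ p ∈ R) :
    Nat.card (centralizer (R : Set G)) ≤ Nat.card (centralizer ((R ⊔ zpowers x : Subgroup G) : Set G)) * p := by
  have hle : centralizer ((R ⊔ zpowers x : Subgroup G) : Set G) ≤ centralizer (R : Set G) :=
    centralizer_le (by exact_mod_cast (le_sup_left : R ≤ R ⊔ zpowers x))
  rw [← card_mul_relIndex_of_le hle]
  apply Nat.mul_le_mul_left
  haveI : IsCyclic (commutator G) := by
    rw [h.commutator_eq]
    infer_instance
  classical
  haveI : Fintype (commutator G) := Fintype.ofFinite _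
  have h1 : Nat.card {u : commutator G // u ^ p = 1} ≤ p := by
    rw [Nat.card_eq_fintype_card, Fintype.card_subtype]
    exact IsCyclic.card_pow_eq_one_le hp.out.pos
  refine le_trans ?_ h1
  have hpow : ∀ c ∈ centralizer (R : Set G), ⁅c, x⁆ ^ p = 1 := by
    intro c hc
    have h3 : Commute (x ^ p) c := (mem_centralizer_iff.1 hc _ hx)
    have h4 := (h.pow_commute_iff h2 hG x c p).1 h3
    have h5 : ⁅x, c⁆ ^ p = 1 := orderOf_dvd_iff_pow_eq_one.1 h4
    rw [← commutatorElement_inv x c, inv_pow, h5, inv_one]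
  apply index_le_card_of_forall
    (fun c : centralizer (R : Set G) =>
      (⟨⟨⁅(c : G), x⁆, comm_mem_commutator _ x⟩, Subtype.ext (by simpa using hpow c c.2)⟩ :
        {u : commutator G // u ^ p = 1}))
  intro c c' e
  simp only [Subtype.mk.injEq] at e
  have h3 := eq_conj_of_comm_eq e
  rw [mem_subgroupOf]
  have h4 : ((c⁻¹ * c' : centralizer (R : Set G)) : G) = (c : G)⁻¹ * c' := by simp
  rw [h4]
  have h5 : (c : G)⁻¹ * c' ∈ centralizer (R : Set G) := mul_mem (inv_mem c.2) c'.2
  have h6 : R ⊔ zpowers x ≤ centralizer {(c : G)⁻¹ * c'} := by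
    apply sup_le
    · intro r hr
      rw [mem_centralizer_singleton_iff]
      exact (mem_centralizer_iff.1 h5 r hr)
    · rw [zpowers_le, mem_centralizer_singleton_iff]
      exact h3.symm
  rw [mem_centralizer_iff]
  intro y hy
  exact (mem_centralizer_singleton_iff.1 (h6 hy))

theorem MCGen.card_mul_card_centralizer_le (h2 : p ≠ 2) (hG : IsPGroup p G) {a b : G}
    (h : MCGen a b) (S : Subgroup G) (R : Subgroup G) (hRS : R ≤ S) :
    Nat.card R * Nat.card (centralizer (R : Set G)) ≤
      Nat.card S * Nat.card (centralizer (S : Set G)) := by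
  induction R using WellFoundedGT.induction with
  | ind R ih =>
    rcases hRS.eq_or_lt with rfl | hlt
    · exact le_rfl
    · obtain ⟨R₁, x, hlt1, hle1, hc, hx, rfl⟩ := exists_step_up hG hlt
      refine le_trans ?_ (ih _ hlt1 hle1)
      rw [hc, mul_assoc, mul_comm p]
      exact Nat.mul_le_mul_left _ (h.card_centralizer_step h2 hG R hx)

theorem MCGen.card_mul_card_centralizer_le_top (h2 : p ≠ 2) (hG : IsPGroup p G) {a b : G}
    (h : MCGen a b) (R : Subgroup G) :
    Nat.card R * Nat.card (centralizer (R : Set G)) ≤ Nat.card G * Nat.card (center G) := by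
  have := h.card_mul_card_centralizer_le h2 hG ⊤ R le_top
  rwa [card_top, coe_top, centralizer_univ] at this

theorem MCGen.card_mul_card_centralizer_eq (h2 : p ≠ 2) (hG : IsPGroup p G) {a b : G}
    (h : MCGen a b) (R : Subgroup G) (hZ : center G ≤ R) :
    Nat.card R * Nat.card (centralizer (R : Set G)) = Nat.card G * Nat.card (center G) := by
  apply le_antisymm (h.card_mul_card_centralizer_le_top h2 hG R)
  have := h.card_mul_card_centralizer_le h2 hG R (center G) hZ
  have e : centralizer ((center G : Subgroup G) : Set G) = ⊤ :=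
    centralizer_eq_top_iff_subset.2 (fun _ hx => hx)
  rw [e, card_top, mul_comm] at this
  exact this

theorem MCGen.card_mul_card_centralizer_eq_iff (h2 : p ≠ 2) (hG : IsPGroup p G) {a b : G}
    (h : MCGen a b) (R : Subgroup G) :
    Nat.card R * Nat.card (centralizer (R : Set G)) = Nat.card G * Nat.card (center G) ↔
      center G ≤ R := by
  refine ⟨fun he => ?_, h.card_mul_card_centralizer_eq h2 hG R⟩
  have h1 := h.card_mul_card_centralizer_le_top h2 hG (R ⊔ center G)
  have h3 : centralizer ((R ⊔ center G : Subgroup G) : Set G) = centralizer (R : Set G) := by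
    apply le_antisymm (centralizer_le (by exact_mod_cast (le_sup_left : R ≤ R ⊔ center G)))
    rw [le_centralizer_iff]
    apply sup_le
    · rw [← le_centralizer_iff]
    · exact center_le_centralizer _
  rw [h3, ← he] at h1
  have h4 : Nat.card (R ⊔ center G : Subgroup G) ≤ Nat.card R :=
    Nat.le_of_mul_le_mul_right h1 Nat.card_pos
  have h5 : R = R ⊔ center G := eq_of_le_of_card_ge le_sup_left h4
  rw [h5]
  exact le_sup_right

theorem MCGen.centralizer_centralizer (h2 : p ≠ 2) (hG : IsPGroup p G) {a b : G}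
    (h : MCGen a b) (K : Subgroup G) (hZ : center G ≤ K) :
    centralizer (centralizer (K : Set G) : Set G) = K := by
  have h1 := h.card_mul_card_centralizer_eq h2 hG K hZ
  have h3 := h.card_mul_card_centralizer_eq h2 hG (centralizer (K : Set G)) (center_le_centralizer _)
  rw [← h1, mul_comm] at h3
  have h4 := Nat.eq_of_mul_eq_mul_right Nat.card_pos h3
  symm
  apply eq_of_le_of_card_ge _ h4.le
  rw [le_centralizer_iff]

end pgroup

end Cfsg.H1
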