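import Mathlib
import Cfsg.Agent.H1.Meta6

set_option autoImplicit false

namespace Cfsg.H1

open Subgroup
open scoped commutatorElement

variable {G : Type*} [Group G]

theorem isMetacyclic_subgroup (h : Cfsg.IsMetacyclic G) (M : Subgroup G) : Cfsg.IsMetacyclic M := by
  obtain ⟨N, hN, hc, hq⟩ := h
  let f : M →* G ⧸ N := (QuotientGroup.mk' N).comp M.subtype
  refine ⟨f.ker, inferInstance, ?_, ?_⟩
  · let g : f.ker →* N :=
      { toFun := fun x => ⟨x.1.1, by
          have := x.2
          rw [MonoidHom.mem_ker] at this
          simpa [f] using this⟩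
        map_one' := rfl
        map_mul' := fun _ _ => rfl }
    apply isCyclic_of_injective g
    intro x y e
    apply Subtype.ext
    apply Subtype.ext
    exact congrArg (fun z : N => (z : G)) e
  · exact isCyclic_of_injective (QuotientGroup.kerLift f) (QuotientGroup.kerLift_injective f)

theorem card_commutator_le_of_injective {H K : Type*} [Group H] [Group K] [Finite K] (f : H →* K)
    (hf : Function.Injective f) : Nat.card (commutator H) ≤ Nat.card (commutator K) := by
  rw [← card_map_of_injective (K := commutator H) hf]
  apply card_le_of_le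
  rw [_root_.commutator_def, _root_.commutator_def, map_commutator]
  exact commutator_mono le_top le_top

theorem card_commutator_congr {H K : Type*} [Group H] [Group K] [Finite K] (e : H ≃* K) :
    Nat.card (commutator H) = Nat.card (commutator K) := by
  haveI : Finite H := Finite.of_equiv K e.symm.toEquiv
  exact le_antisymm (card_commutator_le_of_injective e.toMonoidHom e.injective)
    (card_commutator_le_of_injective e.symm.toMonoidHom e.symm.injective)

theorem card_commutator_eq_one_iff : Nat.card (commutator G) = 1 ↔ IsMulCommutative G := by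
  rw [card_eq_one, commutator_eq_bot_iff]

theorem le_iff_le_of_mul_eq {a b c d : ℕ} (h : a * b = c * d) (ha : 0 < a) (hc : 0 < c) :
    a ≤ d ↔ c ≤ b := by
  constructor
  · intro h1
    by_contra h2
    push Not at h2
    have : a * b < c * d :=
      calc a * b < a * c := Nat.mul_lt_mul_of_pos_left h2 ha
        _ ≤ d * c := Nat.mul_le_mul_right _ h1
        _ = c * d := mul_comm _ _
    omega
  · intro h1
    by_contra h2
    push Not at h2
    have : c * d < a * b :=
      calc c * d < c * a := Nat.mul_lt_mul_of_pos_left h2 hc
        _ ≤ b * a := Nat.mul_le_mul_right _ h1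
        _ = a * b := mul_comm _ _
    omega

section pgroup

variable [Finite G] {p : ℕ} [hp : Fact p.Prime]

theorem card_commutator_of_index_prime (h2 : p ≠ 2) (hG : IsPGroup p G)
    (hmc : Cfsg.IsMetacyclic G) (M : Subgroup G) (hM : M.index = p)
    (hna : Nat.card (commutator G) ≠ 1) :
    Nat.card (commutator M) * p = Nat.card (commutator G) := by
  obtain ⟨a, b, h⟩ := exists_mcGen hmc
  obtain ⟨a', b', h'⟩ := exists_mcGen (isMetacyclic_subgroup hmc M)
  have hGM : IsPGroup p M := hG.to_subgroup M
  obtain ⟨n, hn⟩ := (hG.to_subgroup (commutator G)).exists_card_eq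
  obtain ⟨m, hm⟩ := (hGM.to_subgroup (commutator M)).exists_card_eq
  obtain ⟨z, hz⟩ := (hG.to_subgroup (center G)).exists_card_eq
  obtain ⟨w, hw⟩ := (hGM.to_subgroup (center M)).exists_card_eq
  have hn0 : n ≠ 0 := by
    rintro rfl
    exact hna (by rw [hn, pow_zero])
  haveI hnor : M.Normal := normal_of_index_prime_pgroup hG M hM
  have hZM : center G ≤ M := by
    rw [← h.closure_pow_eq_center h2 hG, closure_le]
    rintro x ⟨y, rfl⟩
    rw [hn]
    obtain ⟨k, rfl⟩ := Nat.exists_eq_succ_of_ne_zero hn0
    rw [Nat.succ_eq_add_one, pow_succ, pow_mul, ← hM]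
    exact M.pow_index_mem _
  have h3 : Nat.card (centralizer (M : Set G)) ≤ Nat.card (center G) * p := by
    have h4 := h.card_mul_card_centralizer_le_top h2 hG M
    rw [← M.card_mul_index, hM, mul_assoc, mul_comm p] at h4
    exact Nat.le_of_mul_le_mul_left h4 Nat.card_pos
  have h5 : Nat.card (center M) ≤ Nat.card (centralizer (M : Set G)) := by
    apply Nat.card_le_card_of_injective
      (fun x : center M => (⟨x.1.1, by
        rw [mem_centralizer_iff]
        intro y hy
        have := mem_center_iff.1 x.2 ⟨y, hy⟩
        exact congrArg Subtype.val this⟩ : centralizer (M : Set G)))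
    intro x y e
    apply Subtype.ext
    apply Subtype.ext
    exact congrArg (fun z : centralizer (M : Set G) => (z : G)) e
  have h6 : Nat.card (center G) ≤ Nat.card (center M) := by
    apply Nat.card_le_card_of_injective
      (fun x : center G => (⟨⟨x.1, hZM x.2⟩, by
        rw [mem_center_iff]
        intro y
        apply Subtype.ext
        exact mem_center_iff.1 x.2 y.1⟩ : center M))
    intro x y e
    apply Subtype.ext
    exact congrArg (fun z : center M => (z : G)) e
  have h7 := (center G).card_mul_index
  have h8 := (center M).card_mul_index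
  rw [h.index_center h2 hG, hn, hz] at h7
  rw [h'.index_center h2 hGM, hm, hw] at h8
  have h9 := M.card_mul_index
  rw [hM, ← h7, ← h8, ← pow_mul, ← pow_mul, ← pow_add, ← pow_add, ← pow_succ] at h9
  have h10 := Nat.pow_right_injective hp.out.two_le h9
  rw [hz, hw] at h6
  have h11 := (Nat.pow_le_pow_iff_right hp.out.one_lt).1 h6
  have h12 := h5.trans h3
  rw [hz, hw, ← pow_succ] at h12
  have h13 := (Nat.pow_le_pow_iff_right hp.out.one_lt).1 h12
  rw [hn, hm, ← pow_succ]
  congr 1
  omega

/-- the order of the derived subgroup of a subgroup -/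
theorem card_commutator_subgroup (h2 : p ≠ 2) (hG : IsPGroup p G)
    (hmc : Cfsg.IsMetacyclic G) (R : Subgroup G) :
    (Nat.card (commutator G) ≤ R.index ∧ Nat.card (commutator R) = 1) ∨
      Nat.card (commutator R) * R.index = Nat.card (commutator G) := by
  induction R using WellFoundedGT.induction with
  | ind R ih =>
    rcases (le_top : R ≤ ⊤).eq_or_lt with rfl | hlt
    · right
      rw [index_top, mul_one]
      exact card_commutator_congr topEquiv
    · obtain ⟨R₁, x, hlt1, -, hc, -, -⟩ := exists_step_up hG hlt
      have hrel : R.relIndex R₁ = p := by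
        have := card_mul_relIndex_of_le hlt1.le
        rw [hc] at this
        exact Nat.eq_of_mul_eq_mul_left Nat.card_pos this
      have hidx : p * R₁.index = R.index := by
        rw [← hrel]
        exact relIndex_mul_index hlt1.le
      have hle : Nat.card (commutator R) ≤ Nat.card (commutator R₁) :=
        card_commutator_le_of_injective (inclusion hlt1.le) (inclusion_injective hlt1.le)
      have hpos : 0 < Nat.card (commutator R) := Nat.card_pos
      have hstep : Nat.card (commutator R₁) ≠ 1 →
          Nat.card (commutator R) * p = Nat.card (commutator R₁) := by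
        intro hne
        have := card_commutator_of_index_prime h2 (hG.to_subgroup R₁)
          (isMetacyclic_subgroup hmc R₁) (R.subgroupOf R₁) hrel hne
        rwa [card_commutator_congr (subgroupOfEquivOfLe hlt1.le)] at this
      have hidx_le : R₁.index ≤ R.index := by
        rw [← hidx]
        exact Nat.le_mul_of_pos_left _ hp.out.pos
      rcases ih R₁ hlt1 with ⟨h3, h4⟩ | h3
      · left
        exact ⟨h3.trans hidx_le, by omega⟩
      · by_cases h4 : Nat.card (commutator R₁) = 1
        · left
          rw [h4, one_mul] at h3
          exact ⟨by rw [← h3]; exact hidx_le, by omega⟩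
        · right
          rw [← h3, ← hstep h4, ← hidx, mul_assoc]

theorem isMulCommutative_iff_card_le (h2 : p ≠ 2) (hG : IsPGroup p G)
    (hmc : Cfsg.IsMetacyclic G) (L : Subgroup G) :
    IsMulCommutative L ↔ Nat.card L ≤ (commutator G).index := by
  rw [le_iff_le_of_mul_eq (L.card_mul_index.trans (commutator G).card_mul_index.symm)
    Nat.card_pos Nat.card_pos, ← card_commutator_eq_one_iff]
  have hpos : 0 < Nat.card (commutator L) := Nat.card_pos
  have hpos' : 0 < L.index := Nat.pos_of_ne_zero L.index_ne_zero_of_finite
  rcases card_commutator_subgroup h2 hG hmc L with ⟨h3, h4⟩ | h3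
  · exact ⟨fun _ => h3, fun _ => h4⟩
  · constructor
    · intro h4
      rw [h4, one_mul] at h3
      exact h3.ge
    · intro h4
      rw [← h3] at h4
      have : Nat.card (commutator L) * L.index ≤ 1 * L.index := by rwa [one_mul]
      have := Nat.le_of_mul_le_mul_right this hpos'
      omega

theorem maximal_isMulCommutative_iff (h2 : p ≠ 2) (hG : IsPGroup p G)
    (hmc : Cfsg.IsMetacyclic G) (L : Subgroup G) :
    Maximal (fun K : Subgroup G => IsMulCommutative K) L ↔
      Nat.card L = (commutator G).index := by
  constructor
  · intro hL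
    have h3 := (isMulCommutative_iff_card_le h2 hG hmc L).1 hL.prop
    by_contra hne
    have hlt : Nat.card L < (commutator G).index := lt_of_le_of_ne h3 hne
    have hLtop : L < ⊤ := by
      refine lt_of_le_of_ne le_top ?_
      rintro rfl
      rw [card_top] at hlt
      have := Nat.le_of_dvd Nat.card_pos (commutator G).index_dvd_card
      omega
    obtain ⟨L₁, x, hlt1, -, hc, -, -⟩ := exists_step_up hG hLtop
    obtain ⟨k, hk⟩ := (hG.to_subgroup L).exists_card_eq
    obtain ⟨m, hm⟩ := hG.index (commutator G)
    have h4 : Nat.card L₁ ≤ (commutator G).index := by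
      rw [hc, hk, hm, ← pow_succ]
      rw [hk, hm] at hlt
      exact Nat.pow_le_pow_right hp.out.pos ((Nat.pow_lt_pow_iff_right hp.out.one_lt).1 hlt)
    have h5 := (isMulCommutative_iff_card_le h2 hG hmc L₁).2 h4
    exact absurd (hL.le_of_ge h5 hlt1.le) (not_le_of_gt hlt1)
  · intro hL
    refine ⟨(isMulCommutative_iff_card_le h2 hG hmc L).2 hL.le, ?_⟩
    intro K hK hle
    have h3 := (isMulCommutative_iff_card_le h2 hG hmc K).1 hK
    rw [← hL] at h3
    exact (eq_of_le_of_card_ge hle h3).ge

end pgroup

end Cfsg.H1
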