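import Mathlib
import Cfsg.Agent.H1.Meta6

set_option autoImplicit false

namespace Cfsg.H1

open Subgroup
open scoped commutatorElement

variable {G : Type*} [Group G]

theorem mul_pow_eq_geomSum {v y : G} {σ : ℕ} (h : y * v * y⁻¹ = v ^ σ) (M : ℕ) :
    (v * y) ^ M = v ^ (∑ i ∈ Finset.range M, σ ^ i) * y ^ M := by
  induction M with
  | zero => simp
  | succ M ih =>
    have h1 := conj_pow_eq_pow_pow h M
    calc (v * y) ^ (M + 1) = (v * y) ^ M * (v * y) := pow_succ _ _
      _ = v ^ (∑ i ∈ Finset.range M, σ ^ i) * (y ^ M * v * (y ^ M)⁻¹) * (y ^ M * y) := by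
          rw [ih]; group
      _ = v ^ (∑ i ∈ Finset.range (M + 1), σ ^ i) * y ^ (M + 1) := by
          rw [h1, ← pow_add, Finset.sum_range_succ, pow_succ]

/-- killing a power -/
theorem exists_mul_pow_eq_one {p : ℕ} [hp : Fact p.Prime] (h2 : p ≠ 2) (hG : IsPGroup p G)
    {u y : G} (h : y * u * y⁻¹ ∈ zpowers u) (κ : ℕ) (hy : y ^ p ^ κ ∈ zpowers (u ^ p ^ κ)) :
    ∃ v ∈ zpowers u, (v * y) ^ p ^ κ = 1 := by
  obtain ⟨σ, hσ1, hσ⟩ := exists_conj_eq_pow_modEq_one hG h
  obtain ⟨s', hs'⟩ := (geomSum_dvd_iff h2 hσ1 (p ^ κ) κ).2 dvd_rfl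
  have hs'p : ¬ p ∣ s' := by
    intro hd
    have h3 : p ^ (κ + 1) ∣ ∑ i ∈ Finset.range (p ^ κ), σ ^ i := by
      rw [hs', pow_succ]
      exact mul_dvd_mul_left _ hd
    rw [geomSum_dvd_iff h2 hσ1] at h3
    have := Nat.le_of_dvd (pow_pos hp.out.pos _) h3
    exact absurd this (not_le_of_gt (Nat.pow_lt_pow_right hp.out.one_lt (Nat.lt_succ_self κ)))
  obtain ⟨μ, hμ⟩ := (IsPGroup.iff_orderOf.1 hG) u
  have hcop : s'.Coprime (orderOf u) := by
    rw [hμ]
    exact Nat.Coprime.pow_right _ ((Nat.Prime.coprime_iff_not_dvd hp.out).2 hs'p).symm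
  obtain ⟨m', hm'⟩ := exists_pow_eq_self_of_coprime hcop
  obtain ⟨c, hc⟩ := inv_mem hy
  simp only at hc
  refine ⟨u ^ ((m' : ℤ) * c), zpow_mem (mem_zpowers u) _, ?_⟩
  have hv : y * u ^ ((m' : ℤ) * c) * y⁻¹ = (u ^ ((m' : ℤ) * c)) ^ σ := by
    rw [← conj_zpow, hσ, ← zpow_natCast, ← zpow_natCast, ← zpow_mul, ← zpow_mul, mul_comm]
  rw [mul_pow_eq_geomSum hv, hs']
  have h3 : (u ^ ((m' : ℤ) * c)) ^ (p ^ κ * s') = (y ^ p ^ κ)⁻¹ := by
    rw [← hc]
    conv_rhs => rw [← hm']
    simp only [← zpow_natCast, ← zpow_mul]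
    congr 1
    push_cast
    ring
  rw [h3, inv_mul_cancel]

/-- an element whose order is not bigger than its order modulo `N` -/
theorem zpowers_inf_eq_bot_of_pow_eq_one (N : Subgroup G) [N.Normal] {x : G}
    (h : x ^ orderOf (QuotientGroup.mk' N x) = 1) :
    zpowers x ⊓ N = ⊥ ∧ orderOf x = orderOf (QuotientGroup.mk' N x) := by
  constructor
  · rw [eq_bot_iff]
    rintro z ⟨⟨j, rfl⟩, hz⟩
    simp only at hz ⊢
    replace hz : x ^ j ∈ N := hz
    rw [← QuotientGroup.eq_one_iff, ← QuotientGroup.mk'_apply, map_zpow,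
      ← orderOf_dvd_iff_zpow_eq_one] at hz
    rw [mem_bot, ← orderOf_dvd_iff_zpow_eq_one]
    exact (Int.natCast_dvd_natCast.2 (orderOf_dvd_of_pow_eq_one h)).trans hz
  · exact Nat.dvd_antisymm (orderOf_dvd_of_pow_eq_one h) (orderOf_map_dvd _ x)

theorem MCGen.orderOf_mk [Finite G] {a b : G} (h : MCGen a b) [(zpowers a).Normal] :
    orderOf (QuotientGroup.mk' (zpowers a) b) = (zpowers a).index := by
  rw [index_eq_card]
  apply orderOf_eq_card_of_forall_mem_zpowers
  intro q
  obtain ⟨g, rfl⟩ := QuotientGroup.mk'_surjective _ q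
  obtain ⟨y, ⟨j, rfl⟩, x, hx, rfl⟩ := h.exists_eq_mul g
  refine ⟨j, ?_⟩
  simp only
  rw [map_mul, map_zpow, QuotientGroup.mk'_apply _ x, (QuotientGroup.eq_one_iff x).2 hx, mul_one]

section pgroup

variable [Finite G] {p : ℕ} [hp : Fact p.Prime]

theorem MCGen.exists_factorization (h2 : p ≠ 2) (hG : IsPGroup p G) {a b : G} (h : MCGen a b) :
    ∃ x y : G, zpowers x ⊓ zpowers y = ⊥ ∧ orderOf x * orderOf y = Nat.card G := by
  haveI := h.normal
  set π := QuotientGroup.mk' (zpowers a) with hπ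
  obtain ⟨m, hm⟩ := (IsPGroup.iff_orderOf.1 hG) a
  obtain ⟨r, hr⟩ := (IsPGroup.iff_orderOf.1 hG) b
  obtain ⟨t, ht⟩ := hG.index (zpowers a)
  have hπb : orderOf (π b) = p ^ t := by rw [← ht]; exact h.orderOf_mk
  have hcard : Nat.card G = p ^ (m + t) := by
    rw [← (zpowers a).card_mul_index, Nat.card_zpowers, hm, ht, pow_add]
  have hbt : b ^ p ^ t ∈ zpowers a := by
    rw [← QuotientGroup.eq_one_iff, ← QuotientGroup.mk'_apply, map_pow, ← hπ, ← hπb]
    exact pow_orderOf_eq_one _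
  have hπv : ∀ v ∈ zpowers a, ∀ y : G, π (v * y) = π y := by
    intro v hv y
    rw [map_mul, hπ, QuotientGroup.mk'_apply, (QuotientGroup.eq_one_iff v).2 hv, one_mul]
  by_cases hcase : b ^ p ^ t ∈ zpowers (a ^ p ^ t)
  · -- split case
    obtain ⟨v, hv, hvb⟩ := exists_mul_pow_eq_one h2 hG (h.conj_mem (mem_zpowers a) b) t hcase
    have h3 := zpowers_inf_eq_bot_of_pow_eq_one (zpowers a) (x := v * b)
      (by rw [← hπ, hπv v hv, hπb]; exact hvb)
    rw [← hπ, hπv v hv, hπb] at h3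
    refine ⟨v * b, a, h3.1, ?_⟩
    rw [h3.2, hm, hcard, ← pow_add, add_comm]
  · -- non-split case
    have htr : t ≤ r := by
      have := orderOf_map_dvd π b
      rw [hπb, hr] at this
      exact (Nat.pow_dvd_pow_iff_le_right hp.out.one_lt).1 this
    have hrmt : r ≤ m + t := by
      have h3 : b ^ p ^ (m + t) = 1 := by
        rw [add_comm, pow_add, pow_mul]
        obtain ⟨j, hj⟩ := hbt
        rw [← hj]
        simp only
        rw [← zpow_natCast, ← zpow_mul, mul_comm, zpow_mul, zpow_natCast, ← hm, pow_orderOf_eq_one,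
          one_zpow]
      have := orderOf_dvd_of_pow_eq_one h3
      rw [hr] at this
      exact (Nat.pow_dvd_pow_iff_le_right hp.out.one_lt).1 this
    set k := m + t - r with hk
    have hkm : k ≤ m := by omega
    have hbk : b ^ p ^ t ∈ zpowers (a ^ p ^ k) := by
      rw [mem_zpowers_pow_iff (l := p ^ (m - k)) (pow_pos hp.out.pos _)
        (by rw [hm, ← pow_add]; congr 1; omega) hbt, ← pow_mul, ← pow_add]
      have : t + (m - k) = r := by omega
      rw [this, ← hr]
      exact pow_orderOf_eq_one b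
    have hkt : k < t := by
      by_contra hcon
      push Not at hcon
      apply hcase
      have : zpowers (a ^ p ^ k) ≤ zpowers (a ^ p ^ t) := by
        rw [zpowers_le]
        refine ⟨(p ^ (k - t) : ℕ), ?_⟩
        simp only
        rw [zpow_natCast, ← pow_mul, ← pow_add]
        congr 2
        omega
      exact this hbk
    have htr' : t < r := by
      rcases htr.eq_or_lt with e | e
      · exfalso
        apply hcase
        rw [e, ← hr, pow_orderOf_eq_one]
        exact one_mem _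
      · exact e
    set β := b ^ p ^ (t - k) with hβ
    have hβk : β ^ p ^ k = b ^ p ^ t := by
      rw [hβ, ← pow_mul, ← pow_add]
      congr 2
      omega
    have hπβ : orderOf (π β) = p ^ k := by
      rw [hβ, map_pow, orderOf_pow_of_dvd (pow_pos hp.out.pos _).ne'
        (by rw [hπb]; exact pow_dvd_pow p (Nat.sub_le _ _)), hπb]
      apply Nat.div_eq_of_eq_mul_left (pow_pos hp.out.pos _)
      rw [← pow_add]
      congr 1
      omega
    obtain ⟨v, hv, hvb⟩ := exists_mul_pow_eq_one h2 hG (h.conj_mem (mem_zpowers a) β) k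
      (by rw [hβk]; exact hbk)
    have h3 := zpowers_inf_eq_bot_of_pow_eq_one (zpowers a) (x := v * β)
      (by rw [← hπ, hπv v hv, hπβ]; exact hvb)
    rw [← hπ, hπv v hv, hπβ] at h3
    refine ⟨v * β, b, ?_, ?_⟩
    · by_contra hne
      obtain ⟨⟨z, hz⟩, hz1⟩ := ne_bot_iff_exists_ne_one.1 hne
      have hz1' : z ≠ 1 := fun e => hz1 (Subtype.ext e)
      obtain ⟨j, hj⟩ := (IsPGroup.iff_orderOf.1 hG) z
      have hj0 : j ≠ 0 := by
        rintro rfl
        rw [pow_zero, orderOf_eq_one_iff] at hj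
        exact hz1' hj
      obtain ⟨i, rfl⟩ := Nat.exists_eq_succ_of_ne_zero hj0
      have hz' : z ^ p ^ i ≠ 1 := by
        intro e
        have := orderOf_dvd_of_pow_eq_one e
        rw [hj] at this
        have := (Nat.pow_dvd_pow_iff_le_right hp.out.one_lt).1 this
        omega
      have hz'p : (z ^ p ^ i) ^ p = 1 := by
        rw [← pow_mul, ← pow_succ, ← Nat.succ_eq_add_one, ← hj]
        exact pow_orderOf_eq_one z
      have h4 : z ^ p ^ i ∈ zpowers (b ^ p ^ (r - 1)) := by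
        rw [mem_zpowers_pow_iff hp.out.pos (by rw [hr, ← pow_succ]; congr 1; omega)
          (pow_mem hz.2 _)]
        exact hz'p
      have h5 : zpowers (b ^ p ^ (r - 1)) ≤ zpowers a := by
        rw [zpowers_le]
        have : b ^ p ^ (r - 1) = (b ^ p ^ t) ^ p ^ (r - 1 - t) := by
          rw [← pow_mul, ← pow_add]
          congr 2
          omega
        rw [this]
        exact pow_mem hbt _
      have h6 : z ^ p ^ i ∈ zpowers (v * β) ⊓ zpowers a := ⟨pow_mem hz.1 _, h5 h4⟩
      rw [h3.1, mem_bot] at h6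
      exact hz' h6
    · rw [h3.2, hr, hcard, ← pow_add]
      congr 1
      omega

end pgroup

end Cfsg.H1
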