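import Mathlib
import Cfsg.Agent.H1.Meta9
import Cfsg.Agent.H1.Meta7
import Cfsg.Agent.H1.Class2

set_option autoImplicit false

namespace Cfsg.H1

open Subgroup
open scoped commutatorElement

variable {G : Type*} [Group G]

section pgroup

variable {p : ℕ} [hp : Fact p.Prime]

theorem MCGen.commute_of_pow_eq_one (hG : IsPGroup p G) {a b : G} (h : MCGen a b) {c : G}
    (hc : c ∈ zpowers a) (hcp : c ^ p = 1) (g : G) : Commute c g := by
  obtain ⟨ρ, hρ1, hρ⟩ := exists_conj_eq_pow_modEq_one hG (h.conj_mem hc g)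
  have h1 : c ^ ρ = c := by
    have : c ^ ρ = c ^ 1 := by
      rw [pow_eq_pow_iff_modEq]
      exact hρ1.of_dvd (orderOf_dvd_of_pow_eq_one hcp)
    rwa [pow_one] at this
  rw [h1] at hρ
  have : g * c = c * g := by
    calc g * c = (g * c * g⁻¹) * g := by group
      _ = c * g := by rw [hρ]
  exact this.symm

theorem MCGen.omega_exponent (h2 : p ≠ 2) (hG : IsPGroup p G) {a b : G} (h : MCGen a b) (g : G)
    (hg : g ∈ closure {x : G | x ^ p = 1}) : g ^ p = 1 := by
  induction hg using closure_induction with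
  | mem x hx => exact hx
  | one => simp
  | mul x y _ _ hx hy =>
    have h3 : ⁅y, x⁆ ^ p = 1 := by
      apply orderOf_dvd_iff_pow_eq_one.1
      rw [← h.pow_commute_iff h2 hG y x p, hy]
      exact Commute.one_left x
    have h4 := h.commute_of_pow_eq_one hG (h.comm_mem' y x) h3
    rw [mul_pow_prime_of_comm_central hp.out h2 (h4 x) (h4 y) h3, hx, hy, one_mul]
  | inv x _ hx => rw [inv_pow, hx, inv_one]

theorem exists_orderOf_eq_prime_mem_zpowers (hG : IsPGroup p G) {x : G} (hx : x ≠ 1) :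
    ∃ x₀ ∈ zpowers x, orderOf x₀ = p := by
  obtain ⟨j, hj⟩ := (IsPGroup.iff_orderOf.1 hG) x
  have hj0 : j ≠ 0 := by
    rintro rfl
    rw [pow_zero, orderOf_eq_one_iff] at hj
    exact hx hj
  obtain ⟨i, rfl⟩ := Nat.exists_eq_succ_of_ne_zero hj0
  refine ⟨x ^ p ^ i, pow_mem (mem_zpowers x) _, ?_⟩
  apply orderOf_eq_prime
  · rw [← pow_mul, ← pow_succ, ← Nat.succ_eq_add_one, ← hj]
    exact pow_orderOf_eq_one x
  · intro e
    have := orderOf_dvd_of_pow_eq_one e
    rw [hj] at this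
    have := (Nat.pow_dvd_pow_iff_le_right hp.out.one_lt).1 this
    omega

theorem omega_metacyclic [Finite G] (h2 : p ≠ 2) (hG : IsPGroup p G) (hmc : Cfsg.IsMetacyclic G)
    (hnc : ¬ IsCyclic G) :
    (∀ g ∈ closure {x : G | x ^ p = 1}, g ^ p = 1) ∧
      Nat.card (closure {x : G | x ^ p = 1}) = p ^ 2 := by
  obtain ⟨a, b, h⟩ := exists_mcGen hmc
  have hexp := h.omega_exponent h2 hG
  refine ⟨hexp, ?_⟩
  set E := closure {x : G | x ^ p = 1} with hE
  apply le_antisymm
  · obtain ⟨a', b', h'⟩ := exists_mcGen (isMetacyclic_subgroup hmc E)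
    have h3 : ∀ e : E, orderOf e ≤ p := by
      intro e
      apply Nat.le_of_dvd hp.out.pos
      apply orderOf_dvd_of_pow_eq_one
      exact Subtype.ext (by simpa using hexp e e.2)
    rw [sq]
    exact h'.card_le.trans (Nat.mul_le_mul (h3 b') (h3 a'))
  · obtain ⟨x, y, hxy, hcard⟩ := h.exists_factorization h2 hG
    have hx1 : x ≠ 1 := by
      rintro rfl
      rw [orderOf_one, one_mul] at hcard
      exact hnc (isCyclic_of_orderOf_eq_card y hcard)
    have hy1 : y ≠ 1 := by
      rintro rfl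
      rw [orderOf_one, mul_one] at hcard
      exact hnc (isCyclic_of_orderOf_eq_card x hcard)
    obtain ⟨x₀, hx₀, hx₀p⟩ := exists_orderOf_eq_prime_mem_zpowers hG hx1
    obtain ⟨y₀, hy₀, hy₀p⟩ := exists_orderOf_eq_prime_mem_zpowers hG hy1
    have hxE : zpowers x₀ ≤ E := by
      rw [zpowers_le]
      exact subset_closure (by rw [Set.mem_ofPred_eq, ← hx₀p]; exact pow_orderOf_eq_one _)
    have hyE : zpowers y₀ ≤ E := by
      rw [zpowers_le]
      exact subset_closure (by rw [Set.mem_ofPred_eq, ← hy₀p]; exact pow_orderOf_eq_one _)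
    obtain ⟨j, hj⟩ := (hG.to_subgroup E).exists_card_eq
    rw [hj]
    apply Nat.pow_le_pow_right hp.out.pos
    by_contra hcon
    have hj1 : j ≤ 1 := by omega
    have hEp : Nat.card E ≤ p := by
      rw [hj]
      calc p ^ j ≤ p ^ 1 := Nat.pow_le_pow_right hp.out.pos hj1
        _ = p := pow_one p
    have e1 : zpowers x₀ = E := eq_of_le_of_card_ge hxE (by rw [Nat.card_zpowers, hx₀p]; exact hEp)
    have e2 : zpowers y₀ = E := eq_of_le_of_card_ge hyE (by rw [Nat.card_zpowers, hy₀p]; exact hEp)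
    have h3 : x₀ ∈ zpowers x ⊓ zpowers y := by
      refine ⟨hx₀, ?_⟩
      have : x₀ ∈ zpowers y₀ := by rw [e2, ← e1]; exact mem_zpowers _
      exact (zpowers_le.2 hy₀) this
    rw [hxy, mem_bot] at h3
    rw [h3, orderOf_one] at hx₀p
    exact hp.out.one_lt.ne hx₀p

end pgroup

end Cfsg.H1
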