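import Mathlib
import Cfsg.Agent.H1.Fit

set_option autoImplicit false

namespace Cfsg.H1

open Subgroup
open scoped Pointwise

variable {G : Type*} [Group G]

theorem conj_smul_eq_of_mem_normalizer {H : Subgroup G} {g : G}
    (hg : g ∈ normalizer (H : Set G)) : MulAut.conj g • H = H :=
  mem_normalizer_iff_map_conj_eq.1 hg

/-- A `p`-subgroup `Q` of `N` is `N`-conjugate into any Sylow `p`-subgroup of `G` inside `N`. -/
theorem exists_conj_le_sylow_of_le [Finite G] {p : ℕ} [Fact p.Prime] (S : Sylow p G)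
    {N Q : Subgroup G} (hSN : (S : Subgroup G) ≤ N) (hQN : Q ≤ N) (hQ : IsPGroup p Q) :
    ∃ n ∈ N, MulAut.conj n • Q ≤ S := by
  obtain ⟨Q'', hQ''⟩ := (hQ.comap_subtype (K := N)).exists_le_sylow
  obtain ⟨n, hn⟩ := MulAction.exists_smul_eq N Q'' (S.subtype hSN)
  refine ⟨n, n.2, ?_⟩
  intro x hx
  rw [mem_conj_smul_iff] at hx
  have hxN : x ∈ N := by
    have := N.mul_mem (N.mul_mem n.2 (hQN hx)) (N.inv_mem n.2)
    simpa [mul_assoc] using this
  have h1 : (⟨x, hxN⟩ : N) ∈ (n • Q'' : Sylow p N) := by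
    rw [← SetLike.mem_coe, ← Sylow.coe_coe, Sylow.coe_subgroup_smul, SetLike.mem_coe,
      mem_conj_smul_iff]
    apply hQ''
    exact hx
  rw [hn] at h1
  exact h1

theorem isMulCommutative_sylow [Finite G] {p : ℕ} [Fact p.Prime] (S T : Sylow p G)
    (hS : IsMulCommutative S) : IsMulCommutative T := by
  have e : S ≃* T := Sylow.equiv S T
  rw [isMulCommutative_iff] at hS ⊢
  intro a b
  apply e.symm.injective
  rw [map_mul, map_mul, hS]

/-- S0060: Brodkey's theorem. -/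
theorem brodkey [Finite G] (p : ℕ) [Fact p.Prime]
    (S : Sylow p G) (hS : IsMulCommutative S) (hOp : Cfsg.pCore p G = ⊥) :
    ∃ g : G, (S : Subgroup G) ⊓ MulAut.conj g • (S : Subgroup G) = ⊥ := by
  obtain ⟨⟨P₁, P₂⟩, hmin⟩ := Finite.exists_min
    (fun x : Sylow p G × Sylow p G => Nat.card ((x.1 : Subgroup G) ⊓ (x.2 : Subgroup G) : Subgroup G))
  have hD : (P₁ : Subgroup G) ⊓ (P₂ : Subgroup G) = ⊥ := by
    rw [eq_bot_iff, ← hOp, pCore_eq_iInf_sylow]
    apply le_iInf
    intro R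
    set D := (P₁ : Subgroup G) ⊓ (P₂ : Subgroup G) with hDdef
    have hc : ∀ P : Sylow p G, D ≤ P → (P : Subgroup G) ≤ normalizer (D : Set G) := by
      intro P hDP
      have : IsMulCommutative P := isMulCommutative_sylow S P hS
      exact ((P : Subgroup G).le_centralizer.trans (centralizer_le hDP)).trans
        (centralizer_le_normalizer _)
    have h1 := hc P₁ inf_le_left
    have h2 := hc P₂ inf_le_right
    obtain ⟨n, hn, hnle⟩ := exists_conj_le_sylow_of_le P₁ h1
      (inf_le_right : (R : Subgroup G) ⊓ normalizer (D : Set G) ≤ _) (R.2.to_inf_left)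
    have h3 : ((n • R : Sylow p G) : Subgroup G) ⊓ (P₂ : Subgroup G) ≤ D := by
      intro x hx
      refine ⟨hnle ?_, hx.2⟩
      rw [smul_inf, conj_smul_eq_self_of_mem hn]
      exact ⟨hx.1, h2 hx.2⟩
    have h4 := hmin (n • R, P₂)
    have h5 : ((n • R : Sylow p G) : Subgroup G) ⊓ (P₂ : Subgroup G) = D :=
      eq_of_le_of_card_ge h3 h4
    have h6 : D ≤ MulAut.conj n • (R : Subgroup G) := h5 ▸ inf_le_left
    rw [← conj_smul_eq_of_mem_normalizer hn] at h6
    exact pointwise_smul_le_pointwise_smul_iff.1 h6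
  obtain ⟨a, ha⟩ := MulAction.exists_smul_eq G S P₁
  obtain ⟨b, hb⟩ := MulAction.exists_smul_eq G S P₂
  refine ⟨a⁻¹ * b, ?_⟩
  have h7 : MulAut.conj a • ((S : Subgroup G) ⊓ MulAut.conj (a⁻¹ * b) • (S : Subgroup G)) = ⊥ := by
    rw [smul_inf, ← conj_mul_smul, mul_inv_cancel_left, ← hD, ← ha, ← hb]
    rfl
  have h8 := congrArg (fun H => MulAut.conj a⁻¹ • H) h7
  simpa [← conj_mul_smul] using h8

end Cfsg.H1
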