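import Mathlib
import Cfsg.Agent.H1.Meta10

set_option autoImplicit false

namespace Cfsg.H1

open Subgroup
open scoped commutatorElement

variable {P : Type*} [Group P]

theorem index_centralizer_eq_one_iff (x : P) : (centralizer ({x} : Set P)).index = 1 ↔ x ∈ center P := by
  rw [index_eq_one, centralizer_eq_top_iff_subset, Set.singleton_subset_iff]
  rfl

theorem mul_pow_mem_of_comm_mem_center {x y : P} (h : ⁅y, x⁆ ∈ center P) (n : ℕ) :
    ∃ ζ ∈ center P, (x * y) ^ n = x ^ n * y ^ n * ζ := by
  have hc : ∀ g, Commute ⁅y, x⁆ g := fun g => ((mem_center_iff.1 h) g).symm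
  exact ⟨_, pow_mem h _, mul_pow_of_comm_central (hc x) (hc y) n⟩

theorem centralizer_singleton_mul_center (g : P) {ζ : P} (hζ : ζ ∈ center P) :
    centralizer ({g * ζ} : Set P) = centralizer ({g} : Set P) := by
  ext h
  rw [mem_centralizer_singleton_iff, mem_centralizer_singleton_iff]
  have h1 : h * ζ = ζ * h := (mem_center_iff.1 hζ h)
  constructor
  · intro e
    have : h * g * ζ = g * h * ζ := by
      calc h * g * ζ = h * (g * ζ) := by group
        _ = g * ζ * h := e
        _ = g * (ζ * h) := by group
        _ = g * (h * ζ) := by rw [h1]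
        _ = g * h * ζ := by group
    exact mul_right_cancel this
  · intro e
    calc h * (g * ζ) = (h * g) * ζ := by group
      _ = g * h * ζ := by rw [e]
      _ = g * (h * ζ) := by group
      _ = g * (ζ * h) := by rw [h1]
      _ = g * ζ * h := by group

/-- Isaacs: a `p`-group with two class sizes has central quotient of exponent `p`. -/
theorem pow_mem_center_of_two_class_sizes [Finite P] {p : ℕ} [hp : Fact p.Prime]
    (hP : IsPGroup p P) (m : ℕ)
    (hcs : ∀ x : P, (centralizer ({x} : Set P)).index = 1 ∨ (centralizer ({x} : Set P)).index = m)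
    (x : P) : x ^ p ∈ center P := by
  by_contra hxp
  have hidx : ∀ g : P, g ∉ center P → (centralizer ({g} : Set P)).index = m := by
    intro g hg
    rcases hcs g with h | h
    · exact absurd ((index_centralizer_eq_one_iff g).1 h) hg
    · exact h
  have heq : ∀ g h : P, g ∉ center P → h ∉ center P →
      centralizer ({g} : Set P) ≤ centralizer ({h} : Set P) →
      centralizer ({g} : Set P) = centralizer ({h} : Set P) := by
    intro g h hg hh hle
    exact eq_of_le_of_index_le hle (by rw [hidx g hg, hidx h hh])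
  have hpow : ∀ (g : P) (n : ℕ), g ^ n ∉ center P → g ∉ center P := by
    intro g n h1 h2
    exact h1 (pow_mem h2 n)
  have hx : x ∉ center P := hpow x p hxp
  -- a central element of order p modulo the centre
  obtain ⟨z, hz, hzp, hzc⟩ : ∃ z : P, z ∉ center P ∧ z ^ p ∈ center P ∧
      ∀ g : P, ⁅z, g⁆ ∈ center P := by
    haveI : Nontrivial (P ⧸ center P) := by
      refine ⟨⟨(x : P ⧸ center P), 1, ?_⟩⟩
      rw [Ne, QuotientGroup.eq_one_iff]
      exact hx
    have hQ : IsPGroup p (P ⧸ center P) := hP.to_quotient _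
    haveI := hQ.center_nontrivial
    obtain ⟨w, hw⟩ := exists_ne (1 : center (P ⧸ center P))
    have hw1 : (w : P ⧸ center P) ≠ 1 := fun e => hw (Subtype.ext e)
    obtain ⟨w₀, hw₀, hw₀p⟩ := exists_orderOf_eq_prime_mem_zpowers hQ hw1
    have hw₀c : w₀ ∈ center (P ⧸ center P) := (zpowers_le.2 w.2) hw₀
    obtain ⟨z, rfl⟩ := QuotientGroup.mk_surjective w₀
    refine ⟨z, ?_, ?_, ?_⟩
    · intro hz
      rw [(QuotientGroup.eq_one_iff z).2 hz, orderOf_one] at hw₀p
      exact hp.out.one_lt.ne hw₀p
    · rw [← QuotientGroup.eq_one_iff, QuotientGroup.mk_pow, ← hw₀p]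
      exact pow_orderOf_eq_one _
    · intro g
      rw [← QuotientGroup.eq_one_iff]
      have : ((⁅z, g⁆ : P) : P ⧸ center P) = ⁅(z : P ⧸ center P), (g : P ⧸ center P)⁆ := rfl
      rw [this, commutatorElement_eq_one_iff_mul_comm]
      exact (mem_center_iff.1 hw₀c g).symm
  set C₁ := centralizer ({z} : Set P) with hC₁
  -- Claim 1
  have claim1 : ∀ g : P, g ^ p ∉ center P → centralizer ({g} : Set P) = C₁ := by
    intro g hg
    have hg0 := hpow g p hg
    obtain ⟨ζ, hζ, e⟩ := mul_pow_mem_of_comm_mem_center (hzc g) p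
    have e' : (g * z) ^ p = g ^ p * (z ^ p * ζ) := by rw [e]; group
    have hζ' : z ^ p * ζ ∈ center P := mul_mem hzp hζ
    have hgz : (g * z) ^ p ∉ center P := by
      intro h
      rw [e'] at h
      apply hg
      have : g ^ p = g ^ p * (z ^ p * ζ) * (z ^ p * ζ)⁻¹ := by group
      rw [this]
      exact mul_mem h (inv_mem hζ')
    have h1 : centralizer ({g} : Set P) = centralizer ({g ^ p} : Set P) := by
      apply heq g (g ^ p) hg0 hg
      intro h hh
      rw [mem_centralizer_singleton_iff] at hh ⊢
      exact (Commute.pow_right (show Commute h g from hh) p).eq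
    have h2 : centralizer ({g * z} : Set P) = centralizer ({(g * z) ^ p} : Set P) := by
      apply heq (g * z) ((g * z) ^ p) (hpow _ p hgz) hgz
      intro h hh
      rw [mem_centralizer_singleton_iff] at hh ⊢
      exact (Commute.pow_right (show Commute h (g * z) from hh) p).eq
    rw [e', centralizer_singleton_mul_center _ hζ', ← h1] at h2
    apply heq g z hg0 hz
    intro h hh
    have hh2 : h ∈ centralizer ({g * z} : Set P) := by rw [h2]; exact hh
    rw [mem_centralizer_singleton_iff] at hh hh2 ⊢
    have : g * (h * z) = g * (z * h) := by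
      calc g * (h * z) = (g * h) * z := by group
        _ = (h * g) * z := by rw [hh]
        _ = h * (g * z) := by group
        _ = g * z * h := hh2
        _ = g * (z * h) := by group
    exact mul_left_cancel this
  have hself : ∀ g : P, g ∈ centralizer ({g} : Set P) := by
    intro g
    rw [mem_centralizer_singleton_iff]
  have claim2 : ∀ y : P, y ∉ C₁ → y ^ p ∈ center P := by
    intro y hy
    by_contra h
    exact hy (claim1 y h ▸ hself y)
  have hxC : centralizer ({x} : Set P) = C₁ := claim1 x hxp
  have hxC₁ : x ∈ C₁ := hxC ▸ hself x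
  -- Claim 3
  have claim3 : ∀ t ζ : P, ζ ∈ center P → t * x * t⁻¹ = x * ζ → t ∈ C₁ := by
    intro t ζ hζ e
    by_contra ht
    have h1 : ⁅x, t⁆ ∈ center P := by
      have : ⁅x, t⁆ = ζ⁻¹ := by
        have e2 : t * x⁻¹ * t⁻¹ = (x * ζ)⁻¹ := by rw [← e]; group
        calc ⁅x, t⁆ = x * (t * x⁻¹ * t⁻¹) := by rw [commutatorElement_def]; group
          _ = x * (x * ζ)⁻¹ := by rw [e2]
          _ = ζ⁻¹ := by
            rw [mul_inv_rev]
            have := (mem_center_iff.1 (inv_mem hζ) x⁻¹)
            rw [← this]
            group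
      rw [this]
      exact inv_mem hζ
    obtain ⟨ξ, hξ, e3⟩ := mul_pow_mem_of_comm_mem_center h1 p
    have htx : t * x ∉ C₁ := by
      intro h
      apply ht
      have : t = t * x * x⁻¹ := by group
      rw [this]
      exact mul_mem h (inv_mem hxC₁)
    have h2 := claim2 _ htx
    have h3 := claim2 _ ht
    apply hxp
    have : x ^ p = (t ^ p)⁻¹ * (t * x) ^ p * ξ⁻¹ := by rw [e3]; group
    rw [this]
    exact mul_mem (mul_mem (inv_mem h3) h2) (inv_mem hξ)
  set A₁ := centralizer (C₁ : Set P) with hA₁
  have hZA : center P ≤ A₁ := center_le_centralizer _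
  have hconj : ∀ g : P, g * x * g⁻¹ ∈ A₁ ∧ g * x * g⁻¹ ∉ center P := by
    intro g
    have h1 : (g * x * g⁻¹) ^ p ∉ center P := by
      rw [conj_pow]
      intro h
      apply hxp
      have := (inferInstance : (center P).Normal).conj_mem _ h g⁻¹
      simpa [mul_assoc] using this
    refine ⟨?_, hpow _ p h1⟩
    have h2 := claim1 _ h1
    rw [hA₁, mem_centralizer_iff]
    intro c hc
    have : c ∈ centralizer ({g * x * g⁻¹} : Set P) := by rw [h2]; exact hc
    exact (mem_centralizer_singleton_iff.1 this)
  obtain ⟨y, hy⟩ : ∃ y : P, y ∉ C₁ := by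
    by_contra h
    push Not at h
    apply hz
    rw [← index_centralizer_eq_one_iff, index_eq_one, eq_top_iff]
    intro g _
    exact h g
  have hyZ : y ∉ center P := by
    intro h
    apply hy
    rw [hC₁, mem_centralizer_singleton_iff]
    exact (mem_center_iff.1 h z).symm
  -- upper bound
  have hup : ((center P).subgroupOf A₁).index ≤ m := by
    rw [← hidx y hyZ, index_eq_card (centralizer ({y} : Set P))]
    apply index_le_card_of_forall (fun u : A₁ => ((u : P) : P ⧸ centralizer ({y} : Set P)))
    intro u u' e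
    have h1 : (u : P)⁻¹ * u' ∈ centralizer ({y} : Set P) := QuotientGroup.eq.1 e
    rw [mem_subgroupOf]
    have h2 : ((u⁻¹ * u' : A₁) : P) = (u : P)⁻¹ * u' := by simp
    rw [h2]
    by_contra h3
    have h4 : (u : P)⁻¹ * u' ∈ A₁ := mul_mem (inv_mem u.2) u'.2
    have h5 : C₁ = centralizer ({(u : P)⁻¹ * u'} : Set P) := by
      apply heq z _ hz h3
      intro c hc
      rw [mem_centralizer_singleton_iff]
      exact (mem_centralizer_iff.1 h4 c hc)
    apply hy
    rw [h5, mem_centralizer_singleton_iff]
    exact (mem_centralizer_singleton_iff.1 h1).symm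
  -- lower bound
  have hlow : m + 1 ≤ ((center P).subgroupOf A₁).index := by
    have h1 : Nat.card (Option (P ⧸ C₁)) = m + 1 := by
      rw [Finite.card_option, ← index_eq_card, hC₁, hidx z hz]
    rw [← h1]
    apply card_le_index_of_forall (G := A₁)
      (fun o : Option (P ⧸ C₁) => match o with
        | none => (1 : A₁)
        | some q => ⟨q.out * x * q.out⁻¹, (hconj _).1⟩)
    have hnorm : ∀ g w : P, g * w * g⁻¹ ∈ center P → w ∈ center P := by
      intro g w h
      have := (inferInstance : (center P).Normal).conj_mem _ h g⁻¹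
      simpa [mul_assoc] using this
    rintro (_ | q) (_ | q') h
    · rfl
    · exfalso
      rw [mem_subgroupOf] at h
      apply (hconj q'.out).2
      simpa using h
    · exfalso
      rw [mem_subgroupOf] at h
      apply (hconj q.out).2
      have h2 : (q.out * x * q.out⁻¹)⁻¹ ∈ center P := by simpa using h
      simpa using inv_mem h2
    · congr 1
      rw [mem_subgroupOf] at h
      have h2 : (q.out * x * q.out⁻¹)⁻¹ * (q'.out * x * q'.out⁻¹) ∈ center P := by simpa using h
      have h3 : q.out * (x⁻¹ * ((q.out⁻¹ * q'.out) * x * (q.out⁻¹ * q'.out)⁻¹)) * q.out⁻¹ ∈ center P := by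
        have e : q.out * (x⁻¹ * ((q.out⁻¹ * q'.out) * x * (q.out⁻¹ * q'.out)⁻¹)) * q.out⁻¹ =
            (q.out * x * q.out⁻¹)⁻¹ * (q'.out * x * q'.out⁻¹) := by group
        rw [e]; exact h2
      have h4 := hnorm _ _ h3
      have h5 := claim3 (q.out⁻¹ * q'.out) _ h4 (by group)
      rw [← QuotientGroup.eq, QuotientGroup.out_eq', QuotientGroup.out_eq'] at h5
      exact h5
  omega

end Cfsg.H1
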