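import Mathlib
import Cfsg.Agent.S0016
import Cfsg.Agent.Lib.Helper10.Coprime
import Cfsg.Agent.Lib.Helper13.EA

/-! p-groups in which subgroups of the same order are isomorphic. -/

namespace Cfsg.H1

open Subgroup

variable {R : Type*} [Group R]

theorem mem_normalizer_of_conj_mem' [Finite R] (N : Subgroup R) (y : R)
    (h : ∀ n ∈ N, y * n * y⁻¹ ∈ N) : y ∈ normalizer (N : Set R) := by
  rw [mem_normalizer_iff]
  intro n
  refine ⟨h n, fun hn => ?_⟩
  let f : N → N := fun n => ⟨y * n * y⁻¹, h n n.2⟩
  have hinj : Function.Injective f := by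
    intro a b hab
    have := congrArg Subtype.val hab
    apply Subtype.ext
    simpa [f] using this
  obtain ⟨m, hm⟩ := Finite.surjective_of_injective hinj ⟨_, hn⟩
  have h1 : y * m * y⁻¹ = y * n * y⁻¹ := congrArg Subtype.val hm
  have h2 : (m : R) = n := by simpa using h1
  rw [← h2]; exact m.2

theorem inf_zpowers_eq_bot {p : ℕ} (hp : p.Prime) (U : Subgroup R) (w : R) (hw : w ^ p = 1)
    (hwU : w ∉ U) : U ⊓ zpowers w = ⊥ := by
  rw [eq_bot_iff]
  rintro v ⟨hvU, hvw⟩
  obtain ⟨k, rfl⟩ := mem_zpowers_iff.mp hvw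
  rw [mem_bot]
  by_cases hk : (p : ℤ) ∣ k
  · obtain ⟨j, rfl⟩ := hk
    rw [zpow_mul, zpow_natCast, hw, one_zpow]
  · exfalso
    apply hwU
    have hcop : IsCoprime k (p : ℤ) := by
      rw [isCoprime_comm]
      exact (Nat.prime_iff_prime_int.mp hp).coprime_iff_not_dvd.mpr hk
    obtain ⟨a, b, hab⟩ := hcop
    have : w = (w ^ k) ^ a * (w ^ (p : ℤ)) ^ b := by
      rw [← zpow_mul, ← zpow_mul, ← zpow_add, mul_comm k a, mul_comm (p : ℤ) b, hab, zpow_one]
    rw [this, zpow_natCast, hw, one_zpow, mul_one]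
    exact U.zpow_mem hvU a

theorem card_sup_zpowers {p : ℕ} (hp : p.Prime) (U : Subgroup R) (w : R) (hw : w ^ p = 1)
    (hwU : w ∉ U) (hn : w ∈ normalizer (U : Set R)) :
    Nat.card (U ⊔ zpowers w : Subgroup R) = Nat.card U * p := by
  rw [Cfsg.Agent.Lib.Helper10.card_sup_eq_mul U (zpowers w) (by rw [zpowers_le]; exact hn)
    (inf_zpowers_eq_bot hp U w hw hwU), Nat.card_zpowers]
  congr 1
  haveI : Fact p.Prime := ⟨hp⟩
  apply orderOf_eq_prime hw
  rintro rfl
  exact hwU (one_mem _)

theorem exists_central_mod [Finite R] {p : ℕ} [Fact p.Prime] (hR : IsPGroup p R) (W : Subgroup R)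
    [W.Normal] (hW : W ≠ ⊤) : ∃ x ∉ W, ∀ g : R, g * x * g⁻¹ * x⁻¹ ∈ W := by
  haveI : Nontrivial (R ⧸ W) := by
    rw [← Finite.one_lt_card_iff_nontrivial]
    have h1 : W.index ≠ 1 := fun h => hW (index_eq_one.mp h)
    have h2 : W.index ≠ 0 := index_ne_zero_of_finite
    change 1 < W.index
    omega
  have hq : IsPGroup p (R ⧸ W) := hR.to_quotient W
  haveI := hq.center_nontrivial
  obtain ⟨xb, hxb⟩ := exists_ne (1 : center (R ⧸ W))
  obtain ⟨x, hx⟩ := QuotientGroup.mk_surjective (xb : R ⧸ W)
  refine ⟨x, ?_, ?_⟩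
  · intro hxW
    apply hxb
    apply Subtype.ext
    rw [← hx]
    exact (QuotientGroup.eq_one_iff x).mpr hxW
  · intro g
    rw [← QuotientGroup.eq_one_iff]
    have h1 := mem_center_iff.mp xb.2 (g : R ⧸ W)
    rw [← hx] at h1
    rw [QuotientGroup.mk_mul, QuotientGroup.mk_mul, QuotientGroup.mk_mul, h1,
      QuotientGroup.mk_inv, QuotientGroup.mk_inv]
    group

theorem exists_nonabelian_card_cube [Finite R] {p : ℕ} [hp : Fact p.Prime] (hR : IsPGroup p R)
    (hexp : ∀ x : R, x ^ p = 1) (hnc : ¬ IsMulCommutative R) :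
    ∃ (c : R) (M : Subgroup R), c ∈ center R ∧ c ≠ 1 ∧ Nat.card M = p ^ 3 ∧
      ¬ IsMulCommutative M := by
  have hZ : center R ≠ ⊤ := by
    intro h
    apply hnc
    refine ⟨⟨fun a b => ?_⟩⟩
    have : b ∈ center R := by rw [h]; trivial
    exact mem_center_iff.mp this a
  obtain ⟨x, hxZ, hx⟩ := exists_central_mod hR (center R) hZ
  obtain ⟨y, hy⟩ : ∃ y : R, y * x ≠ x * y := by
    by_contra hcon
    push Not at hcon
    exact hxZ (mem_center_iff.mpr hcon)
  set c := y * x * y⁻¹ * x⁻¹ with hc
  have hcZ : c ∈ center R := hx y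
  have hc1 : c ≠ 1 := by
    intro h1
    apply hy
    have : y * x * y⁻¹ = x := mul_inv_eq_one.mp h1
    rw [mul_inv_eq_iff_eq_mul] at this
    exact this
  have hyx : y * x * y⁻¹ = c * x := by rw [hc]; group
  have hcc : ∀ g : R, g * c = c * g := mem_center_iff.mp hcZ
  set N := zpowers c ⊔ zpowers x with hN
  have hxc : x ∉ zpowers c := by
    intro h
    apply hxZ
    exact (zpowers_le.mpr hcZ) h
  have hcardc : Nat.card (zpowers c) = p := by
    rw [Nat.card_zpowers]; exact orderOf_eq_prime (hexp c) hc1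
  have hNcard : Nat.card N = p * p := by
    rw [hN, card_sup_zpowers hp.out (zpowers c) x (hexp x) hxc, hcardc]
    apply mem_normalizer_of_conj_mem'
    intro n hn
    have hnZ : n ∈ center R := (zpowers_le.mpr hcZ) hn
    have : x * n * x⁻¹ = n := by rw [mem_center_iff.mp hnZ x]; group
    rw [this]; exact hn
  have hNx : N ≤ centralizer ({x} : Set R) := by
    rw [hN]
    apply sup_le
    · rw [zpowers_le, mem_centralizer_singleton_iff]
      exact (hcc x).symm
    · rw [zpowers_le, mem_centralizer_singleton_iff]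
  have hyN : y ∉ N := by
    intro h
    exact hy (mem_centralizer_singleton_iff.mp (hNx h))
  have hynorm : y ∈ normalizer (N : Set R) := by
    apply mem_normalizer_of_conj_mem'
    have h1 : N.map (MulAut.conj y).toMonoidHom ≤ N := by
      rw [hN, Subgroup.map_sup, MonoidHom.map_zpowers, MonoidHom.map_zpowers]
      apply sup_le
      · rw [zpowers_le]
        have : (MulAut.conj y).toMonoidHom c = c := by
          change y * c * y⁻¹ = c
          rw [hcc y]; group
        rw [this]
        exact le_sup_left (a := zpowers c) (mem_zpowers c)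
      · rw [zpowers_le]
        have : (MulAut.conj y).toMonoidHom x = c * x := hyx
        rw [this]
        exact mul_mem (le_sup_left (a := zpowers c) (mem_zpowers c))
          (le_sup_right (a := zpowers c) (mem_zpowers x))
    intro n hn
    exact h1 ⟨n, hn, rfl⟩
  refine ⟨c, N ⊔ zpowers y, hcZ, hc1, ?_, ?_⟩
  · rw [card_sup_zpowers hp.out N y (hexp y) hyN hynorm, hNcard]; ring
  · intro hcomm
    apply hy
    have hxM : x ∈ N ⊔ zpowers y :=
      le_sup_left (a := N) (le_sup_right (a := zpowers c) (mem_zpowers x))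
    have hyM : y ∈ N ⊔ zpowers y := le_sup_right (a := N) (mem_zpowers y)
    exact congrArg Subtype.val (mul_comm' (⟨y, hyM⟩ : (N ⊔ zpowers y : Subgroup R)) ⟨x, hxM⟩)

theorem exists_abelian_card_cube [Finite R] {p : ℕ} [hp : Fact p.Prime] (hR : IsPGroup p R)
    (hexp : ∀ x : R, x ^ p = 1) (c : R) (hcZ : c ∈ center R) (hc1 : c ≠ 1) (n : ℕ) (hn : 4 ≤ n)
    (hcard : Nat.card R = p ^ n) : ∃ A : Subgroup R, Nat.card A = p ^ 3 ∧ IsMulCommutative A := by
  have hcc : ∀ g : R, g * c = c * g := mem_center_iff.mp hcZ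
  have hcardc : Nat.card (zpowers c) = p := by
    rw [Nat.card_zpowers]; exact orderOf_eq_prime (hexp c) hc1
  have hle : zpowers c ≤ center R := zpowers_le.mpr hcZ
  haveI hnorm : (zpowers c).Normal := by
    refine ⟨fun n hn g => ?_⟩
    have : g * n * g⁻¹ = n := by rw [mem_center_iff.mp (hle hn) g]; group
    rw [this]; exact hn
  have hne : zpowers c ≠ ⊤ := by
    intro h
    have h1 : Nat.card (zpowers c) = Nat.card R := by rw [h, card_top]
    rw [hcardc, hcard] at h1
    have h2 : p ^ 1 < p ^ n := Nat.pow_lt_pow_right hp.out.one_lt (by omega)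
    rw [pow_one] at h2
    omega
  obtain ⟨x, hxc, hx⟩ := exists_central_mod hR (zpowers c) hne
  -- the commutator homomorphism
  let ψ : R →* zpowers c :=
    { toFun := fun g => ⟨g * x * g⁻¹ * x⁻¹, hx g⟩
      map_one' := by apply Subtype.ext; simp
      map_mul' := by
        intro g h
        apply Subtype.ext
        have hu : ∀ t : R, t * (h * x * h⁻¹ * x⁻¹) = (h * x * h⁻¹ * x⁻¹) * t :=
          mem_center_iff.mp (hle (hx h))
        change g * h * x * (g * h)⁻¹ * x⁻¹ = (g * x * g⁻¹ * x⁻¹) * (h * x * h⁻¹ * x⁻¹)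
        calc g * h * x * (g * h)⁻¹ * x⁻¹ = g * (h * x * h⁻¹ * x⁻¹) * (x * g⁻¹ * x⁻¹) := by group
          _ = (h * x * h⁻¹ * x⁻¹) * g * (x * g⁻¹ * x⁻¹) := by rw [hu g]
          _ = (h * x * h⁻¹ * x⁻¹) * (g * x * g⁻¹ * x⁻¹) := by group
          _ = (g * x * g⁻¹ * x⁻¹) * (h * x * h⁻¹ * x⁻¹) := (hu _).symm }
  set C := centralizer ({x} : Set R) with hC
  have hker : ψ.ker = C := by
    ext g
    rw [MonoidHom.mem_ker, hC, mem_centralizer_singleton_iff]
    constructor
    · intro h
      have h1 : g * x * g⁻¹ * x⁻¹ = 1 := congrArg Subtype.val h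
      have h2 : g * x * g⁻¹ = x := mul_inv_eq_one.mp h1
      rw [mul_inv_eq_iff_eq_mul] at h2
      exact h2
    · intro h
      apply Subtype.ext
      change g * x * g⁻¹ * x⁻¹ = 1
      rw [h]; group
  have hCidx : C.index ∣ p := by
    rw [← hker, index_ker, ← hcardc]
    exact card_subgroup_dvd_card _
  have hCcard : p ^ 3 ≤ Nat.card C := by
    have h1 := C.card_mul_index
    rw [hcard] at h1
    have h2 : C.index ≤ p := Nat.le_of_dvd hp.out.pos hCidx
    have h3 : p ^ n ≤ Nat.card C * p := by rw [← h1]; exact Nat.mul_le_mul_left _ h2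
    have h4 : p ^ 3 * p ≤ p ^ n := by
      rw [← pow_succ]; exact Nat.pow_le_pow_right hp.out.pos hn
    exact Nat.le_of_mul_le_mul_right (h4.trans h3) hp.out.pos
  set N := zpowers c ⊔ zpowers x with hN
  have hNcard : Nat.card N = p * p := by
    rw [hN, card_sup_zpowers hp.out (zpowers c) x (hexp x) hxc, hcardc]
    rw [normalizer_eq_top]; trivial
  have hNC : N ≤ C := by
    rw [hN]
    apply sup_le
    · rw [zpowers_le, hC, mem_centralizer_singleton_iff]
      exact (hcc x).symm
    · rw [zpowers_le, hC, mem_centralizer_singleton_iff]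
  obtain ⟨w, hwC, hwN⟩ : ∃ w ∈ C, w ∉ N := by
    by_contra hcon
    push Not at hcon
    have h1 : Nat.card C ≤ Nat.card N := Nat.le_of_dvd Nat.card_pos (card_dvd_of_le hcon)
    rw [hNcard] at h1
    have h2 : p * p < p ^ 3 := by
      rw [← sq]; exact Nat.pow_lt_pow_right hp.out.one_lt (by omega)
    omega
  have hwx : w * x = x * w := mem_centralizer_singleton_iff.mp hwC
  have hEAN : Cfsg.IsElementaryAbelian p N := by
    apply Cfsg.Agent.Lib.Helper13.IsEA.sup (Cfsg.Agent.Lib.Helper13.isEA_zpowers (hexp c))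
      (Cfsg.Agent.Lib.Helper13.isEA_zpowers (hexp x))
    rw [zpowers_le, mem_centralizer_iff]
    intro t ht
    exact (mem_center_iff.mp (hle ht) x).symm
  have hwcent : zpowers w ≤ centralizer (N : Set R) := by
    rw [zpowers_le]
    have : N ≤ centralizer ({w} : Set R) := by
      rw [hN]
      apply sup_le
      · rw [zpowers_le, mem_centralizer_singleton_iff]
        exact (hcc w).symm
      · rw [zpowers_le, mem_centralizer_singleton_iff]
        exact hwx.symm
    rw [mem_centralizer_iff]
    intro t ht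
    exact mem_centralizer_singleton_iff.mp (this ht)
  have hEA : Cfsg.IsElementaryAbelian p (N ⊔ zpowers w) :=
    Cfsg.Agent.Lib.Helper13.IsEA.sup hEAN (Cfsg.Agent.Lib.Helper13.isEA_zpowers (hexp w)) hwcent
  refine ⟨N ⊔ zpowers w, ?_, hEA.1⟩
  rw [card_sup_zpowers hp.out N w (hexp w) hwN
    ((centralizer_le_normalizer _) (hwcent (mem_zpowers w))), hNcard]
  ring

theorem quat_not_same_order_iso (n : ℕ) (hn : 2 ≤ n)
    (hiso : ∀ A B : Subgroup (QuaternionGroup (2 ^ n)), Nat.card A = Nat.card B →
      Nonempty (A ≃* B)) : False := by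
  haveI : NeZero (2 ^ n) := ⟨by positivity⟩
  have hA : Nat.card (zpowers (QuaternionGroup.a 1 : QuaternionGroup (2 ^ n))) = 2 ^ (n + 1) := by
    rw [Nat.card_zpowers, QuaternionGroup.orderOf_a_one, pow_succ, mul_comm]
  have hX : Nat.card (zpowers (QuaternionGroup.xa 0 : QuaternionGroup (2 ^ n))) = 2 ^ 2 := by
    rw [Nat.card_zpowers, QuaternionGroup.orderOf_xa]; norm_num
  have hdvd : 2 ^ (n + 1) ∣ Nat.card (QuaternionGroup (2 ^ n)) := by
    rw [Nat.card_eq_fintype_card, QuaternionGroup.card, pow_succ, mul_comm]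
    exact Nat.mul_dvd_mul (by norm_num) dvd_rfl
  obtain ⟨B, hBcard, hXB⟩ := Sylow.exists_subgroup_card_pow_prime_le 2 hdvd _ hX (by omega)
  obtain ⟨f⟩ := hiso _ B (hA.trans hBcard.symm)
  have hBc : IsCyclic B := isCyclic_of_surjective f.toMonoidHom f.surjective
  obtain ⟨b, hb⟩ := hBc.exists_generator
  have hbo : orderOf b = 2 ^ (n + 1) := by
    rw [orderOf_eq_card_of_forall_mem_zpowers hb, hBcard]
  have hxB : (QuaternionGroup.xa 0 : QuaternionGroup (2 ^ n)) ∈ B := hXB (mem_zpowers _)
  have hmem := hb ⟨_, hxB⟩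
  rw [← Subgroup.orderOf_coe] at hbo
  obtain ⟨k, hk⟩ := mem_zpowers_iff.mp hmem
  have hk' : (b : QuaternionGroup (2 ^ n)) ^ k = QuaternionGroup.xa 0 := by
    have := congrArg Subtype.val hk
    simpa using this
  rcases hbq : (b : QuaternionGroup (2 ^ n)) with j | j
  · rw [hbq] at hk'
    have h1 : (QuaternionGroup.a j : QuaternionGroup (2 ^ n)) ∈
        zpowers (QuaternionGroup.a 1 : QuaternionGroup (2 ^ n)) := by
      rw [mem_zpowers_iff]
      refine ⟨(j.val : ℤ), ?_⟩
      haveI : NeZero (2 * 2 ^ n) := ⟨by positivity⟩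
      rw [zpow_natCast, QuaternionGroup.a_one_pow, ZMod.natCast_zmod_val]
    have h2 : (QuaternionGroup.xa 0 : QuaternionGroup (2 ^ n)) ∈
        zpowers (QuaternionGroup.a 1 : QuaternionGroup (2 ^ n)) := by
      rw [← hk']; exact zpow_mem h1 k
    rw [← mem_powers_iff_mem_zpowers] at h2
    obtain ⟨m, hm⟩ := h2
    simp only [QuaternionGroup.a_one_pow] at hm
    cases hm
  · rw [hbq, QuaternionGroup.orderOf_xa] at hbo
    have : 2 ^ 3 ≤ 2 ^ (n + 1) := Nat.pow_le_pow_right (by norm_num) (by omega)
    omega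

theorem same_order_iso_structure [Finite R] {p : ℕ} [hp : Fact p.Prime] (hR : IsPGroup p R)
    (hiso : ∀ A B : Subgroup R, Nat.card A = Nat.card B → Nonempty (A ≃* B)) :
    IsCyclic R ∨ (IsMulCommutative R ∧ ∀ x : R, x ^ p = 1) ∨
      (p = 2 ∧ Nonempty (R ≃* QuaternionGroup 2)) ∨
      (p ≠ 2 ∧ ¬ IsMulCommutative R ∧ Nat.card R = p ^ 3 ∧ ∀ x : R, x ^ p = 1) := by
  by_cases huniq : ∀ H K : Subgroup R, Nat.card H = p → Nat.card K = p → H = K
  · rcases Cfsg.Agent.S0016.result p hR huniq with hc | ⟨hp2, n, ⟨e⟩⟩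
    · exact Or.inl hc
    · rcases Nat.lt_or_ge n 2 with hn | hn
      · interval_cases n
        · left
          haveI : IsCyclic (QuaternionGroup (2 ^ 0)) := by
            rw [pow_zero]; exact QuaternionGroup.quaternionGroup_one_isCyclic
          exact isCyclic_of_injective e.toMonoidHom e.injective
        · right; right; left
          exact ⟨hp2, ⟨e⟩⟩
      · exfalso
        apply quat_not_same_order_iso n hn
        intro A B hAB
        have h1 : Nat.card (A.map (e.symm : QuaternionGroup (2 ^ n) →* R)) =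
            Nat.card (B.map (e.symm : QuaternionGroup (2 ^ n) →* R)) := by
          rw [← Nat.card_congr (e.symm.subgroupMap A).toEquiv,
            ← Nat.card_congr (e.symm.subgroupMap B).toEquiv, hAB]
        obtain ⟨f⟩ := hiso _ _ h1
        exact ⟨((e.symm.subgroupMap A).trans f).trans (e.symm.subgroupMap B).symm⟩
  · push Not at huniq
    obtain ⟨H, K, hH, hK, hHK⟩ := huniq
    haveI : Nontrivial R := by
      by_contra hnt
      rw [not_nontrivial_iff_subsingleton] at hnt
      have : Nat.card H = 1 := Nat.card_eq_one_iff_unique.2 ⟨inferInstance, ⟨1⟩⟩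
      rw [hH] at this
      exact hp.out.one_lt.ne' this
    haveI := hR.center_nontrivial
    have hcz : p ∣ Nat.card (center R) := by
      obtain ⟨k, hk⟩ := (hR.to_subgroup (center R)).exists_card_eq
      rcases k with _ | k
      · exfalso
        rw [pow_zero] at hk
        have := (Nat.card_eq_one_iff_unique.1 hk).1
        exact not_subsingleton (center R) this
      · rw [hk]; exact dvd_pow_self p (by omega)
    obtain ⟨z, hz⟩ := exists_prime_orderOf_dvd_card' (G := center R) p hcz
    have hzo : orderOf (z : R) = p := by rw [Subgroup.orderOf_coe, hz]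
    have hzp : (z : R) ^ p = 1 := by rw [← hzo]; exact pow_orderOf_eq_one _
    -- an element of order p outside ⟨z⟩
    obtain ⟨y, hyp, hyz⟩ : ∃ y : R, y ^ p = 1 ∧ y ∉ zpowers (z : R) := by
      have aux : ∀ L : Subgroup R, Nat.card L = p → L ≠ zpowers (z : R) →
          ∃ y : R, y ^ p = 1 ∧ y ∉ zpowers (z : R) := by
        intro L hL hne
        by_contra hcon
        push Not at hcon
        apply hne
        apply eq_of_le_of_card_ge
        · intro y hy
          apply hcon
          have := pow_card_eq_one' (G := L) (x := ⟨y, hy⟩)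
          rw [hL] at this
          have := congrArg Subtype.val this
          simpa using this
        · rw [hL, Nat.card_zpowers, hzo]
      by_cases hHz : H = zpowers (z : R)
      · exact aux K hK (fun h => hHK (hHz.trans h.symm))
      · exact aux H hH hHz
    set E := zpowers (z : R) ⊔ zpowers y with hE
    have hzc : ∀ g : R, g * (z : R) = (z : R) * g := mem_center_iff.mp z.2
    have hEcard : Nat.card E = p * p := by
      rw [hE, card_sup_zpowers hp.out _ y hyp hyz, Nat.card_zpowers, hzo]
      apply mem_normalizer_of_conj_mem'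
      intro n hn
      have hnZ : n ∈ center R := (zpowers_le.mpr z.2) hn
      have : y * n * y⁻¹ = n := by rw [mem_center_iff.mp hnZ y]; group
      rw [this]; exact hn
    have hEEA : Cfsg.IsElementaryAbelian p E := by
      apply Cfsg.Agent.Lib.Helper13.IsEA.sup (Cfsg.Agent.Lib.Helper13.isEA_zpowers hzp)
        (Cfsg.Agent.Lib.Helper13.isEA_zpowers hyp)
      rw [zpowers_le, mem_centralizer_iff]
      intro t ht
      exact (mem_center_iff.mp ((zpowers_le.mpr z.2) ht) y).symm
    have hexp : ∀ x : R, x ^ p = 1 := by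
      intro x
      by_contra hx
      obtain ⟨k, hk⟩ := IsPGroup.iff_orderOf.mp hR x
      have hk2 : 2 ≤ k := by
        by_contra hcon
        apply hx
        have : orderOf x ∣ p := by
          rw [hk]
          have : k ≤ 1 := by omega
          calc p ^ k ∣ p ^ 1 := Nat.pow_dvd_pow p this
            _ = p := pow_one p
        exact orderOf_dvd_iff_pow_eq_one.mp this
      set x' := x ^ (p ^ (k - 2)) with hx'
      have hx'o : orderOf x' = p * p := by
        rw [hx', orderOf_pow_of_dvd (pow_pos hp.out.pos _).ne' (by rw [hk]; exact Nat.pow_dvd_pow p (by omega)),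
          hk]
        have : p ^ k = p ^ (k - 2) * (p * p) := by
          rw [← sq, ← pow_add]; congr 1; omega
        rw [this, Nat.mul_div_cancel_left _ (pow_pos hp.out.pos _)]
      obtain ⟨f⟩ := hiso (zpowers x') E (by rw [Nat.card_zpowers, hx'o, hEcard])
      have h1 : (f ⟨x', mem_zpowers x'⟩) ^ p = 1 := by
        apply Subtype.ext
        have := hEEA.2 _ (f ⟨x', mem_zpowers x'⟩).2
        simpa using this
      rw [← map_pow] at h1
      have h2 : (⟨x', mem_zpowers x'⟩ : zpowers x') ^ p = 1 := by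
        apply f.injective; rw [h1, map_one]
      have h3 : x' ^ p = 1 := by
        have := congrArg Subtype.val h2
        simpa using this
      have h4 := orderOf_dvd_of_pow_eq_one h3
      rw [hx'o] at h4
      have h5 := Nat.le_of_dvd hp.out.pos h4
      have h6 : p * 2 ≤ p * p := Nat.mul_le_mul_left p hp.out.two_le
      have := hp.out.pos
      omega
    by_cases hcomm : IsMulCommutative R
    · exact Or.inr (Or.inl ⟨hcomm, hexp⟩)
    · right; right; right
      have hp2 : p ≠ 2 := by
        rintro rfl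
        apply hcomm
        refine ⟨⟨fun a b => ?_⟩⟩
        have ha : a⁻¹ = a := by
          rw [inv_eq_iff_mul_eq_one, ← sq]; exact hexp a
        have hb : b⁻¹ = b := by
          rw [inv_eq_iff_mul_eq_one, ← sq]; exact hexp b
        have hab : (a * b)⁻¹ = a * b := by
          rw [inv_eq_iff_mul_eq_one, ← sq]; exact hexp (a * b)
        rw [← hab, mul_inv_rev, ha, hb]
      obtain ⟨n, hn⟩ := hR.exists_card_eq
      have hn3 : 3 ≤ n := by
        by_contra hcon
        apply hcomm
        have : n ≤ 2 := by omega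
        interval_cases n
        · rw [pow_zero] at hn
          haveI := (Nat.card_eq_one_iff_unique.1 hn).1
          exact ⟨⟨fun a b => Subsingleton.elim _ _⟩⟩
        · rw [pow_one] at hn
          exact (isCyclic_of_prime_card hn).isMulCommutative
        · exact IsPGroup.isMulCommutative_of_card_eq_prime_sq hn
      have hn3' : n ≤ 3 := by
        by_contra hcon
        obtain ⟨c, M, hcZ, hc1, hMcard, hMnc⟩ := exists_nonabelian_card_cube hR hexp hcomm
        obtain ⟨A, hAcard, hAc⟩ := exists_abelian_card_cube hR hexp c hcZ hc1 n (by omega) hn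
        obtain ⟨f⟩ := hiso A M (hAcard.trans hMcard.symm)
        apply hMnc
        refine ⟨⟨fun a b => ?_⟩⟩
        apply f.symm.injective
        rw [map_mul, map_mul]
        exact mul_comm' _ _
      have : n = 3 := by omega
      subst this
      exact ⟨hp2, hcomm, hn, hexp⟩

theorem same_order_iso_of_conj {G : Type*} [Group G] [Finite G]
    {p : ℕ} [Fact p.Prime] (hC : ∀ H K : Subgroup G, IsPGroup p H → IsPGroup p K →
      Nat.card H = Nat.card K → ∃ g : G, K = H.map (MulAut.conj g).toMonoidHom)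
    (Ps : Subgroup G) (hPs : IsPGroup p Ps) (A B : Subgroup Ps) (hAB : Nat.card A = Nat.card B) :
    Nonempty (A ≃* B) := by
  have eA : A ≃* A.map Ps.subtype := A.equivMapOfInjective Ps.subtype Ps.subtype_injective
  have eB : B ≃* B.map Ps.subtype := B.equivMapOfInjective Ps.subtype Ps.subtype_injective
  have hA : IsPGroup p (A.map Ps.subtype) := hPs.to_le (Subgroup.map_subtype_le A)
  have hB : IsPGroup p (B.map Ps.subtype) := hPs.to_le (Subgroup.map_subtype_le B)
  obtain ⟨g, hg⟩ := hC _ _ hA hB (by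
    rw [← Nat.card_congr eA.toEquiv, ← Nat.card_congr eB.toEquiv, hAB])
  have e1 : A.map Ps.subtype ≃* (A.map Ps.subtype).map (MulAut.conj g).toMonoidHom :=
    (A.map Ps.subtype).equivMapOfInjective _ (MulAut.conj g).injective
  exact ⟨eA.trans (e1.trans ((MulEquiv.subgroupCongr hg.symm).trans eB.symm))⟩

end Cfsg.H1
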