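import Mathlib
import Cfsg.Agent.H4.Nilp
import Cfsg.Agent.Lib.Helper10.Coprime
import Cfsg.Agent.H1.SameOrderIso

set_option autoImplicit false

namespace Cfsg.H1
open Subgroup

section
variable {G : Type*} [Group G] [Finite G]

/-- Common eigenvector for a commuting family of involutions acting on an abelian subgroup. -/
theorem exists_eigen (I M : Subgroup G) (hIc : ∀ a ∈ I, ∀ b ∈ I, a * b = b * a)
    (hI2 : ∀ b ∈ I, b * b = 1) (hMc : ∀ x ∈ M, ∀ y ∈ M, x * y = y * x) (hMne : M ≠ ⊥)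
    (hMI : ∀ b ∈ I, ∀ y ∈ M, b * y * b⁻¹ ∈ M) :
    ∃ y ∈ M, (orderOf y).Prime ∧ ∀ b ∈ I, b * y * b⁻¹ = y ∨ b * y * b⁻¹ = y⁻¹ := by
  classical
  let P : Subgroup G → Prop := fun K => K ≠ ⊥ ∧ K ≤ M ∧ ∀ b ∈ I, ∀ y ∈ K, b * y * b⁻¹ ∈ K
  obtain ⟨K, hK⟩ := exists_minimal_of_wellFoundedLT P ⟨M, hMne, le_rfl, hMI⟩
  obtain ⟨⟨hKne, hKM, hKI⟩, hKmin⟩ := hK
  have key : ∀ b ∈ I, (∀ y ∈ K, b * y * b⁻¹ = y) ∨ (∀ y ∈ K, b * y * b⁻¹ = y⁻¹) := by
    intro b hb
    have hbinv : b⁻¹ = b := inv_eq_of_mul_eq_one_left (hI2 b hb)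
    by_cases h0 : K ⊓ centralizer ({b} : Set G) = ⊥
    · right
      intro y hy
      have h1 : y * (b * y * b⁻¹) ∈ K ⊓ centralizer ({b} : Set G) := by
        refine mem_inf.mpr ⟨K.mul_mem hy (hKI b hb y hy), ?_⟩
        rw [mem_centralizer_singleton_iff]
        have hc : y * (b * y * b⁻¹) = (b * y * b⁻¹) * y :=
          hMc _ (hKM hy) _ (hKM (hKI b hb y hy))
        have hbb : b * b = 1 := hI2 b hb
        calc y * (b * y * b⁻¹) * b = (b * y * b⁻¹) * y * b := by rw [hc]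
          _ = b * y * b * y * b := by rw [hbinv]
          _ = b * (y * (b * y * b)) := by group
          _ = b * (y * (b * y * b⁻¹)) := by rw [hbinv]
      rw [h0, mem_bot] at h1
      exact eq_inv_of_mul_eq_one_right h1
    · left
      have hP : P (K ⊓ centralizer ({b} : Set G)) := by
        refine ⟨h0, inf_le_left.trans hKM, ?_⟩
        intro c hc y hy
        obtain ⟨hy1, hy2⟩ := mem_inf.mp hy
        refine mem_inf.mpr ⟨hKI c hc y hy1, ?_⟩
        rw [mem_centralizer_singleton_iff] at hy2 ⊢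
        have hbc : c * b = b * c := hIc c hc b hb
        have hbc' : c⁻¹ * b = b * c⁻¹ := by
          have : b = c * b * c⁻¹ := by rw [hbc]; group
          calc c⁻¹ * b = c⁻¹ * (c * b * c⁻¹) := by rw [← this]
            _ = b * c⁻¹ := by group
        calc c * y * c⁻¹ * b = c * y * (c⁻¹ * b) := by group
          _ = c * y * (b * c⁻¹) := by rw [hbc']
          _ = c * (y * b) * c⁻¹ := by group
          _ = c * (b * y) * c⁻¹ := by rw [hy2]
          _ = (c * b) * y * c⁻¹ := by group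
          _ = (b * c) * y * c⁻¹ := by rw [hbc]
          _ = b * (c * y * c⁻¹) := by group
      have hle : K ≤ K ⊓ centralizer ({b} : Set G) := hKmin hP inf_le_left
      intro y hy
      have := (mem_inf.mp (hle hy)).2
      rw [mem_centralizer_singleton_iff] at this
      rw [← this, mul_inv_cancel_right]
  have hK1 : Nat.card K ≠ 1 := fun h1 => hKne (card_eq_one.mp h1)
  obtain ⟨p, hp, hpK⟩ := Nat.exists_prime_and_dvd hK1
  haveI : Fact p.Prime := ⟨hp⟩
  obtain ⟨y, hy⟩ := exists_prime_orderOf_dvd_card' p hpK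
  refine ⟨y.1, hKM y.2, by rw [Subgroup.orderOf_coe, hy]; exact hp, ?_⟩
  intro b hb
  rcases key b hb with h | h
  · exact Or.inl (h _ y.2)
  · exact Or.inr (h _ y.2)

/-- good elements: eigenvectors of prime order -/
def GoodEl (I E : Subgroup G) (x : G) : Prop :=
  x ∈ E ∧ (orderOf x).Prime ∧ ∀ b ∈ I, b * x * b⁻¹ = x ∨ b * x * b⁻¹ = x⁻¹

theorem exists_good_inverted (I E : Subgroup G) (hIc : ∀ a ∈ I, ∀ b ∈ I, a * b = b * a)
    (hI2 : ∀ b ∈ I, b * b = 1) (hEc : ∀ x ∈ E, ∀ y ∈ E, x * y = y * x)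
    (hEI : ∀ b ∈ I, ∀ y ∈ E, b * y * b⁻¹ ∈ E) (t : G) (ht : t ∈ I)
    (htE : t ∉ centralizer (E : Set G)) :
    ∃ x, GoodEl I E x ∧ t * x * t⁻¹ = x⁻¹ := by
  have htinv : t⁻¹ = t := inv_eq_of_mul_eq_one_left (hI2 t ht)
  let M : Subgroup G :=
    { carrier := {y | y ∈ E ∧ t * y * t⁻¹ = y⁻¹}
      mul_mem' := by
        rintro x y ⟨hx, hx'⟩ ⟨hy, hy'⟩
        refine ⟨E.mul_mem hx hy, ?_⟩
        calc t * (x * y) * t⁻¹ = (t * x * t⁻¹) * (t * y * t⁻¹) := by group
          _ = x⁻¹ * y⁻¹ := by rw [hx', hy']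
          _ = (y * x)⁻¹ := by group
          _ = (x * y)⁻¹ := by rw [hEc x hx y hy]
      one_mem' := ⟨E.one_mem, by group⟩
      inv_mem' := by
        rintro x ⟨hx, hx'⟩
        refine ⟨E.inv_mem hx, ?_⟩
        calc t * x⁻¹ * t⁻¹ = (t * x * t⁻¹)⁻¹ := by group
          _ = x⁻¹⁻¹ := by rw [hx'] }
  have hMmem : ∀ y, y ∈ M ↔ y ∈ E ∧ t * y * t⁻¹ = y⁻¹ := fun y => Iff.rfl
  have hMne : M ≠ ⊥ := by
    intro hbot
    apply htE
    rw [mem_centralizer_iff]
    intro e he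
    have he' : e ∈ E := he
    have h1 : e⁻¹ * (t * e * t⁻¹) ∈ M := by
      rw [hMmem]
      refine ⟨E.mul_mem (E.inv_mem he') (hEI t ht e he'), ?_⟩
      calc t * (e⁻¹ * (t * e * t⁻¹)) * t⁻¹ = t * e⁻¹ * (t * e * t⁻¹) * t⁻¹ := by group
        _ = t * e⁻¹ * (t * e * t) * t := by rw [htinv]
        _ = t * e⁻¹ * t * e * (t * t) := by group
        _ = t * e⁻¹ * t * e := by rw [hI2 t ht, mul_one]
        _ = t * e⁻¹ * t⁻¹ * e := by rw [htinv]
        _ = (e⁻¹ * (t * e * t⁻¹))⁻¹ := by group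
    rw [hbot, mem_bot] at h1
    have h2 : t * e * t⁻¹ = e := by
      have := congrArg (e * ·) h1
      simpa using this
    calc e * t = (t * e * t⁻¹) * t := by rw [h2]
      _ = t * e := by group
  obtain ⟨y, hyM, hyo, hy⟩ := exists_eigen I M hIc hI2
    (fun x hx y hy => hEc x hx.1 y hy.1) hMne (by
      intro b hb y hy
      rw [hMmem] at hy ⊢
      refine ⟨hEI b hb y hy.1, ?_⟩
      have hbt : t * b = b * t := hIc t ht b hb
      have hbt' : b⁻¹ * t⁻¹ = t⁻¹ * b⁻¹ := by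
        rw [← mul_inv_rev, ← mul_inv_rev, hbt]
      calc t * (b * y * b⁻¹) * t⁻¹ = (t * b) * y * (b⁻¹ * t⁻¹) := by group
        _ = (b * t) * y * (t⁻¹ * b⁻¹) := by rw [hbt, hbt']
        _ = b * (t * y * t⁻¹) * b⁻¹ := by group
        _ = b * y⁻¹ * b⁻¹ := by rw [hy.2]
        _ = (b * y * b⁻¹)⁻¹ := by group)
  exact ⟨y, ⟨hyM.1, hyo, hy⟩, hyM.2⟩

theorem GoodEl.ne_inv {I E : Subgroup G} (hEodd : Odd (Nat.card E)) {x : G} (hx : GoodEl I E x) :
    x⁻¹ ≠ x := by
  intro h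
  have h2 : x ^ 2 = 1 := by
    rw [sq]; nth_rewrite 1 [← h]; exact inv_mul_cancel x
  have h3 : orderOf x ∣ 2 := orderOf_dvd_of_pow_eq_one h2
  have h4 : orderOf x = 2 := (Nat.prime_dvd_prime_iff_eq hx.2.1 Nat.prime_two).mp h3
  have h5 : orderOf x ∣ Nat.card E := by
    have : orderOf (⟨x, hx.1⟩ : E) = orderOf x := Subgroup.orderOf_mk x hx.1
    rw [← this]; exact orderOf_dvd_natCard _
  rw [h4] at h5
  exact (Nat.not_even_iff_odd.mpr hEodd) (even_iff_two_dvd.mpr h5)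

theorem comm_iff_conj {b x : G} : b * x = x * b ↔ b * x * b⁻¹ = x := by
  constructor
  · intro h; rw [h, mul_inv_cancel_right]
  · intro h
    calc b * x = b * x * b⁻¹ * b := by group
      _ = x * b := by rw [h]

theorem exists_chain (I E : Subgroup G) (hIc : ∀ a ∈ I, ∀ b ∈ I, a * b = b * a)
    (hI2 : ∀ b ∈ I, b * b = 1) (hEc : ∀ x ∈ E, ∀ y ∈ E, x * y = y * x)
    (hEI : ∀ b ∈ I, ∀ y ∈ E, b * y * b⁻¹ ∈ E) (hEodd : Odd (Nat.card E)) :
    ∀ (k : ℕ) (B : Subgroup G), B ≤ I → Nat.card B = 2 ^ k → B ⊓ centralizer (E : Set G) = ⊥ →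
      ∃ x : Fin k → G, (∀ i, GoodEl I E (x i)) ∧ ∀ b ∈ B, (∀ i, b * x i = x i * b) → b = 1 := by
  intro k
  induction k with
  | zero =>
    intro B _ hB _
    refine ⟨fun i => i.elim0, fun i => i.elim0, ?_⟩
    intro b hb _
    rw [pow_zero, card_eq_one] at hB
    rw [hB, mem_bot] at hb
    exact hb
  | succ k ih =>
    intro B hBI hB hBE
    have hBne : B ≠ ⊥ := by
      intro h
      rw [h, card_bot] at hB
      have : 2 ≤ 2 ^ (k + 1) := by
        calc 2 = 2 ^ 1 := (pow_one 2).symm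
          _ ≤ 2 ^ (k + 1) := Nat.pow_le_pow_right (by norm_num) (by omega)
      omega
    obtain ⟨t, htB, ht1⟩ : ∃ t ∈ B, t ≠ 1 := by
      obtain ⟨t, ht⟩ := Subgroup.ne_bot_iff_exists_ne_one.mp hBne
      exact ⟨t.1, t.2, fun h => ht (Subtype.ext h)⟩
    have htE : t ∉ centralizer (E : Set G) := by
      intro h
      have := mem_inf.mpr ⟨htB, h⟩
      rw [hBE, mem_bot] at this
      exact ht1 this
    obtain ⟨x0, hx0, htx⟩ := exists_good_inverted I E hIc hI2 hEc hEI t (hBI htB) htE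
    have hne := hx0.ne_inv hEodd
    set B0 := B ⊓ centralizer ({x0} : Set G) with hB0def
    have hmemB0 : ∀ b ∈ B, (b ∈ B0 ↔ b * x0 * b⁻¹ = x0) := by
      intro b hb
      rw [hB0def, mem_inf, mem_centralizer_singleton_iff, ← comm_iff_conj]
      constructor
      · intro h; exact h.2
      · intro h; exact ⟨hb, h⟩
    have hrel : B0.relIndex B = 2 := by
      rw [relIndex_eq_two_iff]
      refine ⟨t, htB, ?_⟩
      intro b hb
      rw [hmemB0 b hb, hmemB0 (b * t) (B.mul_mem hb htB)]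
      have e1 : b * t * x0 * (b * t)⁻¹ = b * (t * x0 * t⁻¹) * b⁻¹ := by group
      rw [e1, htx]
      have e2 : b * x0⁻¹ * b⁻¹ = (b * x0 * b⁻¹)⁻¹ := by group
      rw [e2]
      rcases hx0.2.2 b (hBI hb) with h | h
      · rw [h]
        right
        exact ⟨rfl, hne⟩
      · rw [h, inv_inv]
        left
        exact ⟨rfl, hne⟩
    have hB0 : Nat.card B0 = 2 ^ k := by
      have h1 := relIndex_mul_relIndex ⊥ B0 B bot_le inf_le_left
      rw [relIndex_bot_left, relIndex_bot_left, hrel, hB, pow_succ] at h1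
      omega
    obtain ⟨x', hx', hx''⟩ := ih B0 (inf_le_left.trans hBI) hB0 (by
      rw [eq_bot_iff, ← hBE]
      exact inf_le_inf_right _ inf_le_left)
    refine ⟨Fin.cons x0 x', ?_, ?_⟩
    · intro i
      refine Fin.cases ?_ ?_ i
      · simpa using hx0
      · intro j; simpa using hx' j
    · intro b hb hcomm
      have h0 : b * x0 = x0 * b := by simpa using hcomm 0
      have hbB0 : b ∈ B0 := (hmemB0 b hb).mpr (comm_iff_conj.mp h0)
      apply hx'' b hbB0
      intro i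
      simpa using hcomm i.succ

theorem exists_dual (I E : Subgroup G)
    (hI2 : ∀ b ∈ I, b * b = 1) (n : ℕ) (hIn : Nat.card I = 2 ^ n)
    (x : Fin n → G) (hx : ∀ i, GoodEl I E (x i))
    (hfaith : ∀ b ∈ I, (∀ i, b * x i = x i * b) → b = 1) :
    ∃ a : Fin n → G, (∀ i, a i ∈ I) ∧ (∀ i, a i * x i * (a i)⁻¹ = (x i)⁻¹) ∧
      ∀ i j, i ≠ j → a i * x j = x j * a i := by
  classical
  let φ : I → (Fin n → Bool) := fun b i => decide ((b : G) * x i = x i * b)
  have hinj : Function.Injective φ := by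
    intro b c hbc
    have h1 : (b : G) * c = 1 := by
      apply hfaith _ (I.mul_mem b.2 c.2)
      intro i
      have hi : decide ((b : G) * x i = x i * b) = decide ((c : G) * x i = x i * c) :=
        congrFun hbc i
      rw [decide_eq_decide] at hi
      by_cases hb : (b : G) * x i = x i * b
      · have hc := hi.mp hb
        calc (b : G) * c * x i = b * (c * x i) := by group
          _ = b * (x i * c) := by rw [hc]
          _ = (b * x i) * c := by group
          _ = (x i * b) * c := by rw [hb]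
          _ = x i * (b * c) := by group
      · have hc : ¬ (c : G) * x i = x i * c := fun h => hb (hi.mpr h)
        have hb' : (b : G) * x i * (b : G)⁻¹ = (x i)⁻¹ := by
          rcases (hx i).2.2 b b.2 with h | h
          · exact absurd (comm_iff_conj.mpr h) hb
          · exact h
        have hc' : (c : G) * x i * (c : G)⁻¹ = (x i)⁻¹ := by
          rcases (hx i).2.2 c c.2 with h | h
          · exact absurd (comm_iff_conj.mpr h) hc
          · exact h
        rw [comm_iff_conj]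
        calc (b : G) * c * x i * ((b : G) * c)⁻¹ = b * (c * x i * (c : G)⁻¹) * (b : G)⁻¹ := by group
          _ = b * (x i)⁻¹ * (b : G)⁻¹ := by rw [hc']
          _ = (b * x i * (b : G)⁻¹)⁻¹ := by group
          _ = x i := by rw [hb', inv_inv]
    have h2 : (c : G) * c = 1 := hI2 c c.2
    apply Subtype.ext
    exact mul_right_cancel (h1.trans h2.symm)
  have hbij : Function.Bijective φ := hinj.bijective_of_nat_card_le (by
    rw [hIn, Nat.card_eq_fintype_card, Fintype.card_fun, Fintype.card_bool, Fintype.card_fin])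
  have hex : ∀ i : Fin n, ∃ b : I, φ b = fun j => decide (j ≠ i) := fun i => hbij.2 _
  choose a ha using hex
  refine ⟨fun i => (a i : G), fun i => (a i).2, ?_, ?_⟩
  · intro i
    have h1 : decide (((a i : I) : G) * x i = x i * (a i : I)) = decide (i ≠ i) :=
      congrFun (ha i) i
    have h2 : ¬ ((a i : I) : G) * x i = x i * (a i : I) := by
      intro h
      rw [decide_eq_decide] at h1
      exact (h1.mp h) rfl
    rcases (hx i).2.2 _ (a i).2 with h | h
    · exact absurd (comm_iff_conj.mpr h) h2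
    · exact h
  · intro i j hij
    have h1 : decide (((a i : I) : G) * x j = x j * (a i : I)) = decide (j ≠ i) :=
      congrFun (ha i) j
    rw [decide_eq_decide] at h1
    exact h1.mpr (Ne.symm hij)

theorem card_iSup_eq_prod' {n : ℕ} (f c : Fin n → Subgroup G)
    (hcomm : ∀ i j, i ≠ j → ∀ u ∈ f i, ∀ v ∈ f j, u * v = v * u)
    (hc : ∀ i j, i ≠ j → f j ≤ c i) (hd : ∀ i, f i ⊓ c i = ⊥) :
    Nat.card ↥(⨆ i, f i) = ∏ i, Nat.card (f i) := by
  classical
  have key : ∀ s : Finset (Fin n), Nat.card ↥(⨆ i ∈ s, f i) = ∏ i ∈ s, Nat.card (f i) := by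
    intro s
    induction s using Finset.induction_on with
    | empty => simp
    | insert i s hi ih =>
      rw [Finset.iSup_insert, Finset.prod_insert hi, ← ih]
      apply Cfsg.Agent.Lib.Helper10.card_sup_eq_mul
      · apply iSup₂_le
        intro j hj
        have hij : i ≠ j := fun h => hi (h ▸ hj)
        intro v hv
        apply mem_normalizer_of_conj_mem'
        intro u hu
        have := hcomm i j hij u hu v hv
        rw [← this, mul_inv_cancel_right]
        exact hu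
      · rw [eq_bot_iff, ← hd i]
        apply inf_le_inf_left
        apply iSup₂_le
        intro j hj
        exact hc i j (fun h => hi (h ▸ hj))
  have := key Finset.univ
  simpa using this

theorem exists_self_centralizing (F I : Subgroup G) [hFn : F.Normal]
    [hFnil : Group.IsNilpotent F] (hIc : ∀ a ∈ I, ∀ b ∈ I, a * b = b * a)
    (hI2 : ∀ b ∈ I, b * b = 1) (hFI : F ⊔ I = ⊤) :
    ∃ E : Subgroup G, E ≤ F ∧ E.Normal ∧ (∀ x ∈ E, ∀ y ∈ E, x * y = y * x) ∧
      F ⊓ centralizer (E : Set G) ≤ E := by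
  classical
  let P : Subgroup G → Prop := fun E => E ≤ F ∧ E.Normal ∧ ∀ x ∈ E, ∀ y ∈ E, x * y = y * x
  obtain ⟨E, hE⟩ := exists_maximal_of_wellFoundedGT P ⟨⊥, bot_le, inferInstance, by
    intro x hx y hy
    rw [mem_bot] at hx hy
    rw [hx, hy]⟩
  obtain ⟨⟨hEF, hEn, hEc⟩, hEmax⟩ := hE
  refine ⟨E, hEF, hEn, hEc, ?_⟩
  by_contra hnot
  haveI := hEn
  set C := F ⊓ centralizer (E : Set G) with hC
  haveI hCn : C.Normal := inferInstance
  let π := QuotientGroup.mk' E
  have hπ : Function.Surjective π := QuotientGroup.mk'_surjective E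
  set Cb := C.map π with hCb
  have hCbne : Cb ≠ ⊥ := by
    intro h
    apply hnot
    intro c hc
    have h1 : π c ∈ Cb := mem_map_of_mem _ hc
    rw [h, mem_bot] at h1
    exact (QuotientGroup.eq_one_iff c).mp h1
  haveI hCbn : Cb.Normal := hCn.map π hπ
  let P2 : Subgroup (G ⧸ E) → Prop := fun K => K ≠ ⊥ ∧ K.Normal ∧ K ≤ Cb
  obtain ⟨Mb, hMb⟩ := exists_minimal_of_wellFoundedLT P2 ⟨Cb, hCbne, hCbn, le_rfl⟩
  obtain ⟨⟨hMne, hMn, hMC⟩, hMmin⟩ := hMb
  haveI := hMn
  have hmin : ∀ K : Subgroup (G ⧸ E), K.Normal → K ≤ Mb → K = ⊥ ∨ K = Mb := by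
    intro K hKn hKM
    by_cases hK : K = ⊥
    · exact Or.inl hK
    · exact Or.inr (le_antisymm hKM (hMmin ⟨hK, hKn, hKM.trans hMC⟩ hKM))
  set Fb := F.map π with hFb
  haveI : Fb.Normal := hFn.map π hπ
  haveI : Group.IsNilpotent Fb :=
    Group.nilpotent_of_surjective (π.subgroupMap F) (π.subgroupMap_surjective F)
  have hFbM : Fb ≤ centralizer (Mb : Set (G ⧸ E)) :=
    Cfsg.Agent.H4.nilpotent_normal_le_centralizer_minimal_normal Mb hmin Fb
  have hMF : Mb ≤ Fb := hMC.trans (map_mono inf_le_left)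
  set Ib := I.map π with hIb
  obtain ⟨yb, hyM, hyo, hy⟩ := exists_eigen Ib Mb
    (by
      rintro _ ⟨a, ha, rfl⟩ _ ⟨b, hb, rfl⟩
      rw [← map_mul, ← map_mul, hIc a ha b hb])
    (by
      rintro _ ⟨b, hb, rfl⟩
      rw [← map_mul, hI2 b hb, map_one])
    (by
      intro x hx y hy
      exact (mem_centralizer_iff.mp (hFbM (hMF hy)) x hx))
    hMne (fun b _ y hy => hMn.conj_mem y hy b)
  set Yb := zpowers yb with hYb
  have hYn : Yb.Normal := by
    rw [← normalizer_eq_top_iff, eq_top_iff]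
    have htop : Fb ⊔ Ib = ⊤ := by
      rw [hFb, hIb, ← Subgroup.map_sup, hFI, map_top_of_surjective π hπ]
    rw [← htop, sup_le_iff]
    constructor
    · intro f hf
      apply mem_normalizer_of_conj_mem'
      intro u hu
      obtain ⟨k, rfl⟩ := mem_zpowers_iff.mp hu
      have h1 : yb * f = f * yb := mem_centralizer_iff.mp (hFbM hf) yb hyM
      have h2 : f * yb * f⁻¹ = yb := by rw [← h1, mul_inv_cancel_right]
      rw [← conj_zpow, h2]
      exact zpow_mem (mem_zpowers yb) k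
    · intro b hb
      apply mem_normalizer_of_conj_mem'
      intro u hu
      obtain ⟨k, rfl⟩ := mem_zpowers_iff.mp hu
      rw [← conj_zpow]
      rcases hy b hb with h | h
      · rw [h]; exact zpow_mem (mem_zpowers yb) k
      · rw [h]; exact zpow_mem (inv_mem (mem_zpowers yb)) k
  obtain ⟨y, hyC, hyπ⟩ := hMC hyM
  have hyE : ∀ e ∈ E, Commute y e := by
    intro e he
    exact (mem_centralizer_iff.mp (mem_inf.mp hyC).2 e he).symm
  have hrep : ∀ g ∈ Yb.comap π, ∃ k : ℤ, ∃ e ∈ E, g = y ^ k * e := by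
    intro g hg
    obtain ⟨k, hk⟩ := mem_zpowers_iff.mp (mem_comap.mp hg)
    refine ⟨k, (y ^ k)⁻¹ * g, ?_, by group⟩
    rw [← QuotientGroup.eq_one_iff]
    change π ((y ^ k)⁻¹ * g) = 1
    rw [map_mul, map_inv, map_zpow, hyπ, hk, inv_mul_cancel]
  have hP' : P (Yb.comap π) := by
    refine ⟨?_, hYn.comap π, ?_⟩
    · intro g hg
      obtain ⟨k, e, he, rfl⟩ := hrep g hg
      exact F.mul_mem (F.zpow_mem (mem_inf.mp hyC).1 k) (hEF he)
    · intro g1 hg1 g2 hg2
      obtain ⟨k, e1, he1, rfl⟩ := hrep g1 hg1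
      obtain ⟨l, e2, he2, rfl⟩ := hrep g2 hg2
      have c1 : Commute (y ^ k) (y ^ l) := (Commute.refl y).zpow_zpow k l
      have c2 : Commute (y ^ k) e2 := (hyE e2 he2).zpow_left k
      have c3 : Commute e1 (y ^ l) := ((hyE e1 he1).zpow_left l).symm
      have c4 : Commute e1 e2 := hEc e1 he1 e2 he2
      exact ((c1.mul_right c2).mul_left (c3.mul_right c4)).eq
  have hle : E ≤ Yb.comap π := by
    intro e he
    rw [mem_comap]
    have : π e = 1 := (QuotientGroup.eq_one_iff e).mpr he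
    rw [this]; exact Yb.one_mem
  have hle2 := hEmax hP' hle
  have hyE' : y ∈ E := hle2 (by rw [mem_comap, hyπ]; exact mem_zpowers yb)
  have : yb = 1 := by rw [← hyπ]; exact (QuotientGroup.eq_one_iff y).mpr hyE'
  rw [this, orderOf_one] at hyo
  exact Nat.not_prime_one hyo

theorem eq_one_of_mul_self_of_odd (Y : Subgroup G) (hodd : Odd (Nat.card Y)) {c : G} (hc : c ∈ Y)
    (h : c * c = 1) : c = 1 := by
  have h2 : c ^ 2 = 1 := by rw [sq, h]
  have h3 : orderOf c ∣ 2 := orderOf_dvd_of_pow_eq_one h2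
  have h5 : orderOf c ∣ Nat.card Y := by
    have : orderOf (⟨c, hc⟩ : Y) = orderOf c := Subgroup.orderOf_mk c hc
    rw [← this]; exact orderOf_dvd_natCard _
  rcases (Nat.dvd_prime Nat.prime_two).mp h3 with h4 | h4
  · exact orderOf_eq_one_iff.mp h4
  · rw [h4] at h5
    exact absurd (even_iff_two_dvd.mpr h5) (Nat.not_even_iff_odd.mpr hodd)

theorem centralizes_of_self_centralizing (Y N : Subgroup G)
    (hNn : ∀ y ∈ Y, ∀ n ∈ N, y * n * y⁻¹ ∈ N) (hC : Y ⊓ centralizer (N : Set G) ≤ N)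
    (hYodd : Odd (Nat.card Y)) (a : G) (ha2 : a * a = 1) (haY : ∀ y ∈ Y, a * y * a⁻¹ ∈ Y)
    (haN : a ∈ centralizer (N : Set G)) : a ∈ centralizer (Y : Set G) := by
  have hainv : a⁻¹ = a := inv_eq_of_mul_eq_one_left ha2
  have haN' : ∀ n ∈ N, a * n * a⁻¹ = n := by
    intro n hn
    have := mem_centralizer_iff.mp haN n hn
    rw [← this, mul_inv_cancel_right]
  rw [mem_centralizer_iff]
  intro l hl
  have hl' : l ∈ Y := hl
  set c := l⁻¹ * (a * l * a⁻¹) with hc
  have hcY : c ∈ Y := Y.mul_mem (Y.inv_mem hl') (haY l hl')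
  have hcN : c ∈ centralizer (N : Set G) := by
    rw [mem_centralizer_iff]
    intro f hf
    have hf' : f ∈ N := hf
    have h1 := haN' _ (hNn l hl' f hf')
    have h2 : a * (l * f * l⁻¹) * a⁻¹ = (a * l * a⁻¹) * (a * f * a⁻¹) * (a * l * a⁻¹)⁻¹ := by group
    rw [h2, haN' f hf'] at h1
    -- (l^a) f (l^a)⁻¹ = l f l⁻¹
    have h3 : (a * l * a⁻¹) * f = l * f * l⁻¹ * (a * l * a⁻¹) := by
      rw [← h1]; group
    calc f * c = l⁻¹ * (l * f * l⁻¹ * (a * l * a⁻¹)) := by rw [hc]; group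
      _ = l⁻¹ * ((a * l * a⁻¹) * f) := by rw [h3]
      _ = c * f := by rw [hc]; group
  have hcN' : c ∈ N := hC (mem_inf.mpr ⟨hcY, hcN⟩)
  have h4 : a * c * a⁻¹ = c := haN' c hcN'
  have h5 : a * l * a⁻¹ = l * c := by rw [hc]; group
  have h6 : l = l * c * c := by
    calc l = a * (a * l * a⁻¹) * a⁻¹ := by
          rw [hainv]
          calc l = (a * a) * l * (a * a) := by rw [ha2]; group
            _ = a * (a * l * a) * a := by group
      _ = a * (l * c) * a⁻¹ := by rw [h5]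
      _ = (a * l * a⁻¹) * (a * c * a⁻¹) := by group
      _ = l * c * c := by rw [h5, h4]
  have h7 : c * c = 1 := by
    have : l * 1 = l * (c * c) := by rw [mul_one]; rw [← mul_assoc]; exact h6
    exact (mul_left_cancel this).symm
  have h8 : c = 1 := eq_one_of_mul_self_of_odd Y hYodd hcY h7
  rw [h8, mul_one] at h5
  calc l * a = (a * l * a⁻¹) * a := by rw [h5]
    _ = a * l := by group

theorem elem_two_core (F I : Subgroup G) [hFn : F.Normal] [Group.IsNilpotent F]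
    (hFodd : Odd (Nat.card F)) (hIc : ∀ a ∈ I, ∀ b ∈ I, a * b = b * a)
    (hI2 : ∀ b ∈ I, b * b = 1) (n : ℕ) (hIn : Nat.card I = 2 ^ n) (hFI : F ⊔ I = ⊤)
    (hfaith : I ⊓ centralizer (F : Set G) = ⊥) :
    ∃ x a : Fin n → G, (∀ i, x i ∈ F) ∧ (∀ i, (orderOf (x i)).Prime) ∧ (∀ i, (x i)⁻¹ ≠ x i) ∧
      (∀ i, a i ∈ I) ∧ (∀ i j, x i * x j = x j * x i) ∧
      (∀ i, a i * x i * (a i)⁻¹ = (x i)⁻¹) ∧ (∀ i j, i ≠ j → a i * x j = x j * a i) ∧
      (∀ b ∈ I, ∀ i, b * x i * b⁻¹ = x i ∨ b * x i * b⁻¹ = (x i)⁻¹) ∧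
      (∀ b ∈ I, (∀ i, b * x i = x i * b) → b = 1) := by
  obtain ⟨E, hEF, hEn, hEc, hEC⟩ := exists_self_centralizing F I hIc hI2 hFI
  have hEodd : Odd (Nat.card E) := Odd.of_dvd_nat hFodd (card_dvd_of_le hEF)
  have hEI : ∀ b ∈ I, ∀ y ∈ E, b * y * b⁻¹ ∈ E := fun b _ y hy => hEn.conj_mem y hy b
  have hIE : I ⊓ centralizer (E : Set G) = ⊥ := by
    rw [eq_bot_iff, ← hfaith]
    intro a ha
    obtain ⟨ha1, ha2⟩ := mem_inf.mp ha
    refine mem_inf.mpr ⟨ha1, ?_⟩
    exact centralizes_of_self_centralizing F E (fun y _ n hn => hEn.conj_mem n hn y) hEC hFodd a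
      (hI2 a ha1) (fun y hy => hFn.conj_mem y hy a) ha2
  obtain ⟨x, hx, hx'⟩ := exists_chain I E hIc hI2 hEc hEI hEodd n I le_rfl hIn hIE
  obtain ⟨a, ha1, ha2, ha3⟩ := exists_dual I E hI2 n hIn x hx hx'
  exact ⟨x, a, fun i => hEF (hx i).1, fun i => (hx i).2.1, fun i => (hx i).ne_inv hEodd, ha1,
    fun i j => hEc _ (hx i).1 _ (hx j).1, ha2, ha3, fun b hb i => (hx i).2.2 b hb, hx'⟩

theorem elem_two_ambient (F I : Subgroup G) (hFnil : Group.IsNilpotent F)
    (hFodd : Odd (Nat.card F)) (hIF : I ≤ normalizer (F : Set G))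
    (hIc : ∀ a ∈ I, ∀ b ∈ I, a * b = b * a)
    (hI2 : ∀ b ∈ I, b * b = 1) (n : ℕ) (hIn : Nat.card I = 2 ^ n)
    (hfaith : I ⊓ centralizer (F : Set G) = ⊥) :
    ∃ x a : Fin n → G, (∀ i, x i ∈ F) ∧ (∀ i, (orderOf (x i)).Prime) ∧ (∀ i, (x i)⁻¹ ≠ x i) ∧
      (∀ i, a i ∈ I) ∧ (∀ i j, x i * x j = x j * x i) ∧
      (∀ i, a i * x i * (a i)⁻¹ = (x i)⁻¹) ∧ (∀ i j, i ≠ j → a i * x j = x j * a i) ∧
      (∀ b ∈ I, ∀ i, b * x i * b⁻¹ = x i ∨ b * x i * b⁻¹ = (x i)⁻¹) ∧
      (∀ b ∈ I, (∀ i, b * x i = x i * b) → b = 1) := by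
  set X := F ⊔ I with hX
  have hFX : F ≤ X := le_sup_left
  have hIX : I ≤ X := le_sup_right
  haveI : (F.subgroupOf X).Normal :=
    (normal_subgroupOf_iff_le_normalizer hFX).mpr (sup_le le_normalizer hIF)
  haveI : Group.IsNilpotent (F.subgroupOf X) :=
    Group.nilpotent_of_mulEquiv (subgroupOfEquivOfLe hFX).symm
  have hcF : Nat.card (F.subgroupOf X) = Nat.card F :=
    Nat.card_congr (subgroupOfEquivOfLe hFX).toEquiv
  have hcI : Nat.card (I.subgroupOf X) = Nat.card I :=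
    Nat.card_congr (subgroupOfEquivOfLe hIX).toEquiv
  obtain ⟨x, a, h1, h2, h3, h4, h5, h6, h7, h8, h9⟩ := elem_two_core (F.subgroupOf X)
    (I.subgroupOf X) (by rw [hcF]; exact hFodd)
    (by
      intro a ha b hb
      apply Subtype.ext
      exact hIc a (mem_subgroupOf.mp ha) b (mem_subgroupOf.mp hb))
    (by
      intro b hb
      apply Subtype.ext
      exact hI2 b (mem_subgroupOf.mp hb))
    n (by rw [hcI, hIn])
    (by rw [← subgroupOf_sup hFX hIX, ← hX, subgroupOf_self])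
    (by
      rw [eq_bot_iff]
      intro b hb
      obtain ⟨hb1, hb2⟩ := mem_inf.mp hb
      have h1 : (b : G) ∈ I ⊓ centralizer (F : Set G) := by
        refine mem_inf.mpr ⟨mem_subgroupOf.mp hb1, ?_⟩
        rw [mem_centralizer_iff]
        intro f hf
        have := mem_centralizer_iff.mp hb2 (⟨f, hFX hf⟩ : X) (mem_subgroupOf.mpr hf)
        exact congrArg Subtype.val this
      rw [hfaith, mem_bot] at h1
      rw [mem_bot]
      exact Subtype.ext h1)
  refine ⟨fun i => (x i : G), fun i => (a i : G), fun i => mem_subgroupOf.mp (h1 i), ?_, ?_,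
    fun i => mem_subgroupOf.mp (h4 i), ?_, ?_, ?_, ?_, ?_⟩
  · intro i; rw [Subgroup.orderOf_coe]; exact h2 i
  · intro i h; exact h3 i (Subtype.ext h)
  · intro i j; exact congrArg Subtype.val (h5 i j)
  · intro i; exact congrArg Subtype.val (h6 i)
  · intro i j hij; exact congrArg Subtype.val (h7 i j hij)
  · intro b hb i
    rcases h8 (⟨b, hIX hb⟩ : X) (mem_subgroupOf.mpr hb) i with h | h
    · exact Or.inl (congrArg Subtype.val h)
    · exact Or.inr (congrArg Subtype.val h)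
  · intro b hb hcomm
    have := h9 (⟨b, hIX hb⟩ : X) (mem_subgroupOf.mpr hb) (fun i => Subtype.ext (hcomm i))
    exact congrArg Subtype.val this

end

end Cfsg.H1
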