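import Mathlib
import Cfsg.Agent.H1.HallPrep

set_option autoImplicit false

namespace Cfsg.H1

open Subgroup
open scoped Pointwise

universe u

theorem hall_reduction {G : Type u} [Group G] [Finite G] [Group.IsSolvable G] [Nontrivial G]
    {m n : ℕ} (hG : Nat.card G = m * n) (hmn : m.Coprime n) :
    ∃ M : Subgroup G, M.Normal ∧ M ≠ ⊥ ∧
     (((Nat.card M).Coprime m ∧ ∃ n', n = Nat.card M * n' ∧ Nat.card (G ⧸ M) = m * n' ∧
        m.Coprime n') ∨
      ((Nat.card M).Coprime n ∧ ∃ m', m = Nat.card M * m' ∧ Nat.card (G ⧸ M) = m' * n ∧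
        m'.Coprime n)) := by
  obtain ⟨p, M, hp, hMn, hMbot, hMp⟩ := exists_normal_pgroup (G := G)
  refine ⟨M, hMn, hMbot, ?_⟩
  have hcard : Nat.card (G ⧸ M) * Nat.card M = m * n := by
    rw [← hG]; exact (card_eq_card_quotient_mul_card_subgroup M).symm
  have hMdvd : Nat.card M ∣ m * n := Dvd.intro_left _ hcard
  rcases pgroup_coprime_or hp hMp hmn with hc | hc
  · left
    obtain ⟨n', hn'⟩ := hc.dvd_of_dvd_mul_left hMdvd
    refine ⟨hc, n', hn', ?_, hmn.coprime_dvd_right ⟨Nat.card M, by rw [hn']; ring⟩⟩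
    apply Nat.eq_of_mul_eq_mul_right (Nat.card_pos (α := M))
    rw [hcard, hn']; ring
  · right
    obtain ⟨m', hm'⟩ := hc.dvd_of_dvd_mul_right hMdvd
    refine ⟨hc, m', hm', ?_, hmn.coprime_dvd_left ⟨Nat.card M, by rw [hm']; ring⟩⟩
    apply Nat.eq_of_mul_eq_mul_right (Nat.card_pos (α := M))
    rw [hcard, hm']; ring

theorem relIndex_comap_mk' {G : Type u} [Group G] [Finite G] (M : Subgroup G) [M.Normal]
    (H : Subgroup (G ⧸ M)) : M ≤ H.comap (QuotientGroup.mk' M) ∧
    M.relIndex (H.comap (QuotientGroup.mk' M)) = Nat.card H := by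
  have hML : M ≤ H.comap (QuotientGroup.mk' M) :=
    (QuotientGroup.ker_mk' M).symm.le.trans (ker_le_comap _ _)
  refine ⟨hML, ?_⟩
  have := (M.subgroupOf (H.comap (QuotientGroup.mk' M))).card_mul_index
  rw [card_subgroupOf_of_le hML, card_comap_mk', mul_comm] at this
  exact Nat.eq_of_mul_eq_mul_right (Nat.card_pos (α := M)) this

theorem hall_exists_aux (N : ℕ) : ∀ (G : Type u) [Group G] [Finite G] [Group.IsSolvable G],
    Nat.card G ≤ N → ∀ (m n : ℕ), Nat.card G = m * n → m.Coprime n →
    ∃ H : Subgroup G, Nat.card H = m := by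
  induction N with
  | zero =>
    intro G _ _ _ h
    exact absurd h (by have := Nat.card_pos (α := G); omega)
  | succ N ih =>
    intro G _ _ _ hN m n hG hmn
    by_cases hG1 : Subsingleton G
    · have h1 : Nat.card G = 1 := Nat.card_eq_one_iff_unique.2 ⟨hG1, ⟨1⟩⟩
      rw [h1] at hG
      exact ⟨⊥, by rw [card_bot]; exact (Nat.eq_one_of_mul_eq_one_right hG.symm).symm⟩
    · have : Nontrivial G := not_subsingleton_iff_nontrivial.1 hG1
      obtain ⟨M, hMn, hMbot, h⟩ := hall_reduction hG hmn
      have hQ : Nat.card (G ⧸ M) ≤ N := by have := card_quotient_lt hMbot; omega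
      rcases h with ⟨hc, n', hn', hQcard, hmn'⟩ | ⟨hc, m', hm', hQcard, hmn'⟩
      · obtain ⟨H', hH'⟩ := ih (G ⧸ M) hQ m n' hQcard hmn'
        obtain ⟨hML, hrel⟩ := relIndex_comap_mk' M H'
        obtain ⟨B, -, hB, -, -⟩ := sz_exists_internal hML le_normalizer_of_normal
          (by rw [hrel, hH']; exact hc)
        exact ⟨B, by rw [hB, hrel, hH']⟩
      · obtain ⟨H', hH'⟩ := ih (G ⧸ M) hQ m' n hQcard hmn'
        exact ⟨H'.comap (QuotientGroup.mk' M), by rw [card_comap_mk', hH', hm']; ring⟩

theorem hall_conj_aux (N : ℕ) : ∀ (G : Type u) [Group G] [Finite G] [Group.IsSolvable G],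
    Nat.card G ≤ N → ∀ (m n : ℕ), Nat.card G = m * n → m.Coprime n →
    ∀ H K : Subgroup G, Nat.card H = m → Nat.card K = m → ∃ g : G, MulAut.conj g • H = K := by
  induction N with
  | zero =>
    intro G _ _ _ h
    exact absurd h (by have := Nat.card_pos (α := G); omega)
  | succ N ih =>
    intro G _ _ _ hN m n hG hmn H K hH hK
    by_cases hG1 : Subsingleton G
    · exact ⟨1, Subsingleton.elim _ _⟩
    · have : Nontrivial G := not_subsingleton_iff_nontrivial.1 hG1
      obtain ⟨M, hMn, hMbot, h⟩ := hall_reduction hG hmn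
      have hQ : Nat.card (G ⧸ M) ≤ N := by have := card_quotient_lt hMbot; omega
      rcases h with ⟨hc, n', hn', hQcard, hmn'⟩ | ⟨hc, m', hm', hQcard, hmn'⟩
      · have dH : Disjoint H M := disjoint_of_coprime_natCard (by rw [hH]; exact hc.symm)
        have dK : Disjoint K M := disjoint_of_coprime_natCard (by rw [hK]; exact hc.symm)
        obtain ⟨q, hq⟩ := ih (G ⧸ M) hQ m n' hQcard hmn' (H.map (QuotientGroup.mk' M))
          (K.map (QuotientGroup.mk' M)) (by rw [card_map_mk'_of_disjoint dH, hH])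
          (by rw [card_map_mk'_of_disjoint dK, hK])
        obtain ⟨g, rfl⟩ := QuotientGroup.mk'_surjective M q
        have h1 := conj_sup_ker_of_map (QuotientGroup.mk' M) g hq
        rw [QuotientGroup.ker_mk'] at h1
        have hB : MulAut.conj g • H ≤ M ⊔ K := by rw [sup_comm, ← h1]; exact le_sup_left
        obtain ⟨k, hk, hkK⟩ := sz_conj_internal (A := K) (K := M) (B := MulAut.conj g • H)
          le_normalizer_of_normal (by rw [hK]; exact hc.symm) (Or.inl inferInstance) hB
          (by rw [card_conj_smul, hH, hK])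
        refine ⟨k⁻¹ * g, ?_⟩
        rw [conj_mul_smul, ← hkK, ← conj_mul_smul, inv_mul_cancel, map_one, one_smul]
      · have hle : ∀ C : Subgroup G, Nat.card C = m → M ≤ C := by
          intro C hC
          have h1 : Nat.card (C ⊔ M : Subgroup G) ∣ m := by
            have h2 := card_sup_dvd C M
            have h3 : (Nat.card (C ⊔ M : Subgroup G)).Coprime n :=
              Nat.Coprime.coprime_dvd_left h2 (Nat.Coprime.mul_left (hC ▸ hmn) hc)
            have h4 : Nat.card (C ⊔ M : Subgroup G) ∣ m * n := hG ▸ card_subgroup_dvd_card _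
            exact h3.dvd_of_dvd_mul_right h4
          have hmpos : 0 < m := hC ▸ Nat.card_pos
          have h5 : C = C ⊔ M :=
            eq_of_le_of_card_ge le_sup_left (by rw [hC]; exact Nat.le_of_dvd hmpos h1)
          rw [h5]; exact le_sup_right
        have cardmap : ∀ C : Subgroup G, Nat.card C = m →
            Nat.card (C.map (QuotientGroup.mk' M)) = m' := by
          intro C hC
          have := card_map_mk'_of_le (hle C hC)
          rw [hC, hm', mul_comm (Nat.card M)] at this
          exact Nat.eq_of_mul_eq_mul_right (Nat.card_pos (α := M)) this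
        obtain ⟨q, hq⟩ := ih (G ⧸ M) hQ m' n hQcard hmn' _ _ (cardmap H hH) (cardmap K hK)
        obtain ⟨g, rfl⟩ := QuotientGroup.mk'_surjective M q
        have h1 := conj_sup_ker_of_map (QuotientGroup.mk' M) g hq
        rw [QuotientGroup.ker_mk'] at h1
        refine ⟨g, ?_⟩
        have h2 : M ≤ MulAut.conj g • H := by
          rw [← Normal.conj_smul_eq_self g M]
          exact pointwise_smul_le_pointwise_smul_iff.2 (hle H hH)
        rwa [sup_eq_left.2 h2, sup_eq_left.2 (hle K hK)] at h1

theorem hall_dom_aux (N : ℕ) : ∀ (G : Type u) [Group G] [Finite G] [Group.IsSolvable G],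
    Nat.card G ≤ N → ∀ (m n : ℕ), Nat.card G = m * n → m.Coprime n →
    ∀ K : Subgroup G, (Nat.card K).Coprime n → ∃ H : Subgroup G, Nat.card H = m ∧ K ≤ H := by
  induction N with
  | zero =>
    intro G _ _ _ h
    exact absurd h (by have := Nat.card_pos (α := G); omega)
  | succ N ih =>
    intro G _ _ _ hN m n hG hmn K hK
    by_cases hG1 : Subsingleton G
    · have h1 : Nat.card G = 1 := Nat.card_eq_one_iff_unique.2 ⟨hG1, ⟨1⟩⟩
      rw [h1] at hG
      exact ⟨⊤, by rw [card_top, h1]; exact (Nat.eq_one_of_mul_eq_one_right hG.symm).symm, le_top⟩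
    · have : Nontrivial G := not_subsingleton_iff_nontrivial.1 hG1
      obtain ⟨M, hMn, hMbot, h⟩ := hall_reduction hG hmn
      have hQ : Nat.card (G ⧸ M) ≤ N := by have := card_quotient_lt hMbot; omega
      rcases h with ⟨hc, n', hn', hQcard, hmn'⟩ | ⟨hc, m', hm', hQcard, hmn'⟩
      · have hKmap : (Nat.card (K.map (QuotientGroup.mk' M))).Coprime n' :=
          Nat.Coprime.coprime_dvd_left (card_map_dvd K _)
            (Nat.Coprime.coprime_dvd_right ⟨Nat.card M, by rw [hn']; ring⟩ hK)
        obtain ⟨H', hH', hKH'⟩ := ih (G ⧸ M) hQ m n' hQcard hmn' _ hKmap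
        have hKL : K ≤ H'.comap (QuotientGroup.mk' M) := map_le_iff_le_comap.1 hKH'
        obtain ⟨hML, hrel⟩ := relIndex_comap_mk' M H'
        obtain ⟨B, hBL, hBcard, hBd, hBsup⟩ := sz_exists_internal hML le_normalizer_of_normal
          (by rw [hrel, hH']; exact hc)
        have hsup : M ⊔ (M ⊔ K) ⊓ B = M ⊔ K := by
          apply le_antisymm (sup_le le_sup_left inf_le_left)
          apply sup_le le_sup_left
          intro x hx
          have hxL : x ∈ M ⊔ B := hBsup ▸ hKL hx
          rw [← SetLike.mem_coe, normal_mul] at hxL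
          obtain ⟨u, hu, b, hb, rfl⟩ := Set.mem_mul.1 hxL
          refine mul_mem_sup hu ⟨?_, hb⟩
          have : b = u⁻¹ * (u * b) := by group
          rw [this]; exact mul_mem_sup (M.inv_mem hu) hx
        have hcMK : (Nat.card K).Coprime (Nat.card M) :=
          Nat.Coprime.coprime_dvd_right ⟨n', hn'⟩ hK
        have dK : Disjoint M K := disjoint_of_coprime_natCard hcMK.symm
        have dK₂ : Disjoint M ((M ⊔ K) ⊓ B) := hBd.mono_right inf_le_right
        have hcardK₂ : Nat.card ((M ⊔ K) ⊓ B : Subgroup G) = Nat.card K := by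
          have e1 := card_sup_of_disjoint (A := (M ⊔ K) ⊓ B) (K := M) le_normalizer_of_normal dK₂
          have e2 := card_sup_of_disjoint (A := K) (K := M) le_normalizer_of_normal dK
          rw [hsup, e2] at e1
          exact (Nat.eq_of_mul_eq_mul_left Nat.card_pos e1).symm
        obtain ⟨u, hu, huK⟩ := sz_conj_internal (A := (M ⊔ K) ⊓ B) (K := M) (B := K)
          le_normalizer_of_normal (by rw [hcardK₂]; exact hcMK) (Or.inl inferInstance)
          (by rw [hsup]; exact le_sup_right) hcardK₂.symm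
        refine ⟨MulAut.conj u • B, by rw [card_conj_smul, hBcard, hrel, hH'], ?_⟩
        rw [← huK]; exact pointwise_smul_le_pointwise_smul_iff.2 inf_le_right
      · obtain ⟨H', hH', hKH'⟩ := ih (G ⧸ M) hQ m' n hQcard hmn' (K.map (QuotientGroup.mk' M))
          (Nat.Coprime.coprime_dvd_left (card_map_dvd K _) hK)
        exact ⟨H'.comap (QuotientGroup.mk' M), by rw [card_comap_mk', hH', hm']; ring,
          map_le_iff_le_comap.1 hKH'⟩


/-- Internal Hall conjugacy. -/
theorem hall_conj_internal {G : Type u} [Group G] [Finite G] {L H K : Subgroup G}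
    (hL : Group.IsSolvable L) (hHL : H ≤ L) (hKL : K ≤ L)
    (hHall : (Nat.card H).Coprime (H.relIndex L)) (hcard : Nat.card K = Nat.card H) :
    ∃ l ∈ L, MulAut.conj l • H = K := by
  have h1 : Nat.card L = Nat.card H * H.relIndex L := by
    have := (H.subgroupOf L).card_mul_index
    rw [card_subgroupOf_of_le hHL] at this
    exact this.symm
  obtain ⟨l, hl⟩ := hall_conj_aux (Nat.card L) L le_rfl _ _ h1 hHall (H.subgroupOf L)
    (K.subgroupOf L) (card_subgroupOf_of_le hHL) ((card_subgroupOf_of_le hKL).trans hcard)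
  exact ⟨l, l.2, conj_of_subgroupOf hHL hKL l hl⟩

/-- S0050 -/
theorem hall_frattini {G : Type u} [Group G] [Finite G] (L : Subgroup G) [L.Normal]
    (hL : Group.IsSolvable L) (H : Subgroup G) (hHL : H ≤ L)
    (hHall : (Nat.card H).Coprime (H.relIndex L)) :
    L ⊔ Subgroup.normalizer (H : Set G) = ⊤ := by
  rw [eq_top_iff]
  intro g _
  have h1 : MulAut.conj g • H ≤ L := by
    rw [← Normal.conj_smul_eq_self g L]
    exact pointwise_smul_le_pointwise_smul_iff.2 hHL
  obtain ⟨l, hl, hlH⟩ := hall_conj_internal hL hHL h1 hHall (card_conj_smul g H)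
  have h2 : l⁻¹ * g ∈ normalizer (H : Set G) := by
    rw [mem_normalizer_iff_map_conj_eq]
    change MulAut.conj (l⁻¹ * g) • H = H
    rw [conj_mul_smul, ← hlH, ← conj_mul_smul, inv_mul_cancel, map_one, one_smul]
  have : g = l * (l⁻¹ * g) := by group
  rw [this]
  exact mul_mem_sup hl h2

end Cfsg.H1
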