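import Mathlib
import Cfsg.Agent.H1.OrderConj
import Cfsg.Agent.H1.Brodkey

namespace Cfsg.H1

open Subgroup
open scoped Pointwise

variable {G : Type*} [Group G]

theorem mem_map_conj_iff' (H : Subgroup G) (g x : G) :
    x ∈ H.map (MulAut.conj g).toMonoidHom ↔ g⁻¹ * x * g ∈ H := by
  constructor
  · rintro ⟨h, hh, rfl⟩
    simpa [MulAut.conj_apply, mul_assoc] using hh
  · intro h
    exact ⟨g⁻¹ * x * g, h, by simp [MulAut.conj_apply, mul_assoc]⟩

theorem even_card_of_involution' {α : Type*} [DecidableEq α] (s : Finset α) (σ : α → α)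
    (hmem : ∀ a ∈ s, σ a ∈ s) (hinv : ∀ a ∈ s, σ (σ a) = a) (hne : ∀ a ∈ s, σ a ≠ a) :
    Even s.card := by
  have h := Finset.sum_involution (s := s) (f := fun _ => (1 : ZMod 2)) (fun a _ => σ a)
    (fun _ _ => by decide) (fun a ha _ => hne a ha) (fun a ha => hmem a ha) (fun a ha => hinv a ha)
  simp at h
  exact (ZMod.natCast_eq_zero_iff_even).1 h

theorem inv_pow_of_inverts {z r : G} (hz : z * z = 1) (hr : z * r * z = r⁻¹) (i : ℕ) :
    z * r ^ i * z = (r ^ i)⁻¹ := by
  have hz' : z⁻¹ = z := inv_eq_of_mul_eq_one_left hz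
  have h := conj_pow (a := z) (b := r) (i := i)
  rw [hz', hr] at h
  rw [← h, inv_pow]

theorem conj_eq_mul_sq {z r : G} (hz : z * z = 1) (hr : z * r * z = r⁻¹) (i : ℕ) :
    (r ^ i)⁻¹ * z * r ^ i = z * r ^ (2 * i) := by
  rw [← inv_pow_of_inverts hz hr i, two_mul, pow_add]
  simp only [mul_assoc]
  rw [← mul_assoc z z, hz, one_mul]

theorem iso_comm_mem {z : G} {H : Subgroup G} (h0 : ∀ g, g⁻¹ * z * g ∈ H ↔ g ∈ H) {c : G}
    (hc : c * z = z * c) : c ∈ H := by
  have hzH : z ∈ H := by simpa using (h0 1).2 H.one_mem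
  apply (h0 c).1
  rw [mul_assoc, ← hc, inv_mul_cancel_left]
  exact hzH

theorem iso_conj_mem {z : G} {H : Subgroup G} (h0 : ∀ g, g⁻¹ * z * g ∈ H ↔ g ∈ H) {a : G}
    (ha : a * z * a⁻¹ ∈ H) : a ∈ H := by
  have := (h0 a⁻¹).1 (by simpa using ha)
  simpa using this

theorem iso_odd_order [Finite G] {z : G} {H : Subgroup G} (hz : z * z = 1)
    (h0 : ∀ g, g⁻¹ * z * g ∈ H ↔ g ∈ H)
    (h1 : ∀ t, IsConj z t → t ≠ z → t * z = z * t → ∀ g, g⁻¹ * (z * t) * g ∈ H ↔ g ∈ H)
    {a : G} (ha : a ∉ H) : Odd (orderOf (z * (a * z * a⁻¹))) := by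
  set d := a * z * a⁻¹ with hd
  have hdd : d * d = 1 := by
    rw [hd]
    calc a * z * a⁻¹ * (a * z * a⁻¹) = a * (z * z) * a⁻¹ := by group
      _ = 1 := by rw [hz]; group
  set r := z * d with hr
  have hrinv : r⁻¹ = d * z := by
    apply inv_eq_of_mul_eq_one_right
    calc z * d * (d * z) = z * (d * d) * z := by group
      _ = 1 := by rw [hdd, mul_one, hz]
  have hzr : z * r * z = r⁻¹ := by
    rw [hrinv, hr, ← mul_assoc, hz, one_mul]
  have hdr : d * r * d = r⁻¹ := by
    rw [hrinv, hr]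
    calc d * (z * d) * d = d * z * (d * d) := by group
      _ = d * z := by rw [hdd, mul_one]
  by_contra hodd
  rw [Nat.not_odd_iff_even] at hodd
  obtain ⟨l, hl⟩ := hodd
  have hpos : 0 < orderOf r := orderOf_pos r
  have hl0 : 0 < l := by omega
  set w := r ^ l with hw
  have hw1 : w ≠ 1 := pow_ne_one_of_lt_orderOf hl0.ne' (by omega)
  have hww : w * w = 1 := by rw [hw, ← pow_add, ← hl, pow_orderOf_eq_one]
  have hwinv : w⁻¹ = w := inv_eq_of_mul_eq_one_left hww
  have hzw : z * w * z = w := by rw [hw, inv_pow_of_inverts hz hzr, ← hw, hwinv]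
  have hdw : d * w * d = w := by rw [hw, inv_pow_of_inverts hdd hdr, ← hw, hwinv]
  have hconj : IsConj z (z * w) := by
    rcases Nat.even_or_odd' l with ⟨i, hi | hi⟩
    · rw [hw, hi, ← conj_eq_mul_sq hz hzr i]
      exact isConj_iff.2 ⟨(r ^ i)⁻¹, by simp⟩
    · have hzr' : z * r = d := by rw [hr, ← mul_assoc, hz, one_mul]
      have h3 : z * r ^ l = (r ^ i)⁻¹ * d * r ^ i := by
        rw [hi, pow_succ, ← mul_assoc, ← conj_eq_mul_sq hz hzr i]
        rw [mul_assoc, ← pow_succ, pow_succ', ← mul_assoc, mul_assoc _ z r, hzr']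
      rw [hw, h3]
      exact isConj_iff.2 ⟨(r ^ i)⁻¹ * a, by simp [hd, mul_assoc]⟩
  have hne : z * w ≠ z := by simpa using hw1
  have hcomm : z * w * z = z * (z * w) := by rw [hzw, ← mul_assoc, hz, one_mul]
  have key := h1 (z * w) hconj hne hcomm a
  rw [show z * (z * w) = w by rw [← mul_assoc, hz, one_mul]] at key
  apply ha
  apply key.1
  apply iso_comm_mem h0
  have hdw' : d * w = w * d := by
    calc d * w = d * w * (d * d) := by rw [hdd, mul_one]
      _ = (d * w * d) * d := by group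
      _ = w * d := by rw [hdw]
  calc a⁻¹ * w * a * z = a⁻¹ * (w * d) * a := by rw [hd]; group
    _ = a⁻¹ * (d * w) * a := by rw [hdw']
    _ = z * (a⁻¹ * w * a) := by rw [hd]; group

theorem eq_of_sq_eq_of_odd {x y : G} (hx : Odd (orderOf x)) (hy : Odd (orderOf y))
    (h : x ^ 2 = y ^ 2) : x = y := by
  have h1 : orderOf (x ^ 2) = orderOf x := Nat.Coprime.orderOf_pow hx.coprime_two_right
  have h2 : orderOf (y ^ 2) = orderOf y := Nat.Coprime.orderOf_pow hy.coprime_two_right
  have hn : orderOf x = orderOf y := by rw [← h1, h, h2]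
  obtain ⟨k, hk⟩ := hx
  have e1 : (x ^ 2) ^ (k + 1) = x := by
    rw [← pow_mul, show 2 * (k + 1) = orderOf x + 1 by omega, pow_succ, pow_orderOf_eq_one, one_mul]
  have e2 : (y ^ 2) ^ (k + 1) = y := by
    rw [← pow_mul, show 2 * (k + 1) = orderOf y + 1 by omega, pow_succ, pow_orderOf_eq_one, one_mul]
  calc x = (x ^ 2) ^ (k + 1) := e1.symm
    _ = (y ^ 2) ^ (k + 1) := by rw [h]
    _ = y := e2

theorem iso_aux_conj (z x d : G) (hd : d⁻¹ = d) :
    x⁻¹ * (d * z * d) * x = (x⁻¹ * d) * z * (x⁻¹ * d)⁻¹ := by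
  have h : (x⁻¹ * d)⁻¹ = d * x := by rw [mul_inv_rev, inv_inv, hd]
  rw [h]; group

theorem iso_odd_class [Finite G] {z : G} {H : Subgroup G} (hz : z * z = 1) (hH : H ≠ ⊤)
    (h0 : ∀ g, g⁻¹ * z * g ∈ H ↔ g ∈ H)
    (h1 : ∀ t, IsConj z t → t ≠ z → t * z = z * t → ∀ g, g⁻¹ * (z * t) * g ∈ H ↔ g ∈ H) :
    Odd (Nat.card {g : G | IsConj z g}) := by
  classical
  haveI := Fintype.ofFinite G
  have hzH : z ∈ H := by simpa using (h0 1).2 H.one_mem
  obtain ⟨a, ha⟩ : ∃ a, a ∉ H := by
    by_contra h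
    push Not at h
    exact hH (eq_top_iff.2 fun x _ => h x)
  set e := a * z * a⁻¹ with he
  have heH : e ∉ H := fun h => ha (iso_conj_mem h0 h)
  have hDD : ∀ d, IsConj z d → d * d = 1 := by
    intro d hd
    obtain ⟨b, rfl⟩ := isConj_iff.1 hd
    calc b * z * b⁻¹ * (b * z * b⁻¹) = b * (z * z) * b⁻¹ := by group
      _ = 1 := by rw [hz]; group
  have hDinv : ∀ d, IsConj z d → d⁻¹ = d := fun d hd => inv_eq_of_mul_eq_one_left (hDD d hd)
  have heD : IsConj z e := isConj_iff.2 ⟨a, rfl⟩
  have hee : e * e = 1 := hDD e heD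
  have heinv : e⁻¹ = e := hDinv e heD
  have hzinv : z⁻¹ = z := inv_eq_of_mul_eq_one_left hz
  have hconjD : ∀ c d, IsConj z d → IsConj z (c * d * c⁻¹) := by
    intro c d hd
    exact hd.trans (isConj_iff.2 ⟨c, rfl⟩)
  set D : Finset G := Finset.univ.filter (fun d => IsConj z d) with hD
  set X : Finset G := D.filter (fun d => d ∉ H) with hX
  set Y0 : Finset G := D.filter (fun d => d ∈ H) with hY0
  set Y1 : Finset G := D.filter (fun d => e⁻¹ * d ∈ H) with hY1
  set Y2 : Finset G := D.filter (fun d => e⁻¹ * d * e ∈ H) with hY2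
  have memD : ∀ d, d ∈ D ↔ IsConj z d := by intro d; simp [hD]
  have memX : ∀ d, d ∈ X ↔ IsConj z d ∧ d ∉ H := by intro d; simp [hX, memD]
  have memY0 : ∀ d, d ∈ Y0 ↔ IsConj z d ∧ d ∈ H := by intro d; simp [hY0, memD]
  have memY1 : ∀ d, d ∈ Y1 ↔ IsConj z d ∧ e⁻¹ * d ∈ H := by intro d; simp [hY1, memD]
  have memY2 : ∀ d, d ∈ Y2 ↔ IsConj z d ∧ e⁻¹ * d * e ∈ H := by intro d; simp [hY2, memD]
  -- X even
  have hXeven : Even X.card := by
    apply even_card_of_involution' X (fun d => z * d * z)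
    · intro d hd
      rw [memX] at hd ⊢
      refine ⟨by simpa [hzinv] using hconjD z d hd.1, fun h => hd.2 ?_⟩
      have := H.mul_mem (H.mul_mem hzH h) hzH
      have e1 : z * (z * d * z) * z = d := by
        calc z * (z * d * z) * z = (z * z) * d * (z * z) := by group
          _ = d := by rw [hz, one_mul, mul_one]
      rwa [e1] at this
    · intro d _
      calc z * (z * d * z) * z = (z * z) * d * (z * z) := by group
        _ = d := by rw [hz, one_mul, mul_one]
    · intro d hd h
      rw [memX] at hd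
      apply hd.2
      apply iso_comm_mem h0
      calc d * z = (z * d * z) * z := by rw [h]
        _ = z * d * (z * z) := by group
        _ = z * d := by rw [hz, mul_one]
  -- Y1 odd
  have heY1 : e ∈ Y1 := by
    rw [memY1]
    exact ⟨heD, by simp [H.one_mem]⟩
  have hY1even : Even (Y1.erase e).card := by
    apply even_card_of_involution' _ (fun d => e * d * e)
    · intro d hd
      rw [Finset.mem_erase, memY1] at hd ⊢
      refine ⟨?_, by simpa [heinv] using hconjD e d hd.2.1, ?_⟩
      · intro h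
        apply hd.1
        calc d = e * (e * d * e) * e := by
              calc d = (e * e) * d * (e * e) := by rw [hee, one_mul, mul_one]
                _ = e * (e * d * e) * e := by group
          _ = e * e * e := by rw [h]
          _ = e := by rw [hee, one_mul]
      · have h2 := H.inv_mem hd.2.2
        rw [mul_inv_rev, inv_inv, hDinv d hd.2.1] at h2
        have e1 : e⁻¹ * (e * d * e) = d * e := by group
        rw [e1]; exact h2
    · intro d _
      calc e * (e * d * e) * e = (e * e) * d * (e * e) := by group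
        _ = d := by rw [hee, one_mul, mul_one]
    · intro d hd h
      rw [Finset.mem_erase, memY1] at hd
      have hed : e * d = d * e := by
        calc e * d = e * d * (e * e) := by rw [hee, mul_one]
          _ = (e * d * e) * e := by group
          _ = d * e := by rw [h]
      have ht : IsConj z (a⁻¹ * d * a) := by simpa using hconjD a⁻¹ d hd.2.1
      have htne : a⁻¹ * d * a ≠ z := by
        intro h3
        apply hd.1
        rw [he, ← h3]; group
      have htc : a⁻¹ * d * a * z = z * (a⁻¹ * d * a) := by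
        calc a⁻¹ * d * a * z = a⁻¹ * (d * e) * a := by rw [he]; group
          _ = a⁻¹ * (e * d) * a := by rw [hed]
          _ = z * (a⁻¹ * d * a) := by rw [he]; group
      have key := (h1 _ ht htne htc a⁻¹).1 (by
        have e1 : a⁻¹⁻¹ * (z * (a⁻¹ * d * a)) * a⁻¹ = e⁻¹ * d := by
          rw [heinv, he]; group
        rw [e1]; exact hd.2.2)
      exact ha (by simpa using key)
  -- mu
  have hXrep : ∀ d, d ∈ X → Odd (orderOf (z * d)) := by
    intro d hd
    rw [memX] at hd
    obtain ⟨b, rfl⟩ := isConj_iff.1 hd.1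
    apply iso_odd_order hz h0 h1
    intro hb
    exact hd.2 (H.mul_mem (H.mul_mem hb hzH) (H.inv_mem hb))
  have hmuX : ∀ d ∈ X, d * z * d ∈ X := by
    intro d hd
    have hd' := (memX d).1 hd
    rw [memX]
    have e1 : d * z * d = d * z * d⁻¹ := by rw [hDinv d hd'.1]
    rw [e1]
    exact ⟨isConj_iff.2 ⟨d, rfl⟩, fun h => hd'.2 (iso_conj_mem h0 h)⟩
  have hmuinj : Set.InjOn (fun d => d * z * d) (X : Set G) := by
    intro d1 hd1 d2 hd2 h
    have h' : d1 * z * d1 = d2 * z * d2 := h
    have h3 : (z * d1) ^ 2 = (z * d2) ^ 2 := by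
      rw [pow_two, pow_two]
      calc z * d1 * (z * d1) = z * (d1 * z * d1) := by group
        _ = z * (d2 * z * d2) := by rw [h']
        _ = z * d2 * (z * d2) := by group
    exact mul_left_cancel (eq_of_sq_eq_of_odd (hXrep d1 hd1) (hXrep d2 hd2) h3)
  have himX : X.image (fun d => d * z * d) = X := by
    apply Finset.eq_of_subset_of_card_le
    · intro y hy
      obtain ⟨d, hd, rfl⟩ := Finset.mem_image.1 hy
      exact hmuX d hd
    · rw [Finset.card_image_of_injOn hmuinj]
  have hY1X : Y1 ⊆ X := by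
    intro d hd
    rw [memY1] at hd
    rw [memX]
    refine ⟨hd.1, fun h => heH ?_⟩
    have := H.mul_mem h (H.inv_mem hd.2)
    simpa using this
  have hY2X : Y2 ⊆ X := by
    intro d hd
    rw [memY2] at hd
    rw [memX]
    refine ⟨hd.1, fun h => heH ?_⟩
    obtain ⟨b, rfl⟩ := isConj_iff.1 hd.1
    have hb : b ∈ H := iso_conj_mem h0 h
    have h3 : (e⁻¹ * b) * z * (e⁻¹ * b)⁻¹ ∈ H := by
      have e1 : (e⁻¹ * b) * z * (e⁻¹ * b)⁻¹ = e⁻¹ * (b * z * b⁻¹) * e := by group
      rw [e1]; exact hd.2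
    have h4 := iso_conj_mem h0 h3
    have := H.mul_mem hb (H.inv_mem h4)
    simpa using this
  have himY : Y1.image (fun d => d * z * d) = Y2 := by
    ext y
    constructor
    · intro hy
      obtain ⟨d, hd, rfl⟩ := Finset.mem_image.1 hy
      have hd' := (memY1 d).1 hd
      rw [memY2]
      refine ⟨((memX _).1 (hmuX d (hY1X hd))).1, ?_⟩
      have e1 : e⁻¹ * (d * z * d) * e = (e⁻¹ * d) * z * (e⁻¹ * d)⁻¹ :=
        iso_aux_conj z e d (hDinv d hd'.1)
      rw [e1]
      exact H.mul_mem (H.mul_mem hd'.2 hzH) (H.inv_mem hd'.2)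
    · intro hy
      have hyX := hY2X hy
      rw [← himX] at hyX
      obtain ⟨d, hd, rfl⟩ := Finset.mem_image.1 hyX
      have hd' := (memX d).1 hd
      refine Finset.mem_image.2 ⟨d, ?_, rfl⟩
      rw [memY1]
      refine ⟨hd'.1, ?_⟩
      have hy' := ((memY2 _).1 hy).2
      have e1 : e⁻¹ * (d * z * d) * e = (e⁻¹ * d) * z * (e⁻¹ * d)⁻¹ :=
        iso_aux_conj z e d (hDinv d hd'.1)
      rw [e1] at hy'
      exact iso_conj_mem h0 hy'
  have hc12 : Y2.card = Y1.card := by
    rw [← himY, Finset.card_image_of_injOn (hmuinj.mono (by exact_mod_cast hY1X))]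
  have himY0 : Y0.image (fun d => e * d * e⁻¹) = Y2 := by
    ext y
    constructor
    · intro hy
      obtain ⟨d, hd, rfl⟩ := Finset.mem_image.1 hy
      have hd' := (memY0 d).1 hd
      rw [memY2]
      refine ⟨hconjD e d hd'.1, ?_⟩
      have e1 : e⁻¹ * (e * d * e⁻¹) * e = d := by group
      rw [e1]; exact hd'.2
    · intro hy
      have hy' := (memY2 y).1 hy
      refine Finset.mem_image.2 ⟨e⁻¹ * y * e, ?_, by group⟩
      rw [memY0]
      exact ⟨by simpa using hconjD e⁻¹ y hy'.1, hy'.2⟩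
  have hc02 : Y2.card = Y0.card := by
    rw [← himY0, Finset.card_image_of_injective]
    intro d1 d2 h
    simpa using h
  have hsplit : D.card = Y0.card + X.card := by
    rw [hY0, hX, Finset.card_filter_add_card_filter_not]
  have hY1c : Y1.card = (Y1.erase e).card + 1 := by
    rw [Finset.card_erase_of_mem heY1]
    have : 0 < Y1.card := Finset.card_pos.2 ⟨e, heY1⟩
    omega
  have hcard : Nat.card {g : G | IsConj z g} = D.card := by
    rw [Nat.card_eq_fintype_card, hD, ← Fintype.card_subtype]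
    rfl
  rw [hcard, hsplit, ← hc02, hc12, hY1c]
  obtain ⟨u, hu⟩ := hXeven
  obtain ⟨v, hv⟩ := hY1even
  exact ⟨u + v, by omega⟩

theorem isPGroup_two_zpowers_of_sq {u : G} (hu : u * u = 1) : IsPGroup 2 (zpowers u) := by
  have h : orderOf u ∣ 2 ^ 1 := orderOf_dvd_of_pow_eq_one (by rw [pow_one, pow_two, hu])
  obtain ⟨k, _, hk⟩ := (Nat.dvd_prime_pow Nat.prime_two).1 h
  exact IsPGroup.of_card (n := k) (by rw [Nat.card_zpowers, hk])

theorem iso_point_equiv [Finite G] (z : G) (hz : orderOf z = 2) (H : Subgroup G) (hH : H ≠ ⊤)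
    (h0 : ∀ g : G, z ∈ H.map (MulAut.conj g).toMonoidHom ↔ g ∈ H) :
    (∀ t : G, IsConj z t → t ≠ z → t * z = z * t →
        ∀ g : G, z * t ∈ H.map (MulAut.conj g).toMonoidHom ↔ g ∈ H) ↔
      ((∃ P : Sylow 2 G, z ∈ (Subgroup.center ↥(P : Subgroup G)).map (P : Subgroup G).subtype) ∧
        ∀ t : G, IsConj z t → t ≠ z → t * z = z * t →
          Subgroup.centralizer ({z * t} : Set G) ≤ H) := by
  simp only [mem_map_conj_iff'] at h0 ⊢
  have hzz : z * z = 1 := by rw [← pow_two, ← hz, pow_orderOf_eq_one]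
  have hzH : z ∈ H := by simpa using (h0 1).2 H.one_mem
  constructor
  · intro h1
    constructor
    · have hodd := iso_odd_class hzz hH h0 h1
      rw [card_isConj_eq_index] at hodd
      set K := centralizer ({z} : Set G) with hK
      let P0 : Sylow 2 K := default
      have hp : IsPGroup 2 ((P0 : Subgroup K).map K.subtype) := P0.2.map _
      have hidx : ¬ 2 ∣ ((P0 : Subgroup K).map K.subtype).index := by
        rw [Subgroup.index_map_subtype]
        intro h
        rcases (Nat.Prime.dvd_mul Nat.prime_two).1 h with h | h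
        · exact P0.not_dvd_index h
        · exact (Nat.not_even_iff_odd.2 hodd) (even_iff_two_dvd.2 h)
      let P : Sylow 2 G := hp.toSylow hidx
      have hPK : (P : Subgroup G) ≤ K := by
        intro x hx
        obtain ⟨y, _, rfl⟩ := hx
        exact y.2
      have hcomm : ∀ x ∈ (P : Subgroup G), x * z = z * x :=
        fun x hx => mem_centralizer_singleton_iff.1 (hPK hx)
      have hzP : z ∈ (P : Subgroup G) := by
        have hzp : IsPGroup 2 (zpowers z) := isPGroup_two_zpowers_of_sq hzz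
        have hsup : IsPGroup 2 ((P : Subgroup G) ⊔ zpowers z : Subgroup G) := by
          apply P.2.to_sup_of_normal_right' hzp
          intro x hx
          rw [mem_normalizer_iff]
          intro y
          have hxy : ∀ y ∈ zpowers z, x * y * x⁻¹ = y := by
            intro y hy
            obtain ⟨k, rfl⟩ := hy
            have : Commute x z := hcomm x hx
            rw [(this.zpow_right k).eq, mul_inv_cancel_right]
          constructor
          · intro hy
            rw [hxy y hy]; exact hy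
          · intro hy
            have h2 := hxy _ hy
            have h3 : x * y * x⁻¹ = y := by
              have : x * (x * y * x⁻¹) * x⁻¹ = x * y * x⁻¹ := h2
              have h4 := mul_left_cancel (mul_right_cancel this)
              exact h4
            rw [← h3]; exact hy
        have := P.is_maximal' hsup le_sup_left
        rw [← this]
        exact (le_sup_right : zpowers z ≤ _) (mem_zpowers z)
      refine ⟨P, ⟨⟨z, hzP⟩, ?_, rfl⟩⟩
      rw [SetLike.mem_coe, mem_center_iff]
      intro x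
      ext
      exact hcomm x x.2
    · intro t ht htne htc c hc
      rw [mem_centralizer_singleton_iff] at hc
      have hztH : z * t ∈ H := by simpa using (h1 t ht htne htc 1).2 H.one_mem
      apply (h1 t ht htne htc c).1
      rw [mul_assoc, ← hc, inv_mul_cancel_left]
      exact hztH
  · rintro ⟨⟨P, hP⟩, hC⟩ t ht htne htc g
    obtain ⟨⟨z', hz'P⟩, hzc, hz'⟩ := hP
    have hz'z : z' = z := hz'
    subst hz'z
    have hcomm : ∀ x ∈ (P : Subgroup G), x * z' = z' * x := by
      intro x hx
      rw [SetLike.mem_coe, mem_center_iff] at hzc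
      have := hzc ⟨x, hx⟩
      exact congrArg Subtype.val this
    have hPH : (P : Subgroup G) ≤ H := fun x hx => iso_comm_mem h0 (hcomm x hx)
    have htH : t ∈ H := iso_comm_mem h0 htc
    constructor
    · intro hu
      have htt : t * t = 1 := by
        obtain ⟨b, rfl⟩ := isConj_iff.1 ht
        calc b * z' * b⁻¹ * (b * z' * b⁻¹) = b * (z' * z') * b⁻¹ := by group
          _ = 1 := by rw [hzz]; group
      have hzt2 : z' * t * (z' * t) = 1 := by
        calc z' * t * (z' * t) = z' * (t * z') * t := by group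
          _ = z' * (z' * t) * t := by rw [htc]
          _ = (z' * z') * (t * t) := by group
          _ = 1 := by rw [hzz, htt, one_mul]
      have hu2 : (g⁻¹ * (z' * t) * g) * (g⁻¹ * (z' * t) * g) = 1 := by
        calc (g⁻¹ * (z' * t) * g) * (g⁻¹ * (z' * t) * g) = g⁻¹ * (z' * t * (z' * t)) * g := by group
          _ = 1 := by rw [hzt2]; group
      have hup := isPGroup_two_zpowers_of_sq hu2
      obtain ⟨n, hn, hle⟩ := exists_conj_le_sylow_of_le P hPH ((zpowers_le).2 hu) hup
      have hmem : n * (g⁻¹ * (z' * t) * g) * n⁻¹ ∈ (P : Subgroup G) := by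
        apply hle
        rw [mem_conj_smul_iff]
        have e1 : n⁻¹ * (n * (g⁻¹ * (z' * t) * g) * n⁻¹) * n = g⁻¹ * (z' * t) * g := by group
        rw [e1]
        exact mem_zpowers _
      have hc := hcomm _ hmem
      have h4 : g * n⁻¹ * z' * (g * n⁻¹)⁻¹ ∈ centralizer ({z' * t} : Set G) := by
        rw [mem_centralizer_singleton_iff]
        calc g * n⁻¹ * z' * (g * n⁻¹)⁻¹ * (z' * t)
            = g * n⁻¹ * (z' * (n * (g⁻¹ * (z' * t) * g) * n⁻¹)) * (g * n⁻¹)⁻¹ := by group
          _ = g * n⁻¹ * ((n * (g⁻¹ * (z' * t) * g) * n⁻¹) * z') * (g * n⁻¹)⁻¹ := by rw [hc]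
          _ = z' * t * (g * n⁻¹ * z' * (g * n⁻¹)⁻¹) := by group
      have h5 := iso_conj_mem h0 (hC t ht htne htc h4)
      have := H.mul_mem h5 hn
      simpa using this
    · intro hg
      exact H.mul_mem (H.mul_mem (H.inv_mem hg) (H.mul_mem hzH htH)) hg

end Cfsg.H1
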