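import Mathlib
import Cfsg.Agent.H1.Ito5
import Cfsg.Agent.S4365

set_option autoImplicit false

namespace Cfsg.H1

open Subgroup

theorem ito_structure {G : Type*} [Group G] [Finite G] (n : ℕ) (hn : 1 < n)
    (h : ∀ x : G, (Subgroup.centralizer ({x} : Set G)).index = 1 ∨
      (Subgroup.centralizer ({x} : Set G)).index = n)
    (hex : ∃ x : G, (Subgroup.centralizer ({x} : Set G)).index = n) :
    ∃ (p : ℕ) (_ : Fact p.Prime) (a : ℕ), n = p ^ a ∧ ∀ P : Sylow p G, (P : Subgroup G).Normal ∧
      (∃ N : Subgroup G, N.Normal ∧ N.IsComplement' (P : Subgroup G) ∧ IsMulCommutative N ∧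
        ∀ x ∈ N, ∀ y ∈ (P : Subgroup G), x * y = y * x) ∧
      ∃ A : Subgroup (P : Subgroup G), A.Normal ∧ IsMulCommutative A ∧
        ∀ y : (P : Subgroup G), y ^ p ∈ A := by
  have hT : TwoCS G n := ⟨hn, h⟩
  obtain ⟨x₀, hx₀⟩ := hex
  have hx₀Z : x₀ ∉ center G := by
    intro hx
    have := cz_index_one_iff.2 hx
    have h2 : (cz x₀).index = n := hx₀
    omega
  obtain ⟨p, hp, hstar⟩ := hT.exists_prime hx₀Z
  haveI hpF : Fact p.Prime := ⟨hp⟩
  have hPQ : IsPGroup p (G ⧸ center G) := by
    intro gbar
    obtain ⟨g, rfl⟩ := QuotientGroup.mk_surjective gbar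
    obtain ⟨a, b, ⟨i, hi⟩, hb, hg⟩ := exists_split g hp
    refine ⟨i, ?_⟩
    rw [← QuotientGroup.mk_pow, QuotientGroup.eq_one_iff]
    have : g ^ (p ^ i) = (g ^ b) ^ (p ^ i) := by
      conv_lhs => rw [hg]
      rw [((Commute.refl g).pow_pow a b).mul_pow, ← hi, pow_orderOf_eq_one, one_mul]
    rw [this]
    exact pow_mem (hstar _ hb) _
  obtain ⟨k, hk⟩ := IsPGroup.iff_card.1 hPQ
  have hZi : (center G).index = p ^ k := hk
  obtain ⟨a, ha⟩ : ∃ a, n = p ^ a := by
    have : n ∣ p ^ k := by
      rw [← hZi, ← hx₀]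
      exact index_dvd_of_le (center_le_cz x₀)
    obtain ⟨a, -, ha⟩ := (Nat.dvd_prime_pow hp).1 this
    exact ⟨a, ha⟩
  refine ⟨p, hpF, a, ha, fun P => ?_⟩
  have hsup : (P : Subgroup G) ⊔ center G = ⊤ := by
    rw [← index_eq_one]
    have h1 : ((P : Subgroup G) ⊔ center G).index ∣ p ^ k := hZi ▸ index_dvd_of_le le_sup_right
    obtain ⟨l, -, hl⟩ := (Nat.dvd_prime_pow hp).1 h1
    have h2 : ¬ p ∣ ((P : Subgroup G) ⊔ center G).index :=
      fun hd => P.not_dvd_index (hd.trans (index_dvd_of_le le_sup_left))
    rw [hl] at h2 ⊢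
    cases l with
    | zero => rfl
    | succ l => exact absurd (dvd_pow_self p (Nat.succ_ne_zero l)) h2
  have hconjZ : ∀ z ∈ center G, ∀ g : G, z * g * z⁻¹ = g := by
    intro z hz g
    rw [← mem_center_iff.1 hz g]; group
  have hPn : (P : Subgroup G).Normal := by
    rw [← normalizer_eq_top_iff, eq_top_iff, ← hsup]
    refine sup_le le_normalizer ?_
    intro z hz
    rw [Subgroup.mem_normalizer_iff]
    intro g
    rw [hconjZ z hz g]
  haveI := hPn
  refine ⟨hPn, ?_, ?_⟩
  · obtain ⟨N, hN⟩ := exists_right_complement'_of_coprime (N := (P : Subgroup G))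
      P.card_coprime_index
    have hNZ : N ≤ center G := by
      intro g hg
      apply hstar
      have h1 : orderOf g ∣ (P : Subgroup G).index := by
        rw [hN.symm.index_eq_card]; exact Subgroup.orderOf_dvd_natCard N hg
      exact Nat.Coprime.coprime_dvd_left h1
        ((Nat.Prime.coprime_iff_not_dvd hp).2 P.not_dvd_index).symm
    refine ⟨N, ?_, hN.symm, ?_, ?_⟩
    · constructor
      intro g hg x
      have : x * g * x⁻¹ = g := by
        rw [mem_center_iff.1 (hNZ hg) x]; group
      rw [this]; exact hg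
    · exact ⟨⟨fun a b => Subtype.ext (mem_center_iff.1 (hNZ b.2) a)⟩⟩
    · intro x hx y _
      exact (mem_center_iff.1 (hNZ hx) y).symm
  · have idx : ∀ y : (P : Subgroup G),
        (centralizer ({y} : Set (P : Subgroup G))).index = (cz (y : G)).index := by
      intro y
      have e1 : centralizer ({y} : Set (P : Subgroup G)) = (cz (y : G)).subgroupOf P := by
        ext g
        rw [mem_centralizer_singleton_iff, mem_subgroupOf, mem_cz, Subtype.ext_iff]
        rfl
      rw [e1]
      obtain ⟨K, hK⟩ : ∃ K, K = cz (y : G) := ⟨_, rfl⟩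
      rw [← hK]
      have hKP : K ⊔ (P : Subgroup G) = ⊤ :=
        eq_top_iff.2 (hsup ▸ sup_le le_sup_right ((hK ▸ center_le_cz _).trans le_sup_left))
      have r1 : ((P : Subgroup G).subgroupOf K).index = (P : Subgroup G).index := by
        have := relIndex_sup_right K (P : Subgroup G)
        rw [hKP, relIndex_top_right] at this
        exact this.symm
      have c1 := ((P : Subgroup G).subgroupOf K).card_mul_index
      have c2 := (K.subgroupOf (P : Subgroup G)).card_mul_index
      have c3 : Nat.card ((P : Subgroup G).subgroupOf K) = Nat.card (K.subgroupOf (P : Subgroup G)) := by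
        rw [← inf_subgroupOf_right, card_subgroupOf_of_le inf_le_right,
          ← inf_subgroupOf_right K, card_subgroupOf_of_le inf_le_right, inf_comm]
      have c4 := (P : Subgroup G).card_mul_index
      have c5 := K.card_mul_index
      rw [r1] at c1
      rw [← c3] at c2
      have hpos : 0 < Nat.card ((P : Subgroup G).subgroupOf K) * (P : Subgroup G).index :=
        Nat.mul_pos Nat.card_pos (Nat.pos_of_ne_zero index_ne_zero_of_finite)
      apply Nat.eq_of_mul_eq_mul_left hpos
      calc Nat.card ((P : Subgroup G).subgroupOf K) * (P : Subgroup G).index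
            * (K.subgroupOf (P : Subgroup G)).index
          = (Nat.card ((P : Subgroup G).subgroupOf K) * (K.subgroupOf (P : Subgroup G)).index)
            * (P : Subgroup G).index := by ring
        _ = Nat.card G := by rw [c2, c4]
        _ = Nat.card ((P : Subgroup G).subgroupOf K) * (P : Subgroup G).index * K.index := by
            rw [c1, c5]
    refine ⟨center (P : Subgroup G), inferInstance, inferInstance, fun y => ?_⟩
    apply Cfsg.Agent.S4365.result p P.2 a ?_ ?_ y
    · by_contra h0
      have h1 : a = 0 := by omega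
      rw [h1, pow_zero] at ha
      omega
    · ext m
      simp only [Set.mem_ofPred_eq, Set.mem_insert_iff, Set.mem_singleton_iff]
      constructor
      · rintro ⟨y, rfl⟩
        rw [idx, ← ha]
        exact h (y : G)
      · rintro (rfl | rfl)
        · exact ⟨1, by rw [idx]; exact cz_index_one_iff.2 (one_mem _)⟩
        · have : ∃ y ∈ (P : Subgroup G), y ∉ center G := by
            by_contra hcon
            push Not at hcon
            have hle : (P : Subgroup G) ≤ center G := hcon
            have h1 : center G = ⊤ := by rw [← hsup]; exact (sup_eq_right.2 hle).symm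
            exact hx₀Z (h1 ▸ mem_top x₀)
          obtain ⟨y, hyP, hyZ⟩ := this
          exact ⟨⟨y, hyP⟩, by rw [idx, ← ha]; exact hT.index_eq hyZ⟩

end Cfsg.H1
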