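import Mathlib

set_option autoImplicit false

/-! Preparations for Kegel's theorem on splitting automorphisms of prime order. -/

namespace Cfsg.H1

open Subgroup
open scoped Pointwise IsMulCommutative

theorem eq_of_pow_eq_of_coprime {Γ : Type*} [Group Γ] {a b : Γ} {i p : ℕ} (hip : i.Coprime p)
    (ha : a ^ p = 1) (hb : b ^ p = 1) (hab : a ^ i = b ^ i) : a = b := by
  have h1 : ((1 : ℕ) : ℤ) = i * Nat.gcdA i p + p * Nat.gcdB i p := by
    rw [← Nat.gcd_eq_gcd_ab, hip]
  have key : ∀ c : Γ, c ^ p = 1 → c = (c ^ i) ^ (Nat.gcdA i p) := by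
    intro c hc
    have h2 : c = c ^ (((1 : ℕ) : ℤ)) := by simp
    rw [h1, zpow_add, zpow_mul, zpow_mul, zpow_natCast, zpow_natCast, hc, one_zpow, mul_one] at h2
    exact h2
  rw [key a ha, key b hb, hab]

section trace

variable {Γ V : Type*} [Group Γ] [CommGroup V] [MulDistribMulAction Γ V]

theorem inv_pow_mul_mul_pow_mem (K : Subgroup Γ) (y : Γ) (hy : y ∈ normalizer (K : Set Γ))
    (k : Γ) (hk : k ∈ K) (i : ℕ) : (y ^ i)⁻¹ * (y * k) ^ i ∈ K := by
  induction i with
  | zero => simp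
  | succ n ih =>
    have h1 : (y ^ (n + 1))⁻¹ * (y * k) ^ (n + 1) = y⁻¹ * ((y ^ n)⁻¹ * (y * k) ^ n) * y⁻¹⁻¹ * k := by
      rw [pow_succ, pow_succ]
      group
    rw [h1]
    exact K.mul_mem ((mem_normalizer_iff.1 (inv_mem hy) _).1 ih) hk

theorem trace_trivial [Finite V] (K : Subgroup Γ) [Finite K] (y : Γ)
    (hy : y ∈ normalizer (K : Set Γ)) (p : ℕ) (hp : p.Prime)
    (h1 : ∀ k ∈ K, (y * k) ^ p = 1)
    (h2 : ∀ k ∈ K, ∀ v : V, ∏ i ∈ Finset.range p, (y * k) ^ i • v = 1)
    (hcop : (Nat.card K).Coprime (Nat.card V)) :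
    ∀ k ∈ K, ∀ v : V, k • v = v := by
  classical
  haveI : Fintype K := Fintype.ofFinite K
  set σ : V → V := fun v => ∏ k : K, (k : Γ) • v with hσ
  have hA : ∀ i : ℕ, i.Coprime p → ∀ v : V, ∏ k : K, (y * (k : Γ)) ^ i • v = y ^ i • σ v := by
    intro i hi v
    let τ : K → K := fun k => ⟨(y ^ i)⁻¹ * (y * (k : Γ)) ^ i, inv_pow_mul_mul_pow_mem K y hy k k.2 i⟩
    have hτ : Function.Injective τ := by
      intro k k' hkk
      have h3 : (y ^ i)⁻¹ * (y * (k : Γ)) ^ i = (y ^ i)⁻¹ * (y * (k' : Γ)) ^ i :=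
        congrArg Subtype.val hkk
      have h4 := eq_of_pow_eq_of_coprime hi (h1 k k.2) (h1 k' k'.2) (mul_left_cancel h3)
      exact Subtype.ext (mul_left_cancel h4)
    have hτb : Function.Bijective τ := Finite.injective_iff_bijective.1 hτ
    have h5 : ∀ k : K, (y * (k : Γ)) ^ i • v = y ^ i • (((τ k : K) : Γ) • v) := by
      intro k
      rw [← mul_smul]
      congr 1
      change _ = y ^ i * ((y ^ i)⁻¹ * (y * (k : Γ)) ^ i)
      group
    rw [Finset.prod_congr rfl (fun k _ => h5 k), ← Finset.smul_prod']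
    congr 1
    exact hτb.prod_comp (fun k : K => (k : Γ) • v)
  have hB : ∀ v : V, σ v = 1 → v = 1 := by
    intro v hv
    have h3 : ∏ k : K, ∏ i ∈ Finset.range p, (y * (k : Γ)) ^ i • v = 1 :=
      Finset.prod_eq_one (fun k _ => h2 k k.2 v)
    rw [Finset.prod_comm] at h3
    obtain ⟨p', rfl⟩ : ∃ p', p = p' + 1 := ⟨p - 1, (Nat.succ_pred_eq_of_pos hp.pos).symm⟩
    rw [Finset.prod_range_succ'] at h3
    have h4 : ∏ i ∈ Finset.range p', ∏ k : K, (y * (k : Γ)) ^ (i + 1) • v = 1 := by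
      apply Finset.prod_eq_one
      intro i hi
      have hi' : (i + 1).Coprime (p' + 1) := by
        apply Nat.Coprime.symm
        rw [Nat.Prime.coprime_iff_not_dvd hp]
        intro hd
        have := Nat.le_of_dvd (Nat.succ_pos i) hd
        have := Finset.mem_range.1 hi
        omega
      rw [hA _ hi' v, hv, smul_one]
    rw [h4, one_mul] at h3
    simp only [pow_zero, one_smul, Finset.prod_const, Finset.card_univ] at h3
    rw [← Nat.card_eq_fintype_card] at h3
    have h5 : orderOf v ∣ Nat.card K := orderOf_dvd_of_pow_eq_one h3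
    have h6 : orderOf v ∣ Nat.card V := orderOf_dvd_natCard v
    have h7 : orderOf v = 1 := Nat.eq_one_of_dvd_coprimes hcop h5 h6
    exact orderOf_eq_one_iff.1 h7
  intro k hk v
  have h3 : σ (k • v) = σ v := by
    simp only [hσ, ← mul_smul]
    exact Fintype.prod_equiv (Equiv.mulRight (⟨k, hk⟩ : K)) _ _ (fun c => rfl)
  have h4 : σ (k • v * v⁻¹) = 1 := by
    have : σ (k • v * v⁻¹) = σ (k • v) * (σ v)⁻¹ := by
      simp only [hσ, smul_mul', smul_inv', Finset.prod_mul_distrib, Finset.prod_inv_distrib]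
    rw [this, h3, mul_inv_cancel]
  exact mul_inv_eq_one.1 (hB _ h4)

end trace

/-- `(v g)^n = (∏_{i<n} g^i v g^{-i}) g^n` for `v` in an abelian normal subgroup. -/
theorem mul_pow_eq_prod_conj {G : Type*} [Group G] (Z : Subgroup G) [Z.Normal] [IsMulCommutative Z]
    (g : G) (v : Z) (n : ℕ) :
    ((v : G) * g) ^ n =
      ((∏ i ∈ Finset.range n, (MulAut.conjNormal (g ^ i) v : Z) : Z) : G) * g ^ n := by
  induction n with
  | zero => simp
  | succ n ih =>
    rw [pow_succ, ih, Finset.prod_range_succ, Subgroup.coe_mul, MulAut.conjNormal_apply, pow_succ]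
    group

theorem commute_of_coprime_of_nilpotent (G : Type*) [Group G] [hn : Group.IsNilpotent G] :
    ∀ x y : G, (orderOf x).Coprime (orderOf y) → Commute x y := by
  apply @Group.nilpotent_center_quotient_ind _ G _ _ <;> clear! G
  · intro G _ _ x y _; exact Subsingleton.elim _ _
  · intro G _ _ ih x y hxy
    have h1 : (orderOf (QuotientGroup.mk x : G ⧸ center G)).Coprime
        (orderOf (QuotientGroup.mk y : G ⧸ center G)) :=
      Nat.Coprime.coprime_dvd_left (orderOf_map_dvd (QuotientGroup.mk' (center G)) x)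
        (Nat.Coprime.coprime_dvd_right (orderOf_map_dvd (QuotientGroup.mk' (center G)) y) hxy)
    have h2 := ih _ _ h1
    have h3 : x * y * x⁻¹ * y⁻¹ ∈ center G := by
      rw [← QuotientGroup.eq_one_iff]
      have h4 : (QuotientGroup.mk x : G ⧸ center G) * QuotientGroup.mk y =
          QuotientGroup.mk y * QuotientGroup.mk x := h2
      rw [QuotientGroup.mk_mul, QuotientGroup.mk_mul, QuotientGroup.mk_mul, QuotientGroup.mk_inv,
        QuotientGroup.mk_inv, h4]
      group
    set z := x * y * x⁻¹ * y⁻¹ with hz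
    have hzc : ∀ g : G, Commute z g := fun g => (mem_center_iff.1 h3 g).symm
    -- x y x⁻¹ = z y, y x⁻¹ y⁻¹ = x⁻¹ z
    have h5 : ∀ n : ℕ, x * y ^ n * x⁻¹ = z ^ n * y ^ n := by
      intro n
      have : x * y * x⁻¹ = z * y := by rw [hz]; group
      rw [← (hzc y).mul_pow, ← this, conj_pow]
    have h6 : ∀ n : ℕ, y * (x⁻¹) ^ n * y⁻¹ = z ^ n * (x⁻¹) ^ n := by
      intro n
      have : y * x⁻¹ * y⁻¹ = z * x⁻¹ := by
        have h7 : z * x⁻¹ = x⁻¹ * z := (hzc x⁻¹)
        rw [h7, hz]; group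
      rw [← (hzc x⁻¹).mul_pow, ← this, conj_pow]
    have h7 : z ^ orderOf y = 1 := by
      have := h5 (orderOf y)
      rw [pow_orderOf_eq_one] at this
      simpa using this.symm
    have h8 : z ^ orderOf x = 1 := by
      have := h6 (orderOf x)
      rw [inv_pow, pow_orderOf_eq_one] at this
      simpa using this.symm
    have h9 : orderOf z = 1 :=
      Nat.eq_one_of_dvd_coprimes hxy (orderOf_dvd_of_pow_eq_one h8) (orderOf_dvd_of_pow_eq_one h7)
    have h10 : z = 1 := orderOf_eq_one_iff.1 h9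
    rw [hz] at h10
    have : x * y = y * x := by
      calc x * y = (x * y * x⁻¹ * y⁻¹) * (y * x) := by group
        _ = y * x := by rw [h10, one_mul]
    exact this

theorem isNilpotent_of_commuting {G : Type*} [Group G] (H A B : Subgroup G)
    (hA : Group.IsNilpotent A) (hB : Group.IsNilpotent B) (hAH : A ≤ H) (hBH : B ≤ H)
    (hcomm : ∀ a ∈ A, ∀ b ∈ B, a * b = b * a) (hgen : ∀ h ∈ H, ∃ a ∈ A, ∃ b ∈ B, h = a * b) :
    Group.IsNilpotent H := by
  let f : A × B →* H := MonoidHom.noncommCoprod (inclusion hAH) (inclusion hBH)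
    (fun a b => Subtype.ext (hcomm a a.2 b b.2))
  have hf : Function.Surjective f := by
    rintro ⟨h, hh⟩
    obtain ⟨a, ha, b, hb, rfl⟩ := hgen h hh
    exact ⟨(⟨a, ha⟩, ⟨b, hb⟩), Subtype.ext rfl⟩
  exact Group.nilpotent_of_surjective f hf

end Cfsg.H1
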