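import Mathlib
import Cfsg.Agent.H1.MaxClass
import Cfsg.Agent.H1.Meta6

set_option autoImplicit false

universe u

namespace Cfsg.H1

open Subgroup
open scoped commutatorElement

theorem isMulCommutative_of_card_pow_le_two {D : Type*} [Group D] [Finite D] {p : ℕ}
    [hp : Fact p.Prime] {k : ℕ} (hk : k ≤ 2) (hD : Nat.card D = p ^ k) : IsMulCommutative D := by
  interval_cases k
  · rw [pow_zero, Nat.card_eq_one_iff_unique] at hD
    haveI := hD.1
    exact ⟨⟨fun a b => Subsingleton.elim _ _⟩⟩
  · rw [pow_one] at hD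
    haveI := isCyclic_of_prime_card hD
    exact IsCyclic.isMulCommutative
  · exact IsPGroup.isMulCommutative_of_card_eq_prime_sq hD

theorem card_lt_card_of_lt {X : Type*} [Group X] [Finite X] {H K : Subgroup X} (h : H < K) :
    Nat.card H < Nat.card K := by
  by_contra hcon
  push Not at hcon
  exact h.ne (eq_of_le_of_card_ge h.le hcon)

/-- a `p`-group with a self-centralizing nonabelian subgroup of order `p^3` has maximal class -/
theorem maximal_class_of_nonabelian_cube {X : Type u} [Group X] [Finite X] {p : ℕ}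
    [hp : Fact p.Prime] (n : ℕ) (hX : Nat.card X = p ^ n) (B : Subgroup X)
    (hB : Nat.card B = p ^ 3) (hBna : ¬ IsMulCommutative B)
    (hC : centralizer (B : Set X) ≤ B) : Group.nilpotencyClass X = n - 1 := by
  have hPX : IsPGroup p X := IsPGroup.of_card hX
  have hn3 : 3 ≤ n := by
    have := card_subgroup_dvd_card B
    rw [hB, hX] at this
    exact (Nat.pow_dvd_pow_iff_le_right hp.out.one_lt).1 this
  obtain ⟨b₁, hb₁, b₂, hb₂, hne⟩ : ∃ b₁ ∈ B, ∃ b₂ ∈ B, b₁ * b₂ ≠ b₂ * b₁ := by
    by_contra hcon
    push Not at hcon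
    exact hBna ⟨⟨fun a b => Subtype.ext (hcon a a.2 b b.2)⟩⟩
  -- B is generated by b₁, b₂
  have hgen : closure {b₁, b₂} = B := by
    have hle : closure {b₁, b₂} ≤ B := by
      rw [closure_le]
      rintro x (rfl | rfl)
      · exact hb₁
      · exact hb₂
    apply eq_of_le_of_card_ge hle
    obtain ⟨k, hk⟩ := (hPX.to_subgroup (closure {b₁, b₂})).exists_card_eq
    rw [hB, hk]
    apply Nat.pow_le_pow_right hp.out.pos
    by_contra hcon
    have hcomm := isMulCommutative_of_card_pow_le_two (by omega : k ≤ 2) hk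
    apply hne
    have := hcomm.is_comm.comm (⟨b₁, subset_closure (by simp)⟩ : closure {b₁, b₂})
      ⟨b₂, subset_closure (by simp)⟩
    exact congrArg Subtype.val this
  set Zc := centralizer (B : Set X) with hZc
  have hcenZ : center X ≤ Zc := center_le_centralizer _
  haveI : Nontrivial X := by
    rw [← Finite.one_lt_card_iff_nontrivial, hX]
    exact Nat.one_lt_pow (by omega) hp.out.one_lt
  haveI := hPX.center_nontrivial
  -- order of Zc
  have hZc_card : Nat.card Zc ≤ p := by
    have h1 : Zc < Zc ⊔ zpowers b₁ := by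
      refine lt_of_le_of_ne le_sup_left ?_
      intro e
      have h2 : b₁ ∈ Zc := by
        rw [e]
        exact (le_sup_right : zpowers b₁ ≤ Zc ⊔ zpowers b₁) (mem_zpowers b₁)
      exact hne ((mem_centralizer_iff.1 h2 b₂ hb₂).symm)
    have h3 : Zc ⊔ zpowers b₁ ≤ centralizer {b₁} := by
      apply sup_le
      · intro c hc
        rw [mem_centralizer_singleton_iff]
        exact (mem_centralizer_iff.1 hc b₁ hb₁).symm
      · rw [zpowers_le, mem_centralizer_singleton_iff]
    have h4 : Zc ⊔ zpowers b₁ < B := by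
      refine lt_of_le_of_ne (sup_le hC (zpowers_le.2 hb₁)) ?_
      intro e
      have h5 : b₂ ∈ centralizer {b₁} := h3 (e ▸ hb₂)
      exact hne ((mem_centralizer_singleton_iff.1 h5).symm)
    obtain ⟨j, hj⟩ := (hPX.to_subgroup Zc).exists_card_eq
    obtain ⟨j', hj'⟩ := (hPX.to_subgroup (Zc ⊔ zpowers b₁)).exists_card_eq
    have h6 := card_lt_card_of_lt h1
    have h7 := card_lt_card_of_lt h4
    rw [hj, hj'] at h6
    rw [hj', hB] at h7
    have h8 := (Nat.pow_lt_pow_iff_right hp.out.one_lt).1 h6
    have h9 := (Nat.pow_lt_pow_iff_right hp.out.one_lt).1 h7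
    rw [hj]
    calc p ^ j ≤ p ^ 1 := Nat.pow_le_pow_right hp.out.pos (by omega)
      _ = p := pow_one p
  have hcen_card : p ≤ Nat.card (center X) := by
    obtain ⟨j, hj⟩ := (hPX.to_subgroup (center X)).exists_card_eq
    have h1 : 1 < Nat.card (center X) := Finite.one_lt_card
    rw [hj] at h1 ⊢
    have : j ≠ 0 := by
      rintro rfl
      simp at h1
    calc p = p ^ 1 := (pow_one p).symm
      _ ≤ p ^ j := Nat.pow_le_pow_right hp.out.pos (by omega)
  have hcen_eq : center X = Zc := eq_of_le_of_card_ge hcenZ (hZc_card.trans hcen_card)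
  have hcen_p : Nat.card (center X) = p :=
    le_antisymm (by rw [hcen_eq]; exact hZc_card) hcen_card
  set π := QuotientGroup.mk' (center X) with hπ
  have hsurj : Function.Surjective π := QuotientGroup.mk'_surjective _
  have hker : π.ker = center X := QuotientGroup.ker_mk' _
  have hcenB : center X ≤ B := hcenZ.trans hC
  have hcardQ : Nat.card (X ⧸ center X) = p ^ (n - 1) := by
    have := (center X).card_mul_index
    rw [hcen_p, hX, index_eq_card] at this
    have e : p ^ n = p * p ^ (n - 1) := by
      rw [← pow_succ']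
      congr 1
      omega
    rw [e] at this
    exact Nat.eq_of_mul_eq_mul_left hp.out.pos this
  have hcomap : (B.map π).comap π = B := by
    rw [comap_map_eq, hker]
    exact sup_eq_left.2 hcenB
  have hcardB : Nat.card (B.map π) = p ^ 2 := by
    have h1 := (B.map π).card_mul_index
    rw [← index_comap_of_surjective _ hsurj, hcomap, hcardQ] at h1
    have h2 := B.card_mul_index
    rw [hB, hX] at h2
    have hpos : 0 < B.index := Nat.pos_of_ne_zero B.index_ne_zero_of_finite
    have h3 : Nat.card (B.map π) * p * B.index = p ^ 2 * p * B.index := by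
      calc Nat.card (B.map π) * p * B.index = (Nat.card (B.map π) * B.index) * p := by ring
        _ = p ^ (n - 1) * p := by rw [h1]
        _ = p ^ n := by rw [← pow_succ]; congr 1; omega
        _ = p ^ 3 * B.index := h2.symm
        _ = p ^ 2 * p * B.index := by ring
    exact Nat.eq_of_mul_eq_mul_right hp.out.pos (Nat.eq_of_mul_eq_mul_right hpos h3)
  have hBcomm : IsMulCommutative (B.map π) := IsPGroup.isMulCommutative_of_card_eq_prime_sq hcardB
  set K := (centralizer ((B.map π : Subgroup (X ⧸ center X)) : Set (X ⧸ center X))).comap π with hK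
  have hBK : B ≤ K := by
    intro b hb
    rw [hK, mem_comap, mem_centralizer_iff]
    intro c hc
    have := hBcomm.is_comm.comm (⟨c, hc⟩ : B.map π) ⟨π b, mem_map_of_mem π hb⟩
    exact congrArg Subtype.val this
  have hKcomm : ∀ g ∈ K, ∀ b ∈ B, ⁅g, b⁆ ∈ center X := by
    intro g hg b hb
    rw [← hker, MonoidHom.mem_ker, map_commutatorElement, commutatorElement_eq_one_iff_mul_comm]
    rw [hK, mem_comap, mem_centralizer_iff] at hg
    exact (hg (π b) (mem_map_of_mem π hb)).symm
  have hZK : Zc ≤ K := hC.trans hBK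
  have hidx : Zc.relIndex K ≤ p ^ 2 := by
    have h1 : Nat.card (center X × center X) = p ^ 2 := by
      rw [Nat.card_prod, hcen_p, sq]
    rw [← h1]
    apply index_le_card_of_forall
      (fun g : K => ((⟨⁅(g : X), b₁⁆, hKcomm g g.2 b₁ hb₁⟩ : center X),
        (⟨⁅(g : X), b₂⁆, hKcomm g g.2 b₂ hb₂⟩ : center X)))
    intro g g' e
    simp only [Prod.mk.injEq, Subtype.mk.injEq] at e
    have h2 := eq_conj_of_comm_eq e.1
    have h3 := eq_conj_of_comm_eq e.2
    rw [mem_subgroupOf]
    have h4 : ((g⁻¹ * g' : K) : X) = (g : X)⁻¹ * g' := by simp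
    rw [h4]
    have h5 : closure {b₁, b₂} ≤ centralizer {(g : X)⁻¹ * g'} := by
      rw [closure_le]
      rintro x (rfl | rfl)
      · exact mem_centralizer_singleton_iff.2 h2.symm
      · exact mem_centralizer_singleton_iff.2 h3.symm
    rw [hgen] at h5
    rw [hZc, mem_centralizer_iff]
    intro b hb
    exact (mem_centralizer_singleton_iff.1 (h5 hb))
  have hKB : B = K := by
    apply eq_of_le_of_card_ge hBK
    rw [← card_mul_relIndex_of_le hZK, hB]
    calc Nat.card Zc * Zc.relIndex K ≤ p * p ^ 2 := Nat.mul_le_mul hZc_card hidx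
      _ = p ^ 3 := by ring
  have hself : centralizer ((B.map π : Subgroup (X ⧸ center X)) : Set (X ⧸ center X)) = B.map π := by
    rw [← map_comap_eq_self_of_surjective hsurj
      (centralizer ((B.map π : Subgroup (X ⧸ center X)) : Set (X ⧸ center X))), ← hK, ← hKB]
  have hmax := maximal_class_of_self_centralizing (n - 1) hcardQ (B.map π) hcardB hself
  haveI := hPX.isNilpotent
  rw [Group.nilpotencyClass_eq_quotient_center_plus_one, hmax]
  omega

end Cfsg.H1
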