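import Mathlib
import Cfsg.Prelude.Def_Transfer
import Cfsg.Agent.H1.Small2

set_option autoImplicit false

namespace Cfsg.H1

open Subgroup
open scoped Pointwise commutatorElement

variable {G : Type*} [Group G]

/-- If `c = x⁻¹ a(x)` is fixed by `a`, `c` is a `p`-element and `a` has order prime to `p`,
then `c = 1`. -/
theorem aut_fix_of_comm_fixed {p : ℕ} (a : MulAut G)
    (ha : Nat.Coprime (orderOf a) p) (x : G) (hfix : a (x⁻¹ * a x) = x⁻¹ * a x)
    (hp : ∃ k : ℕ, (x⁻¹ * a x) ^ p ^ k = 1) : a x = x := by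
  set c := x⁻¹ * a x with hc
  have h1 : ∀ n : ℕ, (a ^ n) x = x * c ^ n := by
    intro n
    induction n with
    | zero => simp
    | succ n ih =>
      rw [pow_succ', MulAut.mul_apply, ih, map_mul, map_pow, hfix, pow_succ']
      have : a x = x * c := by rw [hc]; group
      rw [this, mul_assoc]
  have h2 := h1 (orderOf a)
  rw [pow_orderOf_eq_one, MulAut.one_apply] at h2
  have h3 : c ^ orderOf a = 1 := by
    have := mul_left_cancel (a := x) (b := 1) (c := c ^ orderOf a) (by rw [mul_one]; exact h2)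
    exact this.symm
  obtain ⟨k, hk⟩ := hp
  have h4 : c = 1 := by
    have := pow_gcd_eq_one.2 ⟨h3, hk⟩
    rwa [Nat.Coprime.pow_right k ha, pow_one] at this
  have : a x = x * c := by rw [hc]; group
  rw [this, h4, mul_one]

/-- S0121 -/
theorem aut_trivial_of_trivial_on_self_centralizing [Finite G] {p : ℕ} [Fact p.Prime]
    (hG : IsPGroup p G) (H : Subgroup G) (hH : H.Characteristic)
    (h3 : Subgroup.centralizer (H : Set G) ≤ H) (a : MulAut G)
    (ha : Nat.Coprime (orderOf a) p) (h : ∀ x ∈ H, a x = x) : a = 1 := by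
  ext g
  rw [MulAut.one_apply]
  apply aut_fix_of_comm_fixed a ha g _ (hG _)
  apply h
  apply h3
  rw [mem_centralizer_iff]
  intro x hx
  haveI : H.Normal := normal_of_characteristic H
  have h1 : g * x * g⁻¹ ∈ H := (inferInstance : H.Normal).conj_mem x hx g
  have h2 := h _ h1
  rw [map_mul, map_mul, map_inv, h x hx] at h2
  calc x * (g⁻¹ * a g) = g⁻¹ * (g * x * g⁻¹) * a g := by group
    _ = g⁻¹ * (a g * x * (a g)⁻¹) * a g := by rw [h2]
    _ = g⁻¹ * a g * x := by group

end Cfsg.H1
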