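import Mathlib
import Cfsg.Prelude.Def_Transfer
import Cfsg.Agent.H1.PAut
import Cfsg.Agent.H1.Class2
import Cfsg.Agent.H1.Compl

set_option autoImplicit false

namespace Cfsg.H1

open Subgroup
open scoped Pointwise commutatorElement

variable {G : Type*} [Group G]

/-- the subgroup generated by commutators and `p`-th powers of `K`. -/
def agemo' (p : ℕ) (K : Subgroup G) : Subgroup G :=
  closure ({z | ∃ x ∈ K, ∃ y ∈ K, z = ⁅x, y⁆} ∪ {z | ∃ x ∈ K, z = x ^ p})

theorem agemo'_le (p : ℕ) (K : Subgroup G) : agemo' p K ≤ K := by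
  unfold agemo'
  rw [closure_le]
  rintro z (⟨x, hx, y, hy, rfl⟩ | ⟨x, hx, rfl⟩)
  · exact commutator_le_self K (commutator_mem_commutator hx hy)
  · exact pow_mem hx p

theorem comm_mem_agemo' (p : ℕ) {K : Subgroup G} {x y : G} (hx : x ∈ K) (hy : y ∈ K) :
    ⁅x, y⁆ ∈ agemo' p K := Subgroup.subset_closure (Or.inl ⟨x, hx, y, hy, rfl⟩)

theorem pow_mem_agemo' (p : ℕ) {K : Subgroup G} {x : G} (hx : x ∈ K) :
    x ^ p ∈ agemo' p K := Subgroup.subset_closure (Or.inr ⟨x, hx, rfl⟩)

theorem agemo'_lt [Finite G] {p : ℕ} [Fact p.Prime] {K : Subgroup G} (hK : IsPGroup p K)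
    (hne : K ≠ ⊥) : agemo' p K < K := by
  have h1 := frattini_pgroup_ge p hK
  have h2 : agemo' p K ≤ (frattini K).map K.subtype := by
    unfold agemo'
    rw [closure_le]
    rintro z (⟨x, hx, y, hy, rfl⟩ | ⟨x, hx, rfl⟩)
    · exact ⟨⁅(⟨x, hx⟩ : K), ⟨y, hy⟩⁆,
        h1.1 (commutator_mem_commutator (mem_top _) (mem_top _)), rfl⟩
    · exact ⟨(⟨x, hx⟩ : K) ^ p, h1.2 _, rfl⟩
  haveI : Nontrivial K := (Subgroup.nontrivial_iff_ne_bot K).2 hne
  have h3 : frattini K < ⊤ := by
    rcases eq_top_or_exists_le_coatom (⊥ : Subgroup K) with h | ⟨M, hM, -⟩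
    · exact absurd h bot_ne_top
    · exact lt_of_le_of_lt (frattini_le_coatom hM) hM.lt_top
  have h4 := (Subgroup.map_lt_map_iff_of_injective K.subtype_injective).2 h3
  rw [← MonoidHom.range_eq_map, range_subtype] at h4
  exact lt_of_le_of_lt h2 h4

theorem aut_trivial_of_omega_aux [Finite G] {p : ℕ} [Fact p.Prime] (hp : p ≠ 2)
    (hG : IsPGroup p G) (a : MulAut G) (ha : Nat.Coprime (orderOf a) p)
    (h : ∀ x : G, x ^ p = 1 → a x = x) (n : ℕ) :
    ∀ K : Subgroup G, Nat.card K = n → (∀ x ∈ K, a x ∈ K) → ∀ x ∈ K, a x = x := by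
  induction n using Nat.strong_induction_on with
  | _ n ih =>
    intro K hn hinv x hx
    by_cases hne : K = ⊥
    · subst hne
      rw [mem_bot] at hx
      rw [hx, map_one]
    have hKp : IsPGroup p K := hG.to_subgroup K
    set D := agemo' p K with hD
    have hDK : D ≤ K := agemo'_le p K
    have hDlt : D < K := agemo'_lt hKp hne
    have hDinv : ∀ d ∈ D, a d ∈ D := by
      intro d hd
      rw [hD] at hd
      unfold agemo' at hd
      induction hd using closure_induction with
      | mem z hz =>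
        rcases hz with ⟨x, hx, y, hy, rfl⟩ | ⟨x, hx, rfl⟩
        · rw [map_commutatorElement]
          exact comm_mem_agemo' p (hinv x hx) (hinv y hy)
        · rw [map_pow]
          exact pow_mem_agemo' p (hinv x hx)
      | one => rw [map_one]; exact one_mem _
      | mul u v _ _ hu hv => rw [map_mul]; exact mul_mem hu hv
      | inv u _ hu => rw [map_inv]; exact inv_mem hu
    have hDfix : ∀ d ∈ D, a d = d := ih _ (hn ▸ card_lt_of_lt hDlt) D rfl hDinv
    -- `C = C_K(D)`
    have hCinv : ∀ y ∈ K ⊓ centralizer (D : Set G), a y ∈ K ⊓ centralizer (D : Set G) := by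
      rintro y ⟨hyK, hyC⟩
      refine ⟨hinv y hyK, ?_⟩
      change a y ∈ centralizer (D : Set G)
      have hyC' : y ∈ centralizer (D : Set G) := hyC
      rw [mem_centralizer_iff] at hyC' ⊢
      intro d hd
      have := congrArg a (hyC' d hd)
      rwa [map_mul, map_mul, hDfix d hd] at this
    have hcC : ∀ y ∈ K, y⁻¹ * a y ∈ K ⊓ centralizer (D : Set G) := by
      intro y hy
      refine ⟨K.mul_mem (K.inv_mem hy) (hinv y hy), ?_⟩
      change y⁻¹ * a y ∈ centralizer (D : Set G)
      rw [mem_centralizer_iff]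
      intro d hd
      have h1 : y * d * y⁻¹ ∈ D := by
        have : y * d * y⁻¹ = ⁅y, d⁆ * d := by rw [commutatorElement_def]; group
        rw [this]
        exact mul_mem (comm_mem_agemo' p hy (hDK hd)) hd
      have h2 := hDfix _ h1
      rw [map_mul, map_mul, map_inv, hDfix d hd] at h2
      calc d * (y⁻¹ * a y) = y⁻¹ * (y * d * y⁻¹) * a y := by group
        _ = y⁻¹ * (a y * d * (a y)⁻¹) * a y := by rw [h2]
        _ = y⁻¹ * a y * d := by group
    apply aut_fix_of_comm_fixed a ha x _ (hG _)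
    by_cases hCK : K ⊓ centralizer (D : Set G) = K
    · -- `D` is central in `K`
      have hcen : ∀ d ∈ D, ∀ y ∈ K, Commute d y := by
        intro d hd y hy
        have : y ∈ centralizer (D : Set G) := (inf_eq_left.1 hCK) hy
        exact (mem_centralizer_iff.1 this) d hd
      apply h
      have hx' : x⁻¹ ∈ K := inv_mem hx
      have hax : a x ∈ K := hinv x hx
      have hz : ⁅a x, x⁻¹⁆ ∈ D := comm_mem_agemo' p hax hx'
      have c1 := hcen _ hz _ hx'
      have c2 := hcen _ hz _ hax
      rw [mul_pow_prime_of_comm_central Fact.out hp c1 c2]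
      · rw [← map_pow, hDfix _ (pow_mem_agemo' p hx), inv_pow, inv_mul_cancel]
      · rw [← commutator_pow_left_of_central c1 c2, commutatorElement_eq_one_iff_commute]
        exact hcen _ (pow_mem_agemo' p hax) _ hx'
    · have hlt : K ⊓ centralizer (D : Set G) < K := lt_of_le_of_ne inf_le_left hCK
      exact ih _ (hn ▸ card_lt_of_lt hlt) _ rfl hCinv _ (hcC x hx)

/-- S0120 -/
theorem aut_trivial_of_omega [Finite G] {p : ℕ} [Fact p.Prime] (hp : p ≠ 2)
    (hG : IsPGroup p G) (a : MulAut G) (ha : Nat.Coprime (orderOf a) p)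
    (h : ∀ x : G, x ^ p = 1 → a x = x) : a = 1 := by
  ext g
  exact aut_trivial_of_omega_aux hp hG a ha h _ ⊤ rfl (fun _ _ => mem_top _) g (mem_top g)

end Cfsg.H1
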