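import Mathlib
import Cfsg.Agent.H1.Fit
import Cfsg.Agent.H1.HallPrep

set_option autoImplicit false

namespace Cfsg.H1

open Subgroup
open scoped Pointwise

variable {G : Type*} [Group G]

theorem sSup_normal_coprime [Finite G] (p : ℕ) (S : Set (Subgroup G)) (hS : S.Finite)
    (h : ∀ N ∈ S, N.Normal ∧ (Nat.card N).Coprime p) :
    (sSup S).Normal ∧ (Nat.card (sSup S : Subgroup G)).Coprime p := by
  induction S, hS using Set.Finite.induction_on with
  | empty =>
    rw [sSup_empty]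
    exact ⟨inferInstance, by simp⟩
  | insert _ _ ih =>
    rename_i a s _ _
    rw [sSup_insert]
    obtain ⟨h1, h2⟩ := ih (fun N hN => h N (Set.mem_insert_of_mem _ hN))
    obtain ⟨h3, h4⟩ := h a (Set.mem_insert _ _)
    exact ⟨inferInstance, Nat.Coprime.coprime_dvd_left (card_sup_dvd a (sSup s))
      (Nat.Coprime.mul_left h4 h2)⟩

theorem pPrimeCore_coprime [Finite G] (p : ℕ) : (Nat.card (Cfsg.pPrimeCore p G)).Coprime p :=
  (sSup_normal_coprime p _ (Set.toFinite _) (fun _ hN => hN)).2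

theorem pPrimeCore_quotient [Finite G] (p : ℕ) [hO : (Cfsg.pPrimeCore p G).Normal] :
    Cfsg.pPrimeCore p (G ⧸ Cfsg.pPrimeCore p G) = ⊥ := by
  rw [eq_bot_iff]
  apply sSup_le
  rintro N ⟨hN1, hN2⟩
  have hf := QuotientGroup.mk'_surjective (Cfsg.pPrimeCore p G)
  have h1 : N.comap (QuotientGroup.mk' (Cfsg.pPrimeCore p G)) ≤ Cfsg.pPrimeCore p G := by
    apply le_pPrimeCore (hN1.comap _)
    rw [card_comap_mk']
    exact Nat.Coprime.mul_left hN2 (pPrimeCore_coprime p)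
  have h2 := map_mono (f := QuotientGroup.mk' (Cfsg.pPrimeCore p G)) h1
  rw [map_comap_eq_self_of_surjective hf] at h2
  apply h2.trans
  rw [le_bot_iff, Subgroup.map_eq_bot_iff, QuotientGroup.ker_mk']

/-- S0018 -/
theorem abelian_sylow_p_length_one [Finite G] [Group.IsSolvable G]
    (p : ℕ) [Fact p.Prime] (P : Sylow p G) (hP : IsMulCommutative P) :
    ((P : Subgroup G) ⊔ Cfsg.pPrimeCore p G).Normal := by
  have hO : (Cfsg.pPrimeCore p G).Normal := pPrimeCore_normal p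
  have hf := QuotientGroup.mk'_surjective (Cfsg.pPrimeCore p G)
  have h1 := centralizer_pCore_le (G := G ⧸ Cfsg.pPrimeCore p G) p (pPrimeCore_quotient p)
  let Pbar : Sylow p (G ⧸ Cfsg.pPrimeCore p G) := P.mapSurjective hf
  have hn := pCore_normal (G := G ⧸ Cfsg.pPrimeCore p G) p
  have h2 : Cfsg.pCore p (G ⧸ Cfsg.pPrimeCore p G) ≤ Pbar :=
    (pCore_isPGroup p).le_sylow_of_normal Pbar
  have hcomm : IsMulCommutative (Pbar : Subgroup (G ⧸ Cfsg.pPrimeCore p G)) := by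
    rw [isMulCommutative_iff] at hP ⊢
    rintro ⟨_, a, ha, rfl⟩ ⟨_, b, hb, rfl⟩
    apply Subtype.ext
    have := congrArg Subtype.val (hP ⟨a, ha⟩ ⟨b, hb⟩)
    change QuotientGroup.mk' _ a * QuotientGroup.mk' _ b =
      QuotientGroup.mk' _ b * QuotientGroup.mk' _ a
    rw [← map_mul, ← map_mul]
    exact congrArg _ this
  have h3 : (Pbar : Subgroup (G ⧸ Cfsg.pPrimeCore p G)) ≤ Cfsg.pCore p (G ⧸ Cfsg.pPrimeCore p G) :=
    ((Pbar : Subgroup (G ⧸ Cfsg.pPrimeCore p G)).le_centralizer.trans (centralizer_le h2)).trans h1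
  have h4 : (Pbar : Subgroup (G ⧸ Cfsg.pPrimeCore p G)) = Cfsg.pCore p (G ⧸ Cfsg.pPrimeCore p G) :=
    le_antisymm h3 h2
  have h5 : ((P : Subgroup G).map (QuotientGroup.mk' (Cfsg.pPrimeCore p G))).Normal := by
    change (Pbar : Subgroup (G ⧸ Cfsg.pPrimeCore p G)).Normal
    rw [h4]; exact hn
  have h6 := h5.comap (QuotientGroup.mk' (Cfsg.pPrimeCore p G))
  rwa [comap_map_eq, QuotientGroup.ker_mk'] at h6

end Cfsg.H1
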