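import Mathlib
import Cfsg.Prelude.Def_HallClasses
import Cfsg.Agent.H1.FrobNPC
import Cfsg.Agent.H1.Kegel1
import Cfsg.Agent.H1.Brodkey
import Cfsg.Agent.H1.Coprime

set_option autoImplicit false

namespace Cfsg.H1

open Subgroup
open scoped Pointwise

universe u

variable {G : Type u} [Group G]

theorem mem_of_pow_mem_of_coprime (C : Subgroup G) (y : G) {a b : ℕ} (hab : a.Coprime b)
    (ha : y ^ a ∈ C) (hb : y ^ b ∈ C) : y ∈ C := by
  have h := Nat.gcd_eq_gcd_ab a b
  rw [hab] at h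
  have h2 : y = (y ^ a) ^ (a.gcdA b) * (y ^ b) ^ (a.gcdB b) := by
    rw [← zpow_natCast y a, ← zpow_natCast y b, ← zpow_mul, ← zpow_mul, ← zpow_add, ← h]
    simp
  rw [h2]
  exact C.mul_mem (C.zpow_mem ha _) (C.zpow_mem hb _)

theorem exists_primePow_notMem [Finite G] (C : Subgroup G) :
    ∀ (n : ℕ) (y : G), orderOf y = n → y ∉ C →
      ∃ (q j m : ℕ), q.Prime ∧ y ^ m ∉ C ∧ orderOf (y ^ m) = q ^ j := by
  intro n
  induction n using Nat.strong_induction_on with
  | _ n ih =>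
    intro y hyn hy
    have hn0 : 0 < n := hyn ▸ orderOf_pos y
    have hn1 : n ≠ 1 := by
      intro h
      rw [h, orderOf_eq_one_iff] at hyn
      exact hy (hyn ▸ C.one_mem)
    set q := n.minFac with hq
    have hqp : q.Prime := Nat.minFac_prime hn1
    set a := q ^ n.factorization q with ha
    set b := n / a with hb
    have hadvd : a ∣ n := Nat.ordProj_dvd n q
    have hab : a * b = n := Nat.mul_div_cancel' hadvd
    have hcop : a.Coprime b := by
      apply Nat.Coprime.pow_left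
      exact Nat.coprime_ordCompl hqp hn0.ne'
    have ha0 : a ≠ 0 := (pow_pos hqp.pos _).ne'
    have hb0 : b ≠ 0 := by
      intro h
      rw [h, mul_zero] at hab
      omega
    have hbdvd : b ∣ n := ⟨a, by rw [mul_comm]; exact hab.symm⟩
    have ho_b : orderOf (y ^ b) = a := by
      rw [orderOf_pow_of_dvd hb0 (hyn ▸ hbdvd), hyn, ← hab, Nat.mul_div_cancel _ (Nat.pos_of_ne_zero hb0)]
    have ho_a : orderOf (y ^ a) = b := by
      rw [orderOf_pow_of_dvd ha0 (hyn ▸ hadvd), hyn]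
    by_cases h1 : y ^ b ∈ C
    · have h2 : y ^ a ∉ C := fun h => hy (mem_of_pow_mem_of_coprime C y hcop h h1)
      have ha1 : 1 < a := by
        have : 0 < n.factorization q :=
          (hqp.factorization_pos_of_dvd hn0.ne' (Nat.minFac_dvd n))
        exact Nat.one_lt_pow this.ne' hqp.one_lt
      have hbn : b < n := by
        rw [← hab]
        have : 0 < b := Nat.pos_of_ne_zero hb0
        nlinarith
      obtain ⟨q', j', m', hq', hm', ho'⟩ := ih b hbn (y ^ a) ho_a h2
      exact ⟨q', j', a * m', hq', by rwa [pow_mul], by rwa [pow_mul]⟩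
    · exact ⟨q, n.factorization q, b, hqp, h1, ho_b⟩

theorem pow_eq_one_of_mul_pow [Finite G] {σ τ : Set ℕ} (hd : Disjoint σ τ) {Hs Ht : Subgroup G}
    (hs : Cfsg.IsPiSubgroup σ Hs) (ht : Cfsg.IsPiSubgroup τ Ht)
    (hcomm : ∀ a ∈ Hs, ∀ b ∈ Ht, a * b = b * a) {a b : G} (ha : a ∈ Hs) (hb : b ∈ Ht) {n : ℕ}
    (h : (a * b) ^ n = 1) : a ^ n = 1 ∧ b ^ n = 1 := by
  have hcop : (Nat.card Hs).Coprime (Nat.card Ht) := by
    apply Nat.coprime_of_dvd
    intro k hk h1 h2
    exact (Set.disjoint_left.1 hd) (hs k hk h1) (ht k hk h2)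
  have hc : Commute a b := hcomm a ha b hb
  rw [hc.mul_pow] at h
  have h1 : a ^ n = (b ^ n)⁻¹ := eq_inv_of_mul_eq_one_left h
  have h2 : a ^ n ∈ Ht := by rw [h1]; exact Ht.inv_mem (Ht.pow_mem hb n)
  have h3 : a ^ n ∈ Hs := Hs.pow_mem ha n
  have h4 : orderOf (a ^ n) ∣ Nat.card Hs := by
    have := orderOf_dvd_natCard (⟨a ^ n, h3⟩ : Hs)
    rwa [Subgroup.orderOf_mk] at this
  have h5 : orderOf (a ^ n) ∣ Nat.card Ht := by
    have := orderOf_dvd_natCard (⟨a ^ n, h2⟩ : Ht)
    rwa [Subgroup.orderOf_mk] at this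
  have h6 : orderOf (a ^ n) = 1 := Nat.eq_one_of_dvd_coprimes hcop h4 h5
  have h7 : a ^ n = 1 := orderOf_eq_one_iff.1 h6
  refine ⟨h7, ?_⟩
  rw [h7, one_mul] at h
  exact h

theorem exists_mul_of_mem_sup {Hs Ht : Subgroup G}
    (hcomm : ∀ a ∈ Hs, ∀ b ∈ Ht, a * b = b * a) {x : G} (hx : x ∈ Hs ⊔ Ht) :
    ∃ a ∈ Hs, ∃ b ∈ Ht, x = a * b := by
  have hc : ∀ (m : Hs) (n : Ht), Commute (Hs.subtype m) (Ht.subtype n) :=
    fun a b => hcomm a a.2 b b.2
  have hr : (MonoidHom.noncommCoprod Hs.subtype Ht.subtype hc).range = Hs ⊔ Ht := by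
    rw [MonoidHom.noncommCoprod_range, Subgroup.range_subtype, Subgroup.range_subtype]
  rw [← hr] at hx
  obtain ⟨⟨a, b⟩, rfl⟩ := hx
  exact ⟨a, a.2, b, b.2, rfl⟩

theorem card_sup_dvd_of_commute [Finite G] {Hs Ht : Subgroup G}
    (hcomm : ∀ a ∈ Hs, ∀ b ∈ Ht, a * b = b * a) :
    Nat.card (Hs ⊔ Ht : Subgroup G) ∣ Nat.card Hs * Nat.card Ht := by
  have hc : ∀ (m : Hs) (n : Ht), Commute (Hs.subtype m) (Ht.subtype n) :=
    fun a b => hcomm a a.2 b b.2
  have hr : (MonoidHom.noncommCoprod Hs.subtype Ht.subtype hc).range = Hs ⊔ Ht := by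
    rw [MonoidHom.noncommCoprod_range, Subgroup.range_subtype, Subgroup.range_subtype]
  rw [← hr, ← Nat.card_prod]
  exact Subgroup.card_range_dvd _

theorem hall_prod_commute [Finite G] {σ τ : Set ℕ} (hd : Disjoint σ τ) {Hs Ht : Subgroup G}
    (hs : Cfsg.IsPiSubgroup σ Hs) (ht : Cfsg.IsPiSubgroup τ Ht) (hsn : Group.IsNilpotent Hs)
    (hcomm : ∀ a ∈ Hs, ∀ b ∈ Ht, a * b = b * a) {p : ℕ} (hp : p.Prime) (hpσ : p ∈ σ)
    {x y : G} (hx : x ∈ Hs ⊔ Ht) (hy : y ∈ Hs ⊔ Ht) (hxo : ∃ k, orderOf x = p ^ k)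
    (hyo : (orderOf y).Coprime p) : Commute x y := by
  obtain ⟨a, ha, b, hb, rfl⟩ := exists_mul_of_mem_sup hcomm hx
  obtain ⟨a', ha', b', hb', rfl⟩ := exists_mul_of_mem_sup hcomm hy
  obtain ⟨k, hk⟩ := hxo
  have h1 := pow_eq_one_of_mul_pow hd hs ht hcomm ha hb (n := p ^ k) (by rw [← hk, pow_orderOf_eq_one])
  have h2 := pow_eq_one_of_mul_pow hd hs ht hcomm ha' hb' (n := orderOf (a' * b'))
    (pow_orderOf_eq_one _)
  have hpt : ¬ p ∣ Nat.card Ht := fun h => (Set.disjoint_left.1 hd) hpσ (ht p hp h)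
  have hb1 : b = 1 := by
    have e1 : orderOf b ∣ p ^ k := orderOf_dvd_of_pow_eq_one h1.2
    have e2 : orderOf b ∣ Nat.card Ht := by
      have := orderOf_dvd_natCard (⟨b, hb⟩ : Ht)
      rwa [Subgroup.orderOf_mk] at this
    have e3 : (p ^ k).Coprime (Nat.card Ht) :=
      Nat.Coprime.pow_left _ ((Nat.Prime.coprime_iff_not_dvd hp).2 hpt)
    exact orderOf_eq_one_iff.1 (Nat.eq_one_of_dvd_coprimes e3 e1 e2)
  subst hb1
  rw [mul_one]
  have hoa : orderOf a ∣ p ^ k := orderOf_dvd_of_pow_eq_one h1.1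
  have hoa' : orderOf a' ∣ orderOf (a' * b') := orderOf_dvd_of_pow_eq_one h2.1
  have hcop : (orderOf a).Coprime (orderOf a') := by
    apply Nat.Coprime.coprime_dvd_left hoa
    apply Nat.Coprime.coprime_dvd_right hoa'
    exact Nat.Coprime.pow_left _ hyo.symm
  have hc1 : Commute a a' := by
    have := commute_of_coprime_of_nilpotent Hs ⟨a, ha⟩ ⟨a', ha'⟩
      (by rw [Subgroup.orderOf_mk, Subgroup.orderOf_mk]; exact hcop)
    exact congrArg Subtype.val this
  exact hc1.mul_right (hcomm a ha b' hb')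

theorem exists_sylow_le_of_hall [Finite G] {π : Set ℕ} {H : Subgroup G} (hH : Cfsg.IsPiHall π H)
    {r : ℕ} [hr : Fact r.Prime] (hrπ : r ∈ π) : ∃ S : Sylow r G, (S : Subgroup G) ≤ H := by
  let S0 : Sylow r H := default
  have hp : IsPGroup r ((S0 : Subgroup H).map H.subtype) := S0.2.map _
  have hidx : ¬ r ∣ ((S0 : Subgroup H).map H.subtype).index := by
    rw [Subgroup.index_map_subtype]
    intro h
    rcases (Nat.Prime.dvd_mul hr.out).1 h with h | h
    · exact S0.not_dvd_index h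
    · exact hH.2 r hr.out hrπ h
  refine ⟨hp.toSylow hidx, ?_⟩
  intro x hx
  obtain ⟨y, _, rfl⟩ := hx
  exact y.2

theorem conj_into_of_split [Finite G] {H W K R : Subgroup G} {r : ℕ} [Fact r.Prime]
    (S : Sylow r G) (hSH : (S : Subgroup G) ≤ H)
    (g0 : G) (hW : W ≤ MulAut.conj g0 • H)
    (hcomm : ∀ s ∈ (S : Subgroup G), ∀ w ∈ W, Commute s (g0⁻¹ * w * g0))
    (hKN : K ≤ normalizer (W : Set G)) (hRK : R ≤ K) (hR : IsPGroup r R) (hK : K ≤ W ⊔ R) :
    ∃ g : G, K ≤ MulAut.conj g • H := by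
  have hS1 : ((g0 • S : Sylow r G) : Subgroup G) ≤ normalizer (W : Set G) := by
    intro t ht
    rw [mem_sylow_smul_iff] at ht
    have hfix : ∀ w ∈ W, t * w * t⁻¹ = w := by
      intro w hw
      have h1 : (g0⁻¹ * t * g0) * (g0⁻¹ * w * g0) = (g0⁻¹ * w * g0) * (g0⁻¹ * t * g0) :=
        hcomm _ ht w hw
      have h2 : t * w = w * t := by
        have e1 : g0⁻¹ * (t * w) * g0 = g0⁻¹ * (w * t) * g0 := by
          calc g0⁻¹ * (t * w) * g0 = (g0⁻¹ * t * g0) * (g0⁻¹ * w * g0) := by group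
            _ = (g0⁻¹ * w * g0) * (g0⁻¹ * t * g0) := h1
            _ = g0⁻¹ * (w * t) * g0 := by group
        exact mul_left_cancel (mul_right_cancel e1)
      rw [h2, mul_inv_cancel_right]
    rw [mem_normalizer_iff]
    intro w
    constructor
    · intro hw
      rw [hfix w hw]; exact hw
    · intro hw
      have h2 := hfix _ hw
      have h3 : t * w * t⁻¹ = w := mul_left_cancel (mul_right_cancel h2)
      rw [← h3]; exact hw
  obtain ⟨n, hn, hle⟩ := exists_conj_le_sylow_of_le (g0 • S) hS1 (hRK.trans hKN) hR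
  refine ⟨n⁻¹ * g0, hK.trans (sup_le ?_ ?_)⟩
  · intro w hw
    rw [mem_conj_smul_iff]
    have h1 : n * w * n⁻¹ ∈ W := (mem_normalizer_iff.1 hn w).1 hw
    have h2 := hW h1
    rw [mem_conj_smul_iff] at h2
    convert h2 using 1
    group
  · intro ρ hρ
    have h1 : n * ρ * n⁻¹ ∈ ((g0 • S : Sylow r G) : Subgroup G) := by
      apply hle
      rw [mem_conj_smul_iff]
      have e1 : n⁻¹ * (n * ρ * n⁻¹) * n = ρ := by group
      rw [e1]; exact hρ
    rw [mem_sylow_smul_iff] at h1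
    rw [mem_conj_smul_iff]
    have := hSH h1
    convert this using 1
    group

theorem orderOf_conj' (g w : G) : orderOf (g⁻¹ * w * g) = orderOf w := by
  have := (MulAut.conj g⁻¹).orderOf_eq w
  simpa [MulAut.conj_apply] using this

theorem commute_of_conj_commute {g u y : G} (h : Commute (g⁻¹ * u * g) (g⁻¹ * y * g)) :
    Commute u y := by
  have h1 : (g⁻¹ * u * g) * (g⁻¹ * y * g) = (g⁻¹ * y * g) * (g⁻¹ * u * g) := h
  have e1 : g⁻¹ * (u * y) * g = g⁻¹ * (y * u) * g := by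
    calc g⁻¹ * (u * y) * g = (g⁻¹ * u * g) * (g⁻¹ * y * g) := by group
      _ = (g⁻¹ * y * g) * (g⁻¹ * u * g) := h1
      _ = g⁻¹ * (y * u) * g := by group
  exact mul_left_cancel (mul_right_cancel e1)

theorem hall_tau_maximal [Finite G] {σ τ π : Set ℕ} (hπ : π = σ ∪ τ) (hd : Disjoint σ τ)
    {H Hs Ht : Subgroup G} (hH : Cfsg.IsPiHall π H)
    (hs : Cfsg.IsPiSubgroup σ Hs) (ht : Cfsg.IsPiSubgroup τ Ht)
    (hjoin : Hs ⊔ Ht = H) (hcomm : ∀ a ∈ Hs, ∀ b ∈ Ht, a * b = b * a) :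
    Maximal (Cfsg.IsPiSubgroup τ) Ht := by
  refine ⟨ht, fun X hX hle => ?_⟩
  have c1 : (Nat.card X).Coprime H.index := by
    apply Nat.coprime_of_dvd
    intro k hk h1 h2
    exact hH.2 k hk (by rw [hπ]; exact Or.inr (hX k hk h1)) h2
  have c2 : (Nat.card X).Coprime (Nat.card Hs) := by
    apply Nat.coprime_of_dvd
    intro k hk h1 h2
    exact (Set.disjoint_left.1 hd) (hs k hk h2) (hX k hk h1)
  have d1 : Nat.card X ∣ Nat.card H * H.index := by
    rw [H.card_mul_index]; exact Subgroup.card_subgroup_dvd_card X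
  have d2 : Nat.card X ∣ Nat.card H := c1.dvd_of_dvd_mul_right d1
  have d3 : Nat.card X ∣ Nat.card Hs * Nat.card Ht :=
    d2.trans (hjoin ▸ card_sup_dvd_of_commute hcomm)
  have d4 : Nat.card X ∣ Nat.card Ht := c2.dvd_of_dvd_mul_left d3
  have := Subgroup.eq_of_le_of_card_ge hle (Nat.le_of_dvd Nat.card_pos d4)
  exact this.ge

theorem wielandt_hall_contain [Finite G] (σ τ π : Set ℕ) (hπ : π = σ ∪ τ) (hd : Disjoint σ τ)
    (H Hs Ht : Subgroup G) (hH : Cfsg.IsPiHall π H)
    (hs : Cfsg.IsPiSubgroup σ Hs) (ht : Cfsg.IsPiSubgroup τ Ht) (hsn : Group.IsNilpotent Hs)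
    (hjoin : Hs ⊔ Ht = H) (hcomm : ∀ a ∈ Hs, ∀ b ∈ Ht, a * b = b * a)
    (hD : Cfsg.IsDPiGroup τ G) :
    ∀ (n : ℕ) (K : Subgroup G), Nat.card K = n → Cfsg.IsPiSubgroup π K →
      ∃ g : G, K ≤ MulAut.conj g • H := by
  intro n
  induction n using Nat.strong_induction_on with
  | _ n ih =>
    intro K hKn hK
    by_cases hKτ : Cfsg.IsPiSubgroup τ K
    · obtain ⟨Ks, hKs⟩ := exists_maximal_of_wellFoundedGT
        (fun X : Subgroup G => Cfsg.IsPiSubgroup τ X ∧ K ≤ X) ⟨K, hKτ, le_rfl⟩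
      have hmax : Maximal (Cfsg.IsPiSubgroup τ) Ks :=
        ⟨hKs.1.1, fun Y hY hle => hKs.2 ⟨hY, hKs.1.2.trans hle⟩ hle⟩
      obtain ⟨g, hg⟩ := hD Ht Ks (hall_tau_maximal hπ hd hH hs ht hjoin hcomm) hmax
      refine ⟨g, fun x hx => ?_⟩
      have hx2 : x ∈ Ks := hKs.1.2 hx
      rw [hg] at hx2
      obtain ⟨t, ht', rfl⟩ := hx2
      rw [mem_conj_smul_iff]
      have e1 : g⁻¹ * (MulAut.conj g).toMonoidHom t * g = t := by
        simp [MulAut.conj_apply, mul_assoc]
      rw [e1, ← hjoin]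
      exact (le_sup_right : Ht ≤ Hs ⊔ Ht) ht'
    · unfold Cfsg.IsPiSubgroup at hKτ
      push Not at hKτ
      obtain ⟨p, hp, hpK, hpτ⟩ := hKτ
      have hpπ : p ∈ π := hK p hp hpK
      have hpσ : p ∈ σ := by
        rw [hπ] at hpπ
        exact hpπ.resolve_right hpτ
      haveI := Fact.mk hp
      have hC : ∀ x y, x ∈ H → y ∈ H → (∃ k, orderOf x = p ^ k) → (orderOf y).Coprime p →
          Commute x y := fun x y hx hy =>
        hall_prod_commute hd hs ht hsn hcomm hp hpσ (hjoin ▸ hx) (hjoin ▸ hy)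
      by_cases hnpc : Cfsg.HasNormalPComplement p K
      · obtain ⟨P, N, hN, hc⟩ := hnpc
        haveI := hN
        have hWK : N.map K.subtype ≤ K := map_subtype_le _
        have hcardW : Nat.card (N.map K.subtype) = Nat.card N :=
          card_map_of_injective K.subtype_injective
        have hmul := hc.card_mul_card
        have hP1 : 1 < Nat.card (P : Subgroup K) :=
          (one_lt_card_iff_ne_bot _).2 (P.ne_bot_of_dvd_card hpK)
        have hN0 : 0 < Nat.card N := Nat.card_pos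
        have hlt : Nat.card (N.map K.subtype) < n := by
          rw [hcardW, ← hKn, ← hmul]
          nlinarith
        have hWπ : Cfsg.IsPiSubgroup π (N.map K.subtype) :=
          fun r hr h => hK r hr (h.trans (card_dvd_of_le hWK))
        obtain ⟨g0, hg0⟩ := ih _ hlt _ rfl hWπ
        obtain ⟨S, hSH⟩ := exists_sylow_le_of_hall hH hpπ (r := p)
        apply conj_into_of_split S hSH g0 hg0 ?_ ?_
          (map_subtype_le _ : (P : Subgroup K).map K.subtype ≤ K) (P.2.map _) ?_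
        · intro s hs' w hw
          apply hC s _ (hSH hs') (mem_conj_smul_iff.1 (hg0 hw))
          · obtain ⟨k, hk⟩ := (IsPGroup.iff_orderOf.1 S.2) ⟨s, hs'⟩
            exact ⟨k, by rwa [Subgroup.orderOf_mk] at hk⟩
          · rw [orderOf_conj']
            obtain ⟨w0, hw0, rfl⟩ := hw
            have := (mem_normal_complement_iff P N hc w0).1 hw0
            rwa [Subgroup.coe_subtype, Subgroup.orderOf_coe]
        · rw [← normal_subgroupOf_iff_le_normalizer hWK]
          have : (N.map K.subtype).subgroupOf K = N :=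
            comap_map_eq_self_of_injective K.subtype_injective N
          rw [this]; exact hN
        · have h1 : N ⊔ (P : Subgroup K) = ⊤ := hc.sup_eq_top
          have h2 : (N ⊔ (P : Subgroup K)).map K.subtype
              = N.map K.subtype ⊔ (P : Subgroup K).map K.subtype := Subgroup.map_sup _ _ _
          rw [← h2, h1, ← MonoidHom.range_eq_map, Subgroup.range_subtype]
      · have hex : ∃ Q : Subgroup K, IsPGroup p Q ∧ ∃ g ∈ normalizer (Q : Set K),
            Nat.Coprime (orderOf g) p ∧ g ∉ centralizer (Q : Set K) := by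
          by_contra hcon
          push Not at hcon
          exact hnpc (frob_of_all (fun Q hQ g hg hgo => hcon Q hQ g hg hgo))
        obtain ⟨Q, hQ, y0, hy0N, hy0o, hy0C⟩ := hex
        obtain ⟨q, j, m, hq, hmC, hmo⟩ :=
          exists_primePow_notMem (centralizer (Q : Set K)) _ y0 rfl hy0C
        haveI := Fact.mk hq
        have hy1N : y0 ^ m ∈ normalizer (Q : Set K) := pow_mem hy0N m
        have hj : j ≠ 0 := by
          intro h
          rw [h, pow_zero, orderOf_eq_one_iff] at hmo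
          exact hmC (hmo ▸ one_mem _)
        have hqo : q ∣ orderOf (y0 ^ m) := by rw [hmo]; exact dvd_pow_self q hj
        have hqp : q ≠ p := by
          intro h
          have h1 : q ∣ orderOf y0 := hqo.trans (orderOf_pow_dvd m)
          rw [h] at h1
          exact (Nat.Prime.coprime_iff_not_dvd hp).1 hy0o.symm h1
        have hqK : q ∣ Nat.card K := hqo.trans (orderOf_dvd_natCard _)
        have hqπ : q ∈ π := hK q hq hqK
        have hyo : orderOf ((y0 ^ m : K) : G) = q ^ j := by rw [Subgroup.orderOf_coe, hmo]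
        have hycop : (orderOf ((y0 ^ m : K) : G)).Coprime p := by
          rw [hyo]
          exact Nat.Coprime.pow_left _ ((Nat.coprime_primes hq hp).2 hqp)
        have hUK : Q.map K.subtype ≤ K := map_subtype_le _
        have hRK : zpowers ((y0 ^ m : K) : G) ≤ K := (zpowers_le).2 (y0 ^ m).2
        have hUo : ∀ u ∈ Q.map K.subtype, ∃ k, orderOf u = p ^ k := by
          rintro _ ⟨u0, hu0, rfl⟩
          obtain ⟨k, hk⟩ := (IsPGroup.iff_orderOf.1 hQ) ⟨u0, hu0⟩
          refine ⟨k, ?_⟩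
          rw [Subgroup.orderOf_mk] at hk
          rwa [Subgroup.coe_subtype, Subgroup.orderOf_coe]
        have hXK : Q.map K.subtype ⊔ zpowers ((y0 ^ m : K) : G) ≤ K := sup_le hUK hRK
        have hX : Q.map K.subtype ⊔ zpowers ((y0 ^ m : K) : G) = K := by
          by_contra hne
          have hlt : Nat.card (Q.map K.subtype ⊔ zpowers ((y0 ^ m : K) : G) : Subgroup G) < n := by
            rw [← hKn]
            by_contra hge
            push Not at hge
            exact hne (Subgroup.eq_of_le_of_card_ge hXK hge)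
          obtain ⟨g, hg⟩ := ih _ hlt _ rfl
            (fun r hr h => hK r hr (h.trans (card_dvd_of_le hXK)))
          apply hmC
          rw [mem_centralizer_iff]
          intro u0 hu0
          have hu : (u0 : G) ∈ Q.map K.subtype := ⟨u0, hu0, rfl⟩
          have h1 := hC (g⁻¹ * (u0 : G) * g) (g⁻¹ * ((y0 ^ m : K) : G) * g)
            (mem_conj_smul_iff.1 (hg ((le_sup_left : Q.map K.subtype ≤ _) hu)))
            (mem_conj_smul_iff.1 (hg ((le_sup_right : zpowers ((y0 ^ m : K) : G) ≤ _)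
              (mem_zpowers _))))
            (by rw [orderOf_conj']; exact hUo _ hu) (by rw [orderOf_conj']; exact hycop)
          have h2 := commute_of_conj_commute h1
          exact Subtype.ext h2
        have hUlt : Nat.card (Q.map K.subtype) < n := by
          rw [← hKn]
          by_contra hge
          push Not at hge
          have hUeq := Subgroup.eq_of_le_of_card_ge hUK hge
          have hy : ((y0 ^ m : K) : G) ∈ Q.map K.subtype := by rw [hUeq]; exact (y0 ^ m).2
          obtain ⟨k, hk⟩ := hUo _ hy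
          rw [hyo] at hk
          have h1 : q ∣ p ^ k := by rw [← hk]; exact dvd_pow_self q hj
          exact hqp ((Nat.prime_dvd_prime_iff_eq hq hp).1 (hq.dvd_of_dvd_pow h1))
        obtain ⟨g0, hg0⟩ := ih _ hUlt _ rfl
          (fun r hr h => hK r hr (h.trans (card_dvd_of_le hUK)))
        obtain ⟨S, hSH⟩ := exists_sylow_le_of_hall hH hqπ (r := q)
        apply conj_into_of_split S hSH g0 hg0 ?_ ?_ hRK
          (IsPGroup.of_card (n := j) (by rw [Nat.card_zpowers, hyo])) hX.ge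
        · intro s hs' u hu
          apply Commute.symm
          apply hC _ s (mem_conj_smul_iff.1 (hg0 hu)) (hSH hs')
          · rw [orderOf_conj']; exact hUo u hu
          · obtain ⟨k, hk⟩ := (IsPGroup.iff_orderOf.1 S.2) ⟨s, hs'⟩
            rw [Subgroup.orderOf_mk] at hk
            rw [hk]
            exact Nat.Coprime.pow_left _ ((Nat.coprime_primes hq hp).2 hqp)
        · apply hX.ge.trans
          apply sup_le le_normalizer
          rw [zpowers_le]
          exact le_normalizer_map K.subtype ⟨y0 ^ m, hy1N, rfl⟩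

theorem wielandt_hall_D [Finite G] (σ τ π : Set ℕ) (hπ : π = σ ∪ τ) (hd : Disjoint σ τ)
    (H Hs Ht : Subgroup G) (hH : Cfsg.IsPiHall π H)
    (hs : Cfsg.IsPiSubgroup σ Hs) (ht : Cfsg.IsPiSubgroup τ Ht) (hsn : Group.IsNilpotent Hs)
    (hjoin : Hs ⊔ Ht = H) (hcomm : ∀ a ∈ Hs, ∀ b ∈ Ht, a * b = b * a)
    (hD : Cfsg.IsDPiGroup τ G) : Cfsg.IsDPiGroup π G := by
  have key : ∀ A : Subgroup G, Maximal (Cfsg.IsPiSubgroup π) A →
      ∃ g : G, A = MulAut.conj g • H := by
    intro A hA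
    obtain ⟨g, hg⟩ := wielandt_hall_contain σ τ π hπ hd H Hs Ht hH hs ht hsn hjoin hcomm hD _ A rfl
      hA.1
    refine ⟨g, le_antisymm hg (hA.2 ?_ hg)⟩
    intro r hr h
    rw [card_conj_smul] at h
    exact hH.1 r hr h
  intro A B hA hB
  obtain ⟨a, ha⟩ := key A hA
  obtain ⟨b, hb⟩ := key B hB
  refine ⟨b * a⁻¹, ?_⟩
  rw [ha, hb]
  ext x
  rw [mem_conj_smul_iff]
  constructor
  · intro hx
    refine ⟨a * (b⁻¹ * x * b) * a⁻¹, ?_, ?_⟩
    · rw [SetLike.mem_coe, mem_conj_smul_iff]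
      have e1 : a⁻¹ * (a * (b⁻¹ * x * b) * a⁻¹) * a = b⁻¹ * x * b := by group
      rw [e1]; exact hx
    · simp only [MulEquiv.coe_toMonoidHom, MulAut.conj_apply]
      group
  · rintro ⟨y, hy, rfl⟩
    rw [SetLike.mem_coe, mem_conj_smul_iff] at hy
    simp only [MulEquiv.coe_toMonoidHom, MulAut.conj_apply]
    have e1 : b⁻¹ * (b * a⁻¹ * y * (b * a⁻¹)⁻¹) * b = a⁻¹ * y * a := by group
    rw [e1]; exact hy

end Cfsg.H1
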